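import Cfsg.Agent.Lib.SmallRee.Props
import Cfsg.Agent.Lib.Classical.SL2
import Cfsg.Agent.Lib.Classical.SL2Two

/-!
The centraliser of an involution of the torus in a small Ree group, and elementary abelian Sylow 2-subgroups.
-/

set_option autoImplicit false
set_option maxRecDepth 20000

namespace Cfsg.Agent.SmallRee

open Cfsg.Lie Cfsg.Agent.Chev
open scoped MatrixGroups

variable {F : Type*} [Field F]

theorem neg_one_ne_one [CharP F 3] : (-1 : F) ≠ 1 := fun h => by
  have h3 : (3 : F) = 0 := by exact_mod_cast CharP.cast_eq_zero F 3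
  exact one_ne_zero (α := F) (by linear_combination h3 + h)

theorem z2_ne : Multiplicative.ofAdd (1 : ZMod 2) ≠ 1 := by decide

theorem z2_sq : Multiplicative.ofAdd (1 : ZMod 2) * Multiplicative.ofAdd (1 : ZMod 2) = 1 := by decide

theorem z2_cases : ∀ z : Multiplicative (ZMod 2), z = 1 ∨ z = Multiplicative.ofAdd (1 : ZMod 2) := by decide

theorem z2_cube : ∀ z : Multiplicative (ZMod 2) × (Multiplicative (ZMod 2) × Multiplicative (ZMod 2)), z * z = 1 := by
  decide

/-- An upper transvection. -/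
def sU (t : F) : SL(2, F) := ⟨!![1, t; 0, 1], by simp [Matrix.det_fin_two]⟩

/-- A lower transvection. -/
def sL (t : F) : SL(2, F) := ⟨!![1, 0; t, 1], by simp [Matrix.det_fin_two]⟩

theorem sl2_top {M : Subgroup SL(2, F)} (hU : ∀ t, sU t ∈ M) (hL : ∀ t, sL t ∈ M) : M = ⊤ := by
  rw [eq_top_iff, ← Cfsg.Agent.Classical.closure_transvection_eq_top (ι := Fin 2) (F := F), Subgroup.closure_le]
  rintro _ ⟨i, j, hij, c, rfl⟩
  fin_cases i <;> fin_cases j
  · exact absurd rfl hij
  · refine (?_ : Matrix.SpecialLinearGroup.transvection hij c = sU c) ▸ hU c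
    ext a b
    fin_cases a <;> fin_cases b <;> simp [sU, Matrix.SpecialLinearGroup.transvection, Matrix.transvection]
  · refine (?_ : Matrix.SpecialLinearGroup.transvection hij c = sL c) ▸ hL c
    ext a b
    fin_cases a <;> fin_cases b <;> simp [sL, Matrix.SpecialLinearGroup.transvection, Matrix.transvection]
  · exact absurd rfl hij

namespace Tw

variable (S : Tw F) [CharP F 3]

theorem coe_pair (b : Bool) (u : F) : ((S.Rw b 0 u 0 : ↥(chevG2.group F)) : GL chevG2.Idx F) =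
    ((Y b 8 (S.th u) : ↥(chevG2.group F)) : GL chevG2.Idx F) * ((Y b 10 u : ↥(chevG2.group F)) : GL chevG2.Idx F) := by
  rw [S.Rw_pair]; rfl

/-- The negative generator of the orthogonal pair. -/
def Rl (u : F) : ↥S.Gr := ⟨_, S.mem_Gr'.mpr (S.sg_Rw false 0 u 0)⟩

theorem exists_sl2 : ∃ φ : SL(2, F) →* ↥S.Gr,
    (∀ t, φ (sU t) = S.R 0 t 0) ∧ (∀ t, φ (sL t) = S.Rl (-t)) := by
  classical
  have h8 : 8 < chevG2.nroots := by decide +kernel
  have h10 : 10 < chevG2.nroots := by decide +kernel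
  obtain ⟨f, -, hf⟩ := G2.okx.toOK.exists_sl2_hom (F := F) h8
  obtain ⟨g, -, hg⟩ := G2.okx.toOK.exists_sl2_hom (F := F) h10
  have e8 : chevG2.neg 8 = 3 := by decide +kernel
  have e10 : chevG2.neg 10 = 1 := by decide +kernel
  rw [e8] at hf
  rw [e10] at hg
  have fU : ∀ t, f (sU t) = G2.okx.toOK.xG 8 t := fun t =>
    Units.ext (((hf (sU t) t).1 rfl).trans (G2.okx.toOK.coe_xG 8 t).symm)
  have fL : ∀ t, f (sL t) = G2.okx.toOK.xG 3 t := fun t =>
    Units.ext (((hf (sL t) t).2 rfl).trans (G2.okx.toOK.coe_xG 3 t).symm)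
  have gU : ∀ t, g (sU t) = G2.okx.toOK.xG 10 t := fun t =>
    Units.ext (((hg (sU t) t).1 rfl).trans (G2.okx.toOK.coe_xG 10 t).symm)
  have gL : ∀ t, g (sL t) = G2.okx.toOK.xG 1 t := fun t =>
    Units.ext (((hg (sL t) t).2 rfl).trans (G2.okx.toOK.coe_xG 1 t).symm)
  set fθ : SL(2, F) →* GL chevG2.Idx F := f.comp (Matrix.SpecialLinearGroup.map S.th)
  have mU : ∀ t, Matrix.SpecialLinearGroup.map S.th (sU t) = sU (S.th t) := fun t => by
    refine Subtype.ext ?_
    show (!![1, t; 0, 1] : Matrix (Fin 2) (Fin 2) F).map S.th = !![1, S.th t; 0, 1]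
    ext a b; fin_cases a <;> fin_cases b <;> simp
  have mL : ∀ t, Matrix.SpecialLinearGroup.map S.th (sL t) = sL (S.th t) := fun t => by
    refine Subtype.ext ?_
    show (!![1, 0; t, 1] : Matrix (Fin 2) (Fin 2) F).map S.th = !![1, 0; S.th t, 1]
    ext a b; fin_cases a <;> fin_cases b <;> simp
  have hpc : ∀ r ∈ [8, 3], ∀ s ∈ [10, 1], ∀ a b : F,
      Commute (G2.okx.toOK.xG r a) (G2.okx.toOK.xG s b) := fun r hr s hs a b =>
    congrArg (fun z : ↥(chevG2.group F) => (z : GL chevG2.Idx F)) (pair_commute r s hr hs a b).eq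
  have hcomm : ∀ x y, Commute (fθ x) (g y) := by
    have h1 : ∀ x, (x = sU (1 : F) → True) := fun _ _ => trivial
    have key : ∀ r ∈ [8, 3], ∀ a : F, ∀ y, Commute (G2.okx.toOK.xG r a) (g y) := by
      intro r hr a y
      have : y ∈ (Subgroup.centralizer {G2.okx.toOK.xG r a}).comap g := by
        rw [sl2_top (M := (Subgroup.centralizer {G2.okx.toOK.xG r a}).comap g)]
        · trivial
        · intro t
          rw [Subgroup.mem_comap, Subgroup.mem_centralizer_iff]
          rintro z rfl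
          rw [gU]; exact (hpc r hr 10 (by simp) a t).eq
        · intro t
          rw [Subgroup.mem_comap, Subgroup.mem_centralizer_iff]
          rintro z rfl
          rw [gL]; exact (hpc r hr 1 (by simp) a t).eq
      exact Subgroup.mem_centralizer_iff.mp (Subgroup.mem_comap.mp this) _ rfl
    intro x y
    have : x ∈ (Subgroup.centralizer {g y}).comap fθ := by
      rw [sl2_top (M := (Subgroup.centralizer {g y}).comap fθ)]
      · trivial
      · intro t
        rw [Subgroup.mem_comap, Subgroup.mem_centralizer_iff]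
        rintro z rfl
        rw [MonoidHom.comp_apply, mU, fU]; exact (key 8 (by simp) _ y).symm.eq
      · intro t
        rw [Subgroup.mem_comap, Subgroup.mem_centralizer_iff]
        rintro z rfl
        rw [MonoidHom.comp_apply, mL, fL]; exact (key 3 (by simp) _ y).symm.eq
    exact (Subgroup.mem_centralizer_iff.mp (Subgroup.mem_comap.mp this) _ rfl).symm
  let ψ : SL(2, F) →* GL chevG2.Idx F := MonoidHom.mk' (fun x => fθ x * g x) fun x y => by
    rw [map_mul, map_mul]
    exact (hcomm y x).mul_mul_mul_comm _ _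
  have vU : ∀ t, ψ (sU t) = (S.R 0 t 0 : GL chevG2.Idx F) := fun t => by
    show fθ (sU t) * g (sU t) = _
    rw [MonoidHom.comp_apply, mU, fU, gU, coe_R, S.coe_pair]
    rfl
  have vL : ∀ t, ψ (sL t) = (S.Rl (-t) : GL chevG2.Idx F) := fun t => by
    show fθ (sL t) * g (sL t) = ((S.Rw false 0 (-t) 0 : ↥(chevG2.group F)) : GL chevG2.Idx F)
    rw [MonoidHom.comp_apply, mL, fL, gL, S.coe_pair, map_neg]
    simp [Y, coe_X]
  have hmem : ∀ x, ψ x ∈ S.Gr := by
    intro x
    have : x ∈ S.Gr.comap ψ := by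
      rw [sl2_top (M := S.Gr.comap ψ)]
      · trivial
      · exact fun t => by rw [Subgroup.mem_comap, vU]; exact (S.R 0 t 0).2
      · exact fun t => by rw [Subgroup.mem_comap, vL]; exact (S.Rl (-t)).2
    exact this
  exact ⟨ψ.codRestrict S.Gr hmem, fun t => Subtype.ext (vU t), fun t => Subtype.ext (vL t)⟩

theorem a_comm_R (u : F) : S.D (-1) * S.R 0 u 0 = S.R 0 u 0 * S.D (-1) := by
  have h := S.D_conj (-1) 0 u 0
  rw [mul_zero, mul_zero, show S.beta (-1) = 1 by
    rw [beta, Units.val_neg, Units.val_one, map_neg, map_one, Odd.neg_one_pow (show Odd 3 by decide),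
      div_self (neg_ne_zero.mpr one_ne_zero)], one_mul] at h
  exact mul_inv_eq_iff_eq_mul.mp h

theorem a_comm_Rl (u : F) : S.D (-1) * S.Rl u = S.Rl u * S.D (-1) := by
  refine mul_inv_eq_iff_eq_mul.mp (Subtype.ext ?_)
  have h1 : (-1 : F) ≠ 0 := neg_ne_zero.mpr one_ne_zero
  have e : S.Ht (-1) * S.Rw false 0 u 0 * (S.Ht (-1))⁻¹ = S.Rw false 0 u 0 := by
    rw [S.Ht_def, Units.val_neg, Units.val_one, map_neg, map_one, S.Rw_pair]
    show tor (-1) (-1) * (X 3 (-S.th u) * X 1 (-u)) * (tor (-1) (-1))⁻¹ = X 3 (-S.th u) * X 1 (-u)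
    have c3 := tor_conj h1 h1 (r := 3) (A := 1) (B := -1) (by decide +kernel) (by decide +kernel) (by decide +kernel)
      (-S.th u)
    have c1 := tor_conj h1 h1 (r := 1) (A := -3) (B := 1) (by decide +kernel) (by decide +kernel) (by decide +kernel)
      (-u)
    rw [conj_mul.symm, c3, c1]
    simp [zpow_neg, Odd.neg_one_pow (show Odd 3 by decide)]
  exact congrArg (fun z : ↥(chevG2.group F) => (z : GL chevG2.Idx F)) e

variable [Fintype F]

theorem centralizer_cases {m : ℕ} (hK : Fintype.card F = 3 ^ (2 * m + 1)) {g : ↥S.Gr}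
    (hg : g ∈ Subgroup.centralizer {S.D (-1)}) :
    (∃ (u : F) (v : Fˣ), g = S.R 0 u 0 * S.D v) ∨
      ∃ (u : F) (v : Fˣ) (u' : F), g = S.R 0 u 0 * S.D v * S.w₀ * S.R 0 u' 0 := by
  have hc : S.D (-1) * g * (S.D (-1))⁻¹ = g := by
    rw [Subgroup.mem_centralizer_iff.mp hg _ rfl, mul_inv_cancel_right]
  have hfix : ∀ {t u w : F}, S.R (S.alpha (-1) * t) (S.beta (-1) * u) (((-1 : Fˣ) : F) * w) = S.R t u w →
      t = 0 ∧ w = 0 := by
    intro t u w h
    obtain ⟨h1, -, h3⟩ := S.R_inj h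
    have hα : S.alpha (-1) = -1 := by
      rw [alpha, Units.val_neg, Units.val_one, map_neg, map_one, Odd.neg_one_pow (show Odd 3 by decide)]
      ring
    rw [hα] at h1
    rw [Units.val_neg, Units.val_one] at h3
    exact ⟨by_contra fun ht => neg_one_ne_one (mul_right_cancel₀ ht (h1.trans (one_mul t).symm)),
      by_contra fun hw => neg_one_ne_one (mul_right_cancel₀ hw (h3.trans (one_mul w).symm))⟩
  rcases S.cases g with h | ⟨t, u, w, v, t', u', w', rfl⟩
  · obtain ⟨t, u, w, v, rfl⟩ := S.mem_B.mp h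
    rw [show S.D (-1) * (S.R t u w * S.D v) * (S.D (-1))⁻¹ = (S.D (-1) * S.R t u w * (S.D (-1))⁻¹) * S.D v by
      rw [← map_inv, mul_assoc _ (S.R t u w * S.D v), mul_assoc (S.R t u w), ← map_mul, mul_comm v, map_mul]
      simp only [mul_assoc], S.D_conj] at hc
    obtain ⟨e1, e2, e3, -⟩ := S.RD_inj hc
    obtain ⟨rfl, rfl⟩ := hfix (by rw [e1, e2, e3])
    exact Or.inl ⟨u, v, rfl⟩
  · have hw0 : S.D (-1) * S.w₀ = S.w₀ * S.D (-1) := by
      rw [S.w₀_D hK, inv_neg, inv_one]
    have e : S.D (-1) * (S.R t u w * S.D v * S.w₀ * S.R t' u' w') * (S.D (-1))⁻¹ =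
        (S.D (-1) * S.R t u w * (S.D (-1))⁻¹) * S.D v * S.w₀ * (S.D (-1) * S.R t' u' w' * (S.D (-1))⁻¹) := by
      have hv : S.D (-1) * S.D v = S.D v * S.D (-1) := by rw [← map_mul, ← map_mul, mul_comm]
      calc S.D (-1) * (S.R t u w * S.D v * S.w₀ * S.R t' u' w') * (S.D (-1))⁻¹
          = S.D (-1) * S.R t u w * (S.D (-1))⁻¹ * ((S.D (-1) * S.D v) * S.w₀ * S.R t' u' w' * (S.D (-1))⁻¹) := by
            simp [mul_assoc]
        _ = S.D (-1) * S.R t u w * (S.D (-1))⁻¹ * (S.D v * (S.D (-1) * S.w₀) * S.R t' u' w' * (S.D (-1))⁻¹) := by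
            rw [hv]; simp only [mul_assoc]
        _ = _ := by rw [hw0]; simp only [mul_assoc]
    rw [e, S.D_conj, S.D_conj] at hc
    have hB : ∀ a b c : F, S.R a b c * S.D v ∈ S.BB := fun a b c => S.mem_B.mpr ⟨_, _, _, _, rfl⟩
    obtain ⟨h1, h2⟩ := S.big_inj (hB _ _ _) (hB _ _ _) (S.R_mem_U _ _ _) (S.R_mem_U _ _ _) hc
    obtain ⟨e1, e2, e3, -⟩ := S.RD_inj h1
    obtain ⟨rfl, rfl⟩ := hfix (by rw [e1, e2, e3])
    obtain ⟨rfl, rfl⟩ := hfix h2
    exact Or.inr ⟨u, v, u', rfl⟩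

theorem exists_centralizer_equiv {m : ℕ} (hK : Fintype.card F = 3 ^ (2 * m + 1)) :
    Nonempty (↥(Subgroup.centralizer {S.D (-1)}) ≃*
      Multiplicative (ZMod 2) × Matrix.ProjectiveSpecialLinearGroup (Fin 2) F) := by
  classical
  obtain ⟨φ, hU, hL⟩ := S.exists_sl2
  set a := S.D (-1)
  set C := Subgroup.centralizer {a}
  have hw : φ (sU 1 * sL (-1) * sU 1) = S.w₀ := by
    rw [map_mul, map_mul, hU, hL, neg_neg]
    refine Subtype.ext ?_
    have := congrArg (fun z : ↥(chevG2.group F) => (z : GL chevG2.Idx F)) (S.nn_word 1)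
    rw [inv_one] at this
    exact this.symm
  have hmid : (sU 1 * sL (-1) * sU 1) * (sU 1 * sL (-1) * sU 1) = (Cfsg.Agent.Classical.SL2Two.negOne : SL(2, F)) := by
    refine Subtype.ext ?_
    rw [Cfsg.Agent.Classical.SL2Two.coe_negOne]
    show (!![1, 1; 0, 1] : Matrix (Fin 2) (Fin 2) F) * (!![1, 0; -1, 1] : Matrix (Fin 2) (Fin 2) F) * (!![1, 1; 0, 1] : Matrix (Fin 2) (Fin 2) F) *
      ((!![1, 1; 0, 1] : Matrix (Fin 2) (Fin 2) F) * (!![1, 0; -1, 1] : Matrix (Fin 2) (Fin 2) F) * (!![1, 1; 0, 1] : Matrix (Fin 2) (Fin 2) F)) = -1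
    ext i j
    fin_cases i <;> fin_cases j <;> simp [Matrix.mul_apply, Fin.sum_univ_two]
  have hker : Subgroup.center SL(2, F) ≤ φ.ker := by
    intro z hz
    rcases (Cfsg.Agent.Classical.SL2Two.mem_center_iff z).mp hz with rfl | rfl
    · exact one_mem _
    · rw [MonoidHom.mem_ker, ← hmid, map_mul, hw, S.w₀_sq]
  let φbar : Matrix.ProjectiveSpecialLinearGroup (Fin 2) F →* ↥S.Gr := QuotientGroup.lift _ φ hker
  have hcen : ∀ x, a * φ x = φ x * a := by
    intro x
    have : x ∈ C.comap φ := by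
      rw [sl2_top (M := C.comap φ)]
      · trivial
      · intro t
        rw [Subgroup.mem_comap, Subgroup.mem_centralizer_iff]
        rintro z rfl
        rw [hU]; exact S.a_comm_R t
      · intro t
        rw [Subgroup.mem_comap, Subgroup.mem_centralizer_iff]
        rintro z rfl
        rw [hL]; exact S.a_comm_Rl _
    exact Subgroup.mem_centralizer_iff.mp (Subgroup.mem_comap.mp this) a rfl
  have ha2 : a * a = 1 := by rw [← map_mul, neg_one_mul, neg_neg, map_one]
  let χ : Multiplicative (ZMod 2) →* ↥S.Gr := MonoidHom.mk' (fun e => if e = 1 then 1 else a) fun e f => by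
    have h : ∀ e : Multiplicative (ZMod 2), e = 1 ∨ e = Multiplicative.ofAdd (1 : ZMod 2) := by decide
    rcases h e with rfl | rfl <;> rcases h f with rfl | rfl <;>
      simp [show Multiplicative.ofAdd (1 : ZMod 2) ≠ 1 by decide,
        show Multiplicative.ofAdd (1 : ZMod 2) * Multiplicative.ofAdd (1 : ZMod 2) = 1 by decide, ha2]
  have hχ : ∀ e, χ e = 1 ∨ χ e = a := fun e => by
    show (if e = 1 then 1 else a) = 1 ∨ (if e = 1 then 1 else a) = a
    by_cases h : e = 1 <;> simp [h]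
  have hcomm : ∀ e q, Commute (χ e) (φbar q) := by
    intro e q
    obtain ⟨x, rfl⟩ := QuotientGroup.mk_surjective q
    rcases hχ e with h | h <;> rw [h]
    · exact Commute.one_left _
    · exact hcen x
  let Ψ := MonoidHom.noncommCoprod χ φbar hcomm
  have hΨ : ∀ e q, Ψ (e, q) = χ e * φbar q := fun _ _ => rfl
  have hmem : ∀ p, Ψ p ∈ C := by
    rintro ⟨e, q⟩
    obtain ⟨x, rfl⟩ := QuotientGroup.mk_surjective q
    rw [Subgroup.mem_centralizer_iff]
    rintro z rfl
    rw [hΨ]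
    have h1 : Commute a (χ e) := by
      rcases hχ e with h | h <;> rw [h]
      · exact Commute.one_right _
    exact (h1.mul_right (hcen x)).eq
  let Φ := Ψ.codRestrict C hmem
  have hsurj : Function.Surjective Φ := by
    rintro ⟨g, hg⟩
    suffices g ∈ Ψ.range by
      obtain ⟨p, rfl⟩ := this
      exact ⟨p, rfl⟩
    have hone : χ (Multiplicative.ofAdd (1 : ZMod 2)) = a := by
      show (if Multiplicative.ofAdd (1 : ZMod 2) = 1 then 1 else a) = a
      exact if_neg (by decide)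
    have ha : a ∈ Ψ.range := ⟨(Multiplicative.ofAdd (1 : ZMod 2), 1), by rw [hΨ, hone, map_one, mul_one]⟩
    have hφ : ∀ x, φ x ∈ Ψ.range := fun x => ⟨(1, QuotientGroup.mk x), by rw [hΨ, map_one, one_mul]; rfl⟩
    have hR : ∀ u, S.R 0 u 0 ∈ Ψ.range := fun u => hU u ▸ hφ _
    have hwr : S.w₀ ∈ Ψ.range := hw ▸ hφ _
    have hsq : ∀ w : Fˣ, S.D (w ^ 2) ∈ Ψ.range := by
      intro w
      have hu : S.th (w : F) ^ 3 / (w : F) ≠ 0 := div_ne_zero (pow_ne_zero _ (S.th_ne w)) w.ne_zero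
      set u := S.th (w : F) ^ 3 / (w : F)
      have h1 : φ (sU u * sL (-u⁻¹) * sU u) = S.D (w ^ 2) * S.w₀ := by
        rw [map_mul, map_mul, hU, hL, neg_neg]
        refine Subtype.ext ?_
        have h := congrArg (fun z : ↥(chevG2.group F) => (z : GL chevG2.Idx F)) ((S.nn_word u).symm.trans (S.nn_eq hu))
        refine h.trans ?_
        rw [show (Units.mk0 _ (mul_ne_zero (pow_ne_zero _ ((map_ne_zero S.th).mpr hu)) hu) : Fˣ) = w ^ 2 from
          Units.ext (by rw [Units.val_mk0, Units.val_pow_eq_pow_val]; exact S.sq_inv_formula w.ne_zero)]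
        rfl
      have h2 := mul_mem (h1 ▸ hφ (sU u * sL (-u⁻¹) * sU u)) hwr
      rwa [mul_assoc, S.w₀_sq, mul_one] at h2
    have hD : ∀ v : Fˣ, S.D v ∈ Ψ.range := by
      intro v
      obtain ⟨w, rfl | rfl⟩ := sq_or_neg_sq hK v
      · exact hsq w
      · rw [map_mul]; exact mul_mem ha (hsq w)
    rcases S.centralizer_cases hK hg with ⟨u, v, rfl⟩ | ⟨u, v, u', rfl⟩
    · exact mul_mem (hR u) (hD v)
    · exact mul_mem (mul_mem (mul_mem (hR u) (hD v)) hwr) (hR u')
  have hbeta : ∀ u : F, a * S.R 0 u 0 = S.R 0 u 0 * a := S.a_comm_R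
  have hcard : Nat.card (Multiplicative (ZMod 2) × Matrix.ProjectiveSpecialLinearGroup (Fin 2) F) = Nat.card ↥C := by
    have hDc : ∀ v : Fˣ, a * S.D v = S.D v * a := fun v => by rw [← map_mul, ← map_mul, mul_comm]
    have hwc : a * S.w₀ = S.w₀ * a := by
      rw [S.w₀_D hK, inv_neg, inv_one]
    have hC : ∀ g : ↥S.Gr, a * g = g * a → g ∈ C := fun g h => Subgroup.mem_centralizer_iff.mpr fun z hz => by
      rw [hz]; exact h
    let f : (F × Fˣ) ⊕ (F × Fˣ × F) → ↥C := fun p => match p with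
      | .inl (u, v) => ⟨S.R 0 u 0 * S.D v, hC _ ((Commute.mul_right (hbeta u) (hDc v)).eq)⟩
      | .inr (u, v, u') => ⟨S.R 0 u 0 * S.D v * S.w₀ * S.R 0 u' 0,
          hC _ (((Commute.mul_right (hbeta u) (hDc v)).mul_right hwc).mul_right (hbeta u')).eq⟩
    have hf : Function.Bijective f := by
      constructor
      · intro p q h
        have h' := congrArg Subtype.val h
        rcases p with ⟨u, v⟩ | ⟨u, v, u'⟩ <;> rcases q with ⟨x, y⟩ | ⟨x, y, x'⟩ <;> simp only [f] at h'
        · have := S.param_bij.1 (a₁ := .inl ((0, u, 0), v)) (a₂ := .inl ((0, x, 0), y)) h'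
          simp at this; rw [this.1, this.2]
        · exact Sum.inl_ne_inr (S.param_bij.1 (a₁ := .inl ((0, u, 0), v)) (a₂ := .inr ((0, x, 0), y, (0, x', 0))) h') |>.elim
        · exact Sum.inr_ne_inl (S.param_bij.1 (a₁ := .inr ((0, u, 0), v, (0, u', 0))) (a₂ := .inl ((0, x, 0), y)) h') |>.elim
        · have := S.param_bij.1 (a₁ := .inr ((0, u, 0), v, (0, u', 0))) (a₂ := .inr ((0, x, 0), y, (0, x', 0))) h'
          simp at this; rw [this.1, this.2.1, this.2.2]
      · rintro ⟨g, hg⟩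
        rcases S.centralizer_cases hK hg with ⟨u, v, rfl⟩ | ⟨u, v, u', rfl⟩
        · exact ⟨.inl (u, v), rfl⟩
        · exact ⟨.inr (u, v, u'), rfl⟩
    rw [← Nat.card_eq_of_bijective f hf, Nat.card_prod, Nat.card_eq_fintype_card (α := (F × Fˣ) ⊕ (F × Fˣ × F)),
      Fintype.card_sum, Fintype.card_prod, Fintype.card_prod, Fintype.card_prod, Fintype.card_units,
      Nat.card_congr Multiplicative.toAdd, Nat.card_zmod]
    have h2 : Nat.gcd 2 (Fintype.card F - 1) = 2 := by
      refine Nat.gcd_eq_left (Nat.dvd_of_mod_eq_zero ?_)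
      have : Fintype.card F % 2 = 1 := by rw [hK, Nat.pow_mod]; norm_num
      omega
    have h3 := Cfsg.Agent.Classical.SL2.card_PSL2_mul (F := F)
    rw [h2] at h3
    rw [h3, show Fintype.card F ^ 2 - 1 = (Fintype.card F + 1) * (Fintype.card F - 1) by
      rw [pow_two, ← Nat.mul_self_sub_mul_self_eq]]
    ring
  haveI : Finite (Multiplicative (ZMod 2) × Matrix.ProjectiveSpecialLinearGroup (Fin 2) F) := inferInstance
  exact ⟨(MulEquiv.ofBijective Φ ((Nat.bijective_iff_surjective_and_card Φ).mpr ⟨hsurj, hcard⟩)).symm⟩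

theorem sylow_two {m : ℕ} (hK : Fintype.card F = 3 ^ (2 * m + 1)) (P : Sylow 2 ↥S.Gr) :
    Nat.card P = 8 ∧ ∀ x ∈ P, x * x = 1 := by
  classical
  haveI : Fact (Nat.Prime 2) := ⟨Nat.prime_two⟩
  obtain ⟨e⟩ := S.exists_centralizer_equiv hK
  -- a four group in the second factor
  have h3 : (3 : F) = 0 := three_zero
  let w : SL(2, F) := ⟨!![0, 1; -1, 0], by simp [Matrix.det_fin_two]⟩
  let k : SL(2, F) := ⟨!![1, 1; 1, -1], by simp [Matrix.det_fin_two]; linear_combination -h3⟩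
  let π := QuotientGroup.mk' (Subgroup.center SL(2, F))
  have hne : ∀ x : SL(2, F), (x.1 0 1 ≠ 0 ∨ x.1 1 0 ≠ 0) → π x ≠ 1 := by
    intro x hx hc
    rw [QuotientGroup.mk'_apply, QuotientGroup.eq_one_iff, Cfsg.Agent.Classical.SL2Two.mem_center_iff] at hc
    rcases hc with rfl | rfl <;> simp [Cfsg.Agent.Classical.SL2Two.negOne] at hx
  have hnegc : π (Cfsg.Agent.Classical.SL2Two.negOne : SL(2, F)) = 1 := by
    rw [QuotientGroup.mk'_apply, QuotientGroup.eq_one_iff, Cfsg.Agent.Classical.SL2Two.mem_center_iff]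
    exact Or.inr rfl
  have hww : w * w = Cfsg.Agent.Classical.SL2Two.negOne := by
    refine Subtype.ext ?_
    rw [Cfsg.Agent.Classical.SL2Two.coe_negOne]
    show (!![0, 1; -1, 0] : Matrix (Fin 2) (Fin 2) F) * (!![0, 1; -1, 0] : Matrix (Fin 2) (Fin 2) F) = -1
    ext i j
    fin_cases i <;> fin_cases j <;> simp [Matrix.mul_apply, Fin.sum_univ_two]
  have hkk : k * k = Cfsg.Agent.Classical.SL2Two.negOne := by
    refine Subtype.ext ?_
    rw [Cfsg.Agent.Classical.SL2Two.coe_negOne]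
    show (!![1, 1; 1, -1] : Matrix (Fin 2) (Fin 2) F) * (!![1, 1; 1, -1] : Matrix (Fin 2) (Fin 2) F) = -1
    ext i j
    fin_cases i <;> fin_cases j <;> simp [Matrix.mul_apply, Fin.sum_univ_two] <;> linear_combination h3
  have hwk : w * k = Cfsg.Agent.Classical.SL2Two.negOne * (k * w) := by
    refine Subtype.ext ?_
    show _ = (Cfsg.Agent.Classical.SL2Two.negOne : SL(2, F)).1 * ((!![1, 1; 1, -1] : Matrix (Fin 2) (Fin 2) F) * (!![0, 1; -1, 0] : Matrix (Fin 2) (Fin 2) F))
    rw [Cfsg.Agent.Classical.SL2Two.coe_negOne, neg_one_mul]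
    show (!![0, 1; -1, 0] : Matrix (Fin 2) (Fin 2) F) * (!![1, 1; 1, -1] : Matrix (Fin 2) (Fin 2) F) = _
    ext i j
    fin_cases i <;> fin_cases j <;> simp [Matrix.mul_apply, Fin.sum_univ_two]
  have cwk : Commute (π w) (π k) := by
    show π w * π k = π k * π w
    rw [← map_mul, hwk, map_mul π _ (k * w), hnegc, one_mul, map_mul]
  have sw : π w * π w = 1 := by rw [← map_mul, hww, hnegc]
  have sk : π k * π k = 1 := by rw [← map_mul, hkk, hnegc]
  set x₁ : Multiplicative (ZMod 2) × Matrix.ProjectiveSpecialLinearGroup (Fin 2) F := (Multiplicative.ofAdd 1, 1)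
  have hofne := z2_ne
  have hofsq := z2_sq
  have hz := z2_cases
  let mkHom : ∀ x : Matrix.ProjectiveSpecialLinearGroup (Fin 2) F, x * x = 1 → (Multiplicative (ZMod 2) →* Matrix.ProjectiveSpecialLinearGroup (Fin 2) F) :=
    fun x hx => MonoidHom.mk' (fun z => if z = 1 then 1 else x) fun a b => by
      rcases hz a with rfl | rfl <;> rcases hz b with rfl | rfl <;>
        simp [hofne, hofsq, hx]
  have hcz : ∀ a b, Commute (mkHom (π w) sw a) (mkHom (π k) sk b) := by
    intro a b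
    rcases hz a with rfl | rfl <;> rcases hz b with rfl | rfl <;> simp [mkHom, hofne, cwk]
  let V : Multiplicative (ZMod 2) × Multiplicative (ZMod 2) →* Matrix.ProjectiveSpecialLinearGroup (Fin 2) F :=
    MonoidHom.noncommCoprod (mkHom (π w) sw) (mkHom (π k) sk) hcz
  have hV : Function.Injective V := by
    rw [injective_iff_map_eq_one]
    rintro ⟨a, b⟩ h
    have h' : mkHom (π w) sw a * mkHom (π k) sk b = 1 := h
    rcases hz a with rfl | rfl <;> rcases hz b with rfl | rfl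
    · rfl
    · simp [mkHom, hofne] at h'; exact absurd h' (hne k (Or.inl (by simp [k])))
    · simp [mkHom, hofne] at h'; exact absurd h' (hne w (Or.inl (by simp [w])))
    · simp [mkHom, hofne] at h'
      rw [← map_mul] at h'
      exact absurd h' (hne (w * k) (Or.inl (by
        show (((!![0, 1; -1, 0] : Matrix (Fin 2) (Fin 2) F) * !![1, 1; 1, -1] : Matrix (Fin 2) (Fin 2) F)) 0 1 ≠ 0
        simp [Matrix.mul_apply, Fin.sum_univ_two])))
  let W : Multiplicative (ZMod 2) × (Multiplicative (ZMod 2) × Multiplicative (ZMod 2)) →* ↥S.Gr :=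
    ((Subgroup.centralizer {S.D (-1)}).subtype.comp e.symm.toMonoidHom).comp (MonoidHom.prodMap (MonoidHom.id (Multiplicative (ZMod 2))) V)
  have hW : Function.Injective W :=
    (Subtype.val_injective.comp e.symm.injective).comp (Function.injective_id.prodMap hV)
  have hZ3 := z2_cube
  have hcardW : Nat.card W.range = 2 ^ (Nat.card ↥S.Gr).factorization 2 := by
    rw [← Nat.card_congr (MonoidHom.ofInjective hW).toEquiv, S.card_Gr, hK]
    set q := 3 ^ (2 * m + 1) with hq
    have hq8 : q % 8 = 3 := by rw [hq, pow_succ, pow_mul, Nat.mul_mod, Nat.pow_mod]; norm_num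
    have hq1 : 3 ≤ q := le_self_pow₀ (by norm_num) (by omega)
    obtain ⟨A, hA⟩ : ∃ A, q = 8 * A + 3 := ⟨q / 8, by omega⟩
    set B := (q ^ 3 + 1) / 4
    have hB : q ^ 3 + 1 = 4 * B ∧ B % 2 = 1 := by
      have : q ^ 3 % 8 = 3 := by rw [Nat.pow_mod, hq8]
      omega
    have e8 : q ^ 3 * (q - 1) * (q ^ 3 + 1) = 2 ^ 3 * (q ^ 3 * (4 * A + 1) * B) := by
      rw [hB.1, show q - 1 = 2 * (4 * A + 1) by omega]; ring
    have hodd : ¬ 2 ∣ q ^ 3 * (4 * A + 1) * B := by
      rw [Nat.prime_two.dvd_mul, Nat.prime_two.dvd_mul]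
      rintro ((h | h) | h)
      · have := Nat.prime_two.dvd_of_dvd_pow h; omega
      · omega
      · omega
    rw [e8, Nat.factorization_mul (by norm_num) (fun e => hodd (by rw [e]; exact dvd_zero 2)), Finsupp.add_apply,
      Nat.factorization_eq_zero_of_not_dvd hodd, add_zero, Nat.Prime.factorization_pow Nat.prime_two,
      Finsupp.single_eq_same, Nat.card_prod, Nat.card_prod, Nat.card_congr Multiplicative.toAdd, Nat.card_zmod]
    rfl
  set P₀ := Sylow.ofCard W.range hcardW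
  obtain ⟨g, rfl⟩ := MulAction.exists_smul_eq ↥S.Gr P₀ P
  refine ⟨?_, fun x hx => ?_⟩
  · rw [← Nat.card_congr (Sylow.equiv P₀ (g • P₀)).toEquiv]
    show Nat.card W.range = 8
    rw [← Nat.card_congr (MonoidHom.ofInjective hW).toEquiv, Nat.card_prod, Nat.card_prod,
      Nat.card_congr Multiplicative.toAdd, Nat.card_zmod]
  · have hx' : x ∈ ((g • P₀ : Sylow 2 ↥S.Gr) : Subgroup ↥S.Gr) := hx
    rw [Sylow.coe_subgroup_smul, Subgroup.mem_pointwise_smul_iff_inv_smul_mem] at hx'
    obtain ⟨z, hz'⟩ : ∃ z, W z = g⁻¹ * x * g := by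
      obtain ⟨z, hz⟩ := (hx' : (MulAut.conj g)⁻¹ • x ∈ W.range)
      exact ⟨z, hz.trans (by simp)⟩
    have h1 : (g⁻¹ * x * g) * (g⁻¹ * x * g) = 1 := by rw [← hz', ← map_mul, hZ3, map_one]
    calc x * x = g * ((g⁻¹ * x * g) * (g⁻¹ * x * g)) * g⁻¹ := by simp [mul_assoc]
      _ = 1 := by rw [h1, mul_one, mul_inv_cancel]

end Tw

end Cfsg.Agent.SmallRee
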