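import Cfsg.Agent.Lib.SmallRee.Props

/-!
Three-point stabilisers and the trivial intersection of Sylow 3-subgroups in the small Ree groups.
-/

set_option autoImplicit false
set_option maxRecDepth 20000

namespace Cfsg.Agent.SmallRee

open Cfsg.Lie Cfsg.Agent.Chev
open scoped Pointwise

variable {F : Type*} [Field F]

namespace Tw

variable (S : Tw F) [CharP F 3] [Fintype F]

theorem bruhat_BwB (g : ↥S.Gr) (hg : g ∉ S.BB) : ∃ b ∈ S.BB, ∃ x ∈ S.UU, g = b * S.w₀ * x := by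
  obtain ⟨t, u, w, v, t', u', w', rfl⟩ := (S.cases g).resolve_left hg
  exact ⟨_, mul_mem (S.U_le_B (S.R_mem_U t u w)) (S.H_le_B (S.D_mem_H v)), _, S.R_mem_U t' u' w', rfl⟩

theorem mem_stab {g : ↥S.Gr} {a : ↥S.Gr} :
    g ∈ MulAction.stabilizer ↥S.Gr (a : ↥S.Gr ⧸ S.BB) ↔ a⁻¹ * g * a ∈ S.BB := by
  rw [MulAction.mem_stabilizer_iff, show g • (a : ↥S.Gr ⧸ S.BB) = ((g * a : ↥S.Gr) : ↥S.Gr ⧸ S.BB) from rfl,
    QuotientGroup.eq]
  constructor
  · intro h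
    have := inv_mem h
    rwa [mul_inv_rev, inv_inv, ← mul_assoc] at this
  · intro h
    have := inv_mem h
    rwa [show (a⁻¹ * g * a)⁻¹ = (g * a)⁻¹ * a by simp [mul_assoc]] at this

/-- The joint stabiliser in the standard position. -/
theorem std_stab {t u w : F} {g : ↥S.Gr} {m : ℕ} (hK : Fintype.card F = 3 ^ (2 * m + 1)) :
    (g ∈ S.BB ∧ S.w₀ * g * S.w₀ ∈ S.BB ∧ (S.R t u w * S.w₀)⁻¹ * g * (S.R t u w * S.w₀) ∈ S.BB) ↔
      ∃ v : Fˣ, g = S.D v ∧ S.alpha v * t = t ∧ S.beta v * u = u ∧ (v : F) * w = w := by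
  have hn : ∀ v : Fˣ, S.w₀ * S.D v * S.w₀ ∈ S.BB := fun v => by
    rw [S.w₀_conj_D hK]; exact S.H_le_B (S.D_mem_H _)
  have hc : ∀ x : ↥S.Gr, S.w₀ * (S.w₀ * x) = x := fun x => by rw [← mul_assoc, S.w₀_sq, one_mul]
  constructor
  · rintro ⟨hB, hW, hR⟩
    obtain ⟨a, b, c, v, rfl⟩ := S.mem_B.mp hB
    have h1 : S.w₀ * S.R a b c * S.w₀ ∈ S.BB := by
      have := mul_mem hW (inv_mem (hn v))
      rwa [show S.w₀ * (S.R a b c * S.D v) * S.w₀ * (S.w₀ * S.D v * S.w₀)⁻¹ = S.w₀ * S.R a b c * S.w₀ by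
        rw [mul_inv_rev, mul_inv_rev, S.w₀_inv]; simp [mul_assoc, hc]] at this
    have h2 := S.w₀_conj_U (S.R_mem_U a b c) h1
    rw [h2, one_mul] at hR ⊢
    refine ⟨v, rfl, ?_⟩
    set x := S.R t u w
    have h3 : S.w₀ * (x⁻¹ * (S.D v * x * (S.D v)⁻¹)) * S.w₀ ∈ S.BB := by
      have := mul_mem hR (inv_mem (hn v))
      rwa [show (x * S.w₀)⁻¹ * S.D v * (x * S.w₀) * (S.w₀ * S.D v * S.w₀)⁻¹ =
        S.w₀ * (x⁻¹ * (S.D v * x * (S.D v)⁻¹)) * S.w₀ by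
        rw [mul_inv_rev, mul_inv_rev, mul_inv_rev, S.w₀_inv]; simp [mul_assoc, hc]] at this
    rw [S.D_conj] at h3
    have h4 := inv_mul_eq_one.mp (S.w₀_conj_U (mul_mem (inv_mem (S.R_mem_U t u w)) (S.R_mem_U _ _ _)) h3)
    obtain ⟨e1, e2, e3⟩ := S.R_inj h4
    exact ⟨e1.symm, e2.symm, e3.symm⟩
  · rintro ⟨v, rfl, e1, e2, e3⟩
    refine ⟨S.H_le_B (S.D_mem_H v), hn v, ?_⟩
    have e : S.D v * S.R t u w = S.R t u w * S.D v := by
      have := S.D_conj v t u w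
      rw [e1, e2, e3] at this
      exact mul_inv_eq_iff_eq_mul.mp this
    rw [show (S.R t u w * S.w₀)⁻¹ * S.D v * (S.R t u w * S.w₀) =
      S.w₀ * ((S.R t u w)⁻¹ * (S.D v * S.R t u w)) * S.w₀ by
      rw [mul_inv_rev, S.w₀_inv]; simp [mul_assoc], e, inv_mul_cancel_left]
    exact hn v

theorem std_pair {t u w : F} {v : Fˣ} (hne : ¬ (t = 0 ∧ u = 0 ∧ w = 0))
    (h : S.alpha v * t = t ∧ S.beta v * u = u ∧ (v : F) * w = w) : v = 1 ∨ v = -1 := by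
  by_contra hc
  push Not at hc
  obtain ⟨e1, e2, e3⟩ := h
  refine hne ⟨?_, ?_, ?_⟩
  · by_contra ht
    exact hc.1 (S.alpha_eq_one (mul_right_cancel₀ ht (e1.trans (one_mul t).symm)))
  · by_contra ht
    exact S.beta_ne_one hc.1 hc.2 (mul_right_cancel₀ ht (e2.trans (one_mul u).symm))
  · by_contra ht
    exact hc.1 (Units.ext (mul_right_cancel₀ ht (e3.trans (one_mul w).symm)))

theorem three_point {m : ℕ} (hK : Fintype.card F = 3 ^ (2 * m + 1)) :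
    (∀ x y z : ↥S.Gr ⧸ S.BB, x ≠ y → x ≠ z → y ≠ z →
      Nat.card ↥(MulAction.stabilizer ↥S.Gr x ⊓ MulAction.stabilizer ↥S.Gr y ⊓ MulAction.stabilizer ↥S.Gr z) ≤ 2) ∧
    ∃ x y z : ↥S.Gr ⧸ S.BB, x ≠ y ∧ x ≠ z ∧ y ≠ z ∧
      Nat.card ↥(MulAction.stabilizer ↥S.Gr x ⊓ MulAction.stabilizer ↥S.Gr y ⊓ MulAction.stabilizer ↥S.Gr z) = 2 := by
  classical
  constructor
  · intro x y z hxy hxz hyz
    obtain ⟨a, rfl⟩ := QuotientGroup.mk_surjective x
    obtain ⟨b, rfl⟩ := QuotientGroup.mk_surjective y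
    obtain ⟨c, rfl⟩ := QuotientGroup.mk_surjective z
    have hab : a⁻¹ * b ∉ S.BB := fun h => hxy (QuotientGroup.eq.mpr h)
    obtain ⟨p, hp, p', hp', e⟩ := S.bruhat_BwB _ hab
    set g := a * p with hg
    have hgb : g⁻¹ * b = S.w₀ * p' := by
      rw [hg, mul_inv_rev, mul_assoc, e]; simp [mul_assoc]
    have hgc1 : g⁻¹ * c ∉ S.BB := fun h => hxz (QuotientGroup.eq.mpr (by
      have := mul_mem hp h
      rwa [hg, mul_inv_rev, ← mul_assoc, mul_inv_cancel_left] at this))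
    obtain ⟨t, u, w, v, t', u', w', e'⟩ := (S.cases (g⁻¹ * c)).resolve_left hgc1
    have e'' : g⁻¹ * c = S.R t u w * S.w₀ * (S.D v⁻¹ * S.R t' u' w') := by
      rw [e', mul_assoc (S.R t u w) (S.D v) S.w₀, show S.D v * S.w₀ = S.w₀ * S.D v⁻¹ by
        rw [S.w₀_D hK, inv_inv]]
      simp only [mul_assoc]
    have hq : S.D v⁻¹ * S.R t' u' w' ∈ S.BB := mul_mem (S.H_le_B (S.D_mem_H _)) (S.U_le_B (S.R_mem_U _ _ _))
    have hne : ¬ (t = 0 ∧ u = 0 ∧ w = 0) := by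
      rintro ⟨rfl, rfl, rfl⟩
      rw [S.R_zero, one_mul] at e''
      refine hyz (QuotientGroup.eq.mpr ?_)
      have : b⁻¹ * c = p'⁻¹ * (S.D v⁻¹ * S.R t' u' w') := by
        calc b⁻¹ * c = (g⁻¹ * b)⁻¹ * (g⁻¹ * c) := by simp [mul_assoc]
          _ = _ := by rw [hgb, e'', mul_inv_rev, mul_assoc, inv_mul_cancel_left]
      rw [this]
      exact mul_mem (inv_mem (S.U_le_B hp')) hq
    set St := MulAction.stabilizer ↥S.Gr (a : ↥S.Gr ⧸ S.BB) ⊓ MulAction.stabilizer ↥S.Gr (b : ↥S.Gr ⧸ S.BB) ⊓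
      MulAction.stabilizer ↥S.Gr (c : ↥S.Gr ⧸ S.BB)
    have hsub : (St : Set ↥S.Gr) ⊆ {g * 1 * g⁻¹, g * S.D (-1) * g⁻¹} := by
      intro k hk
      obtain ⟨⟨k1, k2⟩, k3⟩ := hk
      replace k1 := S.mem_stab.mp k1
      replace k2 := S.mem_stab.mp k2
      replace k3 := S.mem_stab.mp k3
      have j1 : g⁻¹ * k * g ∈ S.BB := by
        have := mul_mem (mul_mem (inv_mem hp) k1) hp
        rwa [show p⁻¹ * (a⁻¹ * k * a) * p = g⁻¹ * k * g by rw [hg]; simp [mul_assoc]] at this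
      have j2 : S.w₀ * (g⁻¹ * k * g) * S.w₀ ∈ S.BB := by
        have h1 : b = g * (S.w₀ * p') := by rw [← hgb, mul_inv_cancel_left]
        have := mul_mem (mul_mem (S.U_le_B hp') k2) (inv_mem (S.U_le_B hp'))
        rwa [h1, mul_inv_rev, mul_inv_rev, S.w₀_inv,
          show p' * (p'⁻¹ * S.w₀ * g⁻¹ * k * (g * (S.w₀ * p'))) * p'⁻¹ = S.w₀ * (g⁻¹ * k * g) * S.w₀ by
            simp [mul_assoc]] at this
      have j3 : (S.R t u w * S.w₀)⁻¹ * (g⁻¹ * k * g) * (S.R t u w * S.w₀) ∈ S.BB := by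
        set q := S.D v⁻¹ * S.R t' u' w'
        set r := S.R t u w * S.w₀
        have h1 : c = g * (r * q) := by rw [← e'', mul_inv_cancel_left]
        have := mul_mem (mul_mem hq k3) (inv_mem hq)
        rwa [h1, show q * ((g * (r * q))⁻¹ * k * (g * (r * q))) * q⁻¹ = r⁻¹ * (g⁻¹ * k * g) * r by
          simp [mul_assoc]] at this
      obtain ⟨c', hc', hfix⟩ := (S.std_stab hK).mp ⟨j1, j2, j3⟩
      have hk' : k = g * S.D c' * g⁻¹ := by rw [← hc']; simp [mul_assoc]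
      rcases S.std_pair hne hfix with h | h
      · exact Or.inl (by rw [hk', h, map_one])
      · exact Or.inr (by rw [hk', h]; rfl)
    calc Nat.card ↥St = (St : Set ↥S.Gr).ncard := Nat.card_coe_set_eq _
      _ ≤ ({g * 1 * g⁻¹, g * S.D (-1) * g⁻¹} : Set ↥S.Gr).ncard := Set.ncard_le_ncard hsub (Set.toFinite _)
      _ ≤ 2 := (Set.ncard_insert_le _ _).trans (by rw [Set.ncard_singleton])
  · refine ⟨((1 : ↥S.Gr) : ↥S.Gr ⧸ S.BB), (S.w₀ : ↥S.Gr ⧸ S.BB), ((S.R 0 1 0 * S.w₀ : ↥S.Gr) : ↥S.Gr ⧸ S.BB),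
      ?_, ?_, ?_, ?_⟩
    · rw [ne_eq, QuotientGroup.eq, inv_one, one_mul]; exact S.w₀_not_mem_B
    · rw [ne_eq, QuotientGroup.eq, inv_one, one_mul]
      have := S.big_not_mem_B (S.U_le_B (S.R_mem_U 0 1 0)) (one_mem _)
      rwa [mul_one] at this
    · rw [ne_eq, QuotientGroup.eq, S.w₀_inv]
      intro h
      have h2 := S.w₀_conj_U (S.R_mem_U 0 1 0) (by rwa [← mul_assoc] at h)
      rw [← S.R_zero] at h2
      exact one_ne_zero (S.R_inj h2).2.1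
    · set St := MulAction.stabilizer ↥S.Gr ((1 : ↥S.Gr) : ↥S.Gr ⧸ S.BB) ⊓
        MulAction.stabilizer ↥S.Gr (S.w₀ : ↥S.Gr ⧸ S.BB) ⊓
        MulAction.stabilizer ↥S.Gr ((S.R 0 1 0 * S.w₀ : ↥S.Gr) : ↥S.Gr ⧸ S.BB)
      have h3 : (3 : F) = 0 := three_zero
      have hne : (1 : ↥S.Gr) ≠ S.D (-1) := fun h => by
        have h2 := congrArg Units.val (S.D_inj ((map_one S.D).trans h))
        rw [Units.val_one, Units.val_neg, Units.val_one] at h2
        exact one_ne_zero (α := F) (by linear_combination h3 - h2)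
      have hset : (St : Set ↥S.Gr) = {1, S.D (-1)} := by
        refine Set.Subset.antisymm (fun k hk => ?_) ?_
        · obtain ⟨⟨k1, k2⟩, k3⟩ := hk
          replace k1 := S.mem_stab.mp k1
          replace k2 := S.mem_stab.mp k2
          replace k3 := S.mem_stab.mp k3
          rw [inv_one, one_mul, mul_one] at k1
          rw [S.w₀_inv] at k2
          obtain ⟨c', hc', hfix⟩ := (S.std_stab hK).mp ⟨k1, k2, k3⟩
          rcases S.std_pair (t := 0) (u := 1) (w := 0) (by simp) hfix with h | h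
          · exact Or.inl (by rw [hc', h, map_one])
          · exact Or.inr (by rw [hc', h]; rfl)
        · rintro k (rfl | rfl)
          · exact one_mem _
          · obtain ⟨j1, j2, j3⟩ := (S.std_stab (t := 0) (u := 1) (w := 0) (g := S.D (-1)) hK).mpr
              ⟨-1, rfl, mul_zero _, by
                rw [beta, Units.val_neg, Units.val_one, map_neg, map_one, Odd.neg_one_pow (show Odd 3 by decide),
                  mul_one, div_self (neg_ne_zero.mpr one_ne_zero)], mul_zero _⟩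
            refine ⟨⟨S.mem_stab.mpr ?_, S.mem_stab.mpr ?_⟩, S.mem_stab.mpr ?_⟩
            · rwa [inv_one, one_mul, mul_one]
            · rwa [S.w₀_inv]
            · exact j3
      calc Nat.card ↥St = (St : Set ↥S.Gr).ncard := Nat.card_coe_set_eq _
        _ = 2 := by rw [hset, Set.ncard_pair hne]

theorem inter_conj {k : ↥S.Gr} (hk : k ∉ S.BB) {y : ↥S.Gr} (hy : y ∈ S.UU) (h : k⁻¹ * y * k ∈ S.UU) : y = 1 := by
  obtain ⟨b, hb, x, hx, rfl⟩ := S.bruhat_BwB k hk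
  set z := b⁻¹ * y * b with hz
  have hzU : z ∈ S.UU := by
    have := S.conj_U (inv_mem hb) hy
    rwa [inv_inv] at this
  have h2 : S.w₀ * z * S.w₀ ∈ S.BB := by
    have := mul_mem (mul_mem (S.U_le_B hx) (S.U_le_B h)) (inv_mem (S.U_le_B hx))
    rwa [show x * ((b * S.w₀ * x)⁻¹ * y * (b * S.w₀ * x)) * x⁻¹ = S.w₀ * z * S.w₀ by
      rw [hz, mul_inv_rev, mul_inv_rev, S.w₀_inv]; simp [mul_assoc]] at this
  have h3 := S.w₀_conj_U hzU h2
  calc y = b * z * b⁻¹ := by rw [hz]; simp [mul_assoc]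
    _ = 1 := by rw [h3, mul_one, mul_inv_cancel]

theorem card_U_fact {m : ℕ} (hK : Fintype.card F = 3 ^ (2 * m + 1)) :
    Nat.card ↥S.UU = 3 ^ (Nat.card ↥S.Gr).factorization 3 := by
  haveI : Fact (Nat.Prime 3) := ⟨Nat.prime_three⟩
  rw [S.card_U, S.card_Gr, hK]
  set q := 3 ^ (2 * m + 1) with hq
  have hq3 : q % 3 = 0 := by rw [hq, pow_succ]; omega
  have hq1 : 3 ≤ q := le_self_pow₀ (by norm_num) (by omega)
  have h1 : ¬ 3 ∣ (q - 1) * (q ^ 3 + 1) := by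
    rw [Nat.prime_three.dvd_mul]
    rintro (h | h)
    · omega
    · have : q ^ 3 % 3 = 0 := by rw [Nat.pow_mod, hq3]
      omega
  rw [mul_assoc, Nat.factorization_mul (pow_ne_zero _ (by omega)) (fun e => h1 (by rw [e]; exact dvd_zero 3)), Finsupp.add_apply,
    Nat.factorization_eq_zero_of_not_dvd h1, add_zero, hq, ← pow_mul, Nat.Prime.factorization_pow Nat.prime_three,
    Finsupp.single_eq_same]

theorem sylow_ti {m : ℕ} (hK : Fintype.card F = 3 ^ (2 * m + 1)) (P Q : Sylow 3 ↥S.Gr) (hPQ : P ≠ Q) :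
    (P : Subgroup ↥S.Gr) ⊓ (Q : Subgroup ↥S.Gr) = ⊥ := by
  haveI : Fact (Nat.Prime 3) := ⟨Nat.prime_three⟩
  set U := Sylow.ofCard S.UU (S.card_U_fact hK) with hU
  obtain ⟨g, rfl⟩ := MulAction.exists_smul_eq ↥S.Gr U P
  obtain ⟨h, rfl⟩ := MulAction.exists_smul_eq ↥S.Gr U Q
  have hmem : ∀ (g x : ↥S.Gr), x ∈ ((g • U : Sylow 3 ↥S.Gr) : Subgroup ↥S.Gr) ↔ g⁻¹ * x * g ∈ S.UU := fun g x => by
    rw [Sylow.coe_subgroup_smul, Subgroup.mem_pointwise_smul_iff_inv_smul_mem, hU]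
    simp
  refine (Subgroup.eq_bot_iff_forall _).mpr fun x hx => ?_
  obtain ⟨hx1, hx2⟩ := Subgroup.mem_inf.mp hx
  rw [hmem] at hx1 hx2
  have hk : g⁻¹ * h ∉ S.BB := by
    intro hk
    refine hPQ (Sylow.ext (Subgroup.ext fun y => ?_))
    rw [hmem, hmem]
    constructor
    · intro hy
      have := S.conj_U (inv_mem hk) hy
      rwa [inv_inv, show (g⁻¹ * h)⁻¹ * (g⁻¹ * y * g) * (g⁻¹ * h) = h⁻¹ * y * h by simp [mul_assoc]] at this
    · intro hy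
      have := S.conj_U hk hy
      rwa [show g⁻¹ * h * (h⁻¹ * y * h) * (g⁻¹ * h)⁻¹ = g⁻¹ * y * g by simp [mul_assoc]] at this
  have := S.inter_conj hk hx1
    (by rwa [show (g⁻¹ * h)⁻¹ * (g⁻¹ * x * g) * (g⁻¹ * h) = h⁻¹ * x * h by simp [mul_assoc]])
  calc x = g * (g⁻¹ * x * g) * g⁻¹ := by simp [mul_assoc]
    _ = 1 := by rw [this, mul_one, mul_inv_cancel]

end Tw

end Cfsg.Agent.SmallRee
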