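import Cfsg.Agent.Lib.Classical.SL2
import Cfsg.Agent.Lib.Classical.SL2Two
import Mathlib.GroupTheory.Sylow

/-!
The four group of a projective special linear group in dimension two over a field of order an odd power of three.
-/

set_option autoImplicit false
set_option maxRecDepth 20000

namespace Cfsg.Agent.SmallRee.Four

open scoped MatrixGroups
open Cfsg.Agent.Classical.SL2Two (negOne coe_negOne)

variable {F : Type*} [Field F] [Fintype F]

local notation "M2" => Matrix (Fin 2) (Fin 2) F

/-- The first generator. -/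
def sW : SL(2, F) := ⟨!![0, 1; -1, 0], by simp [Matrix.det_fin_two]⟩

/-- The second generator. -/
def sK [CharP F 3] : SL(2, F) := ⟨!![1, 1; 1, -1], by
  have h3 : (3 : F) = 0 := by exact_mod_cast CharP.cast_eq_zero F 3
  simp [Matrix.det_fin_two]; linear_combination -h3⟩

/-- An element of order three permuting them. -/
def sT : SL(2, F) := ⟨!![1, 1; 0, 1], by simp [Matrix.det_fin_two]⟩

/-- The projection. -/
def pr : SL(2, F) →* Matrix.ProjectiveSpecialLinearGroup (Fin 2) F := QuotientGroup.mk' _

theorem pr_negOne : pr (negOne : SL(2, F)) = 1 := by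
  rw [pr, QuotientGroup.mk'_apply, QuotientGroup.eq_one_iff, Cfsg.Agent.Classical.SL2Two.mem_center_iff]
  exact Or.inr rfl

theorem pr_eq_iff {x y : SL(2, F)} : pr x = pr y ↔ (x : M2) = (y : M2) ∨ (x : M2) = -(y : M2) := by
  rw [pr, QuotientGroup.mk'_apply, QuotientGroup.mk'_apply, QuotientGroup.eq,
    Cfsg.Agent.Classical.SL2Two.mem_center_iff, inv_mul_eq_one, inv_mul_eq_iff_eq_mul]
  constructor
  · rintro (rfl | rfl)
    · exact Or.inl rfl
    · refine Or.inr ?_
      rw [show ((x * negOne : SL(2, F)) : M2) = (x : M2) * (negOne : SL(2, F)).1 from rfl, coe_negOne, mul_neg,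
        mul_one, neg_neg]
  · rintro (h | h)
    · exact Or.inl (Subtype.ext h)
    · refine Or.inr (Subtype.ext ?_)
      show _ = (x : M2) * (negOne : SL(2, F)).1
      rw [coe_negOne, mul_neg, mul_one, h, neg_neg]

variable [CharP F 3]

/-- The carrier of the four group. -/
def vals (q : Matrix.ProjectiveSpecialLinearGroup (Fin 2) F) : Prop :=
  q = 1 ∨ q = pr sW ∨ q = pr sK ∨ q = pr (sW * sK)

theorem three_eq : (3 : F) = 0 := by exact_mod_cast CharP.cast_eq_zero F 3

theorem coe_WK : ((sW * sK : SL(2, F)) : M2) = !![1, -1; -1, -1] := by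
  show (!![0, 1; -1, 0] : M2) * !![1, 1; 1, -1] = _
  ext i j; fin_cases i <;> fin_cases j <;> simp [Matrix.mul_apply, Fin.sum_univ_two]

theorem WW : pr (sW : SL(2, F)) * pr sW = 1 := by
  rw [← map_mul, ← map_one pr, pr_eq_iff]
  refine Or.inr ?_
  show (!![0, 1; -1, 0] : M2) * !![0, 1; -1, 0] = -1
  ext i j; fin_cases i <;> fin_cases j <;> simp [Matrix.mul_apply, Fin.sum_univ_two]

theorem KK : pr (sK : SL(2, F)) * pr sK = 1 := by
  rw [← map_mul, ← map_one pr, pr_eq_iff]
  refine Or.inr ?_
  show (!![1, 1; 1, -1] : M2) * !![1, 1; 1, -1] = -1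
  ext i j; fin_cases i <;> fin_cases j <;> simp [Matrix.mul_apply, Fin.sum_univ_two] <;> linear_combination three_eq (F := F)

theorem KW : pr (sK : SL(2, F)) * pr sW = pr sW * pr sK := by
  rw [← map_mul, ← map_mul, pr_eq_iff]
  refine Or.inr ?_
  show (!![1, 1; 1, -1] : M2) * !![0, 1; -1, 0] = -((!![0, 1; -1, 0] : M2) * !![1, 1; 1, -1])
  ext i j; fin_cases i <;> fin_cases j <;> simp [Matrix.mul_apply, Fin.sum_univ_two]

/-- The four group. -/
def V : Subgroup (Matrix.ProjectiveSpecialLinearGroup (Fin 2) F) where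
  carrier := {q | vals q}
  one_mem' := Or.inl rfl
  inv_mem' {q} hq := by
    rcases hq with rfl | rfl | rfl | rfl
    · exact Or.inl inv_one
    · exact Or.inr (Or.inl (inv_eq_of_mul_eq_one_right WW))
    · exact Or.inr (Or.inr (Or.inl (inv_eq_of_mul_eq_one_right KK)))
    · refine Or.inr (Or.inr (Or.inr (inv_eq_of_mul_eq_one_right ?_)))
      rw [map_mul, mul_assoc, ← mul_assoc (pr sK), KW, mul_assoc (pr sW), KK, mul_one, WW]
  mul_mem' {a b} ha hb := by
    have a1 : ∀ x, pr (sW : SL(2, F)) * (pr sW * x) = x := fun x => by rw [← mul_assoc, WW, one_mul]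
    have a2 : ∀ x, pr (sK : SL(2, F)) * (pr sK * x) = x := fun x => by rw [← mul_assoc, KK, one_mul]
    have a3 : ∀ x, pr (sK : SL(2, F)) * (pr sW * x) = pr sW * (pr sK * x) := fun x => by
      rw [← mul_assoc, KW, mul_assoc]
    rcases ha with rfl | rfl | rfl | rfl <;> rcases hb with rfl | rfl | rfl | rfl <;>
      simp only [Set.mem_setOf_eq, vals, map_mul, mul_assoc, one_mul, mul_one, WW, KK, KW, a1, a2, a3] <;> simp

theorem mem_V {q : Matrix.ProjectiveSpecialLinearGroup (Fin 2) F} : q ∈ (V : Subgroup _) ↔ vals q := Iff.rfl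

theorem pr_ne {x : SL(2, F)} (h : (x : M2) 0 1 ≠ 0) : pr x ≠ 1 := by
  intro e
  rw [← map_one pr, pr_eq_iff] at e
  rcases e with e | e <;> rw [e] at h <;> simp at h

theorem W_ne : pr (sW : SL(2, F)) ≠ 1 := pr_ne (by simp [sW])

theorem K_ne : pr (sK : SL(2, F)) ≠ 1 := pr_ne (by simp [sK])

theorem W_ne_K : pr (sW : SL(2, F)) ≠ pr sK := fun h => by
  have h2 : pr (sW * sK : SL(2, F)) = 1 := by rw [map_mul, h, KK]
  exact pr_ne (by rw [coe_WK]; simp) h2

theorem card_V : Nat.card ↥(V : Subgroup (Matrix.ProjectiveSpecialLinearGroup (Fin 2) F)) = 4 := by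
  classical
  have h : (SetLike.coe (V (F := F))) =
      SetLike.coe ({1, pr sW, pr sK, pr (sW * sK)} : Finset (Matrix.ProjectiveSpecialLinearGroup (Fin 2) F)) := by
    ext q
    simp only [Finset.coe_insert, Finset.coe_singleton, Set.mem_insert_iff, Set.mem_singleton_iff, SetLike.mem_coe]
    exact mem_V
  have hWK : pr (sW * sK : SL(2, F)) ≠ 1 := pr_ne (by rw [coe_WK]; simp)
  rw [← SetLike.coe_sort_coe, h, Nat.card_coe_set_eq, Set.ncard_coe_finset]
  rw [Finset.card_insert_of_notMem, Finset.card_insert_of_notMem, Finset.card_insert_of_notMem, Finset.card_singleton]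
  · rw [Finset.mem_singleton]
    intro e
    rw [map_mul] at e
    exact W_ne (mul_eq_right.mp e.symm)
  · simp only [Finset.mem_insert, Finset.mem_singleton, not_or]
    refine ⟨W_ne_K, fun e => ?_⟩
    rw [map_mul] at e
    exact K_ne (mul_eq_left.mp e.symm)
  · simp only [Finset.mem_insert, Finset.mem_singleton, not_or]
    exact ⟨W_ne.symm, K_ne.symm, hWK.symm⟩

theorem centralizer_V : Subgroup.centralizer (SetLike.coe (V (F := F))) =
    V := by
  refine le_antisymm (fun q hq => ?_) ?_
  · obtain ⟨x, rfl⟩ := QuotientGroup.mk'_surjective _ q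
    change pr x ∈ V
    have h3 := three_eq (F := F)
    set M : M2 := (x : M2) with hM
    have eW := Subgroup.mem_centralizer_iff.mp hq _ (Or.inr (Or.inl rfl) : vals (pr sW))
    have eK := Subgroup.mem_centralizer_iff.mp hq _ (Or.inr (Or.inr (Or.inl rfl)) : vals (pr sK))
    change pr sW * pr x = pr x * pr sW at eW
    change pr sK * pr x = pr x * pr sK at eK
    rw [← map_mul, ← map_mul, pr_eq_iff] at eW eK
    change ((!![0, 1; -1, 0] : M2) * M = M * !![0, 1; -1, 0]) ∨
      ((!![0, 1; -1, 0] : M2) * M = -(M * !![0, 1; -1, 0])) at eW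
    change ((!![1, 1; 1, -1] : M2) * M = M * !![1, 1; 1, -1]) ∨
      ((!![1, 1; 1, -1] : M2) * M = -(M * !![1, 1; 1, -1])) at eK
    have hdet := x.2
    rw [Matrix.det_fin_two] at hdet
    change M 0 0 * M 1 1 - M 0 1 * M 1 0 = 1 at hdet
    have key : ∀ y : SL(2, F), ((x : M2) = (y : M2) ∨ (x : M2) = -(y : M2)) → vals (pr y) → pr x ∈ V := fun y h h' => by
      rw [pr_eq_iff.mpr h]; exact h'
    have h2 : (2 : F) ≠ 0 := fun h => one_ne_zero (α := F) (by linear_combination h3 - h)
    rcases eW with eW | eW <;> rcases eK with eK | eK <;>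
      (have w00 := congrFun (congrFun eW 0) 0; have w01 := congrFun (congrFun eW 0) 1
       have k00 := congrFun (congrFun eK 0) 0; have k01 := congrFun (congrFun eK 0) 1
       simp [Matrix.mul_apply, Fin.sum_univ_two] at w00 w01 k00 k01)
    -- the four sign patterns
    · have hb : M 0 1 = 0 := mul_left_cancel₀ h2 (by linear_combination w00 - k00)
      have hsq : M 0 0 * M 0 0 = 1 := by
        rw [hb] at hdet w00
        linear_combination hdet - M 0 0 * w01
      refine key 1 ?_ (Or.inl (map_one _))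
      rcases mul_self_eq_one_iff.mp hsq with h | h
      · left; ext i j
        fin_cases i <;> fin_cases j <;> simp [← hM]
        · exact h
        · exact hb
        · linear_combination w00 - hb
        · linear_combination w01 + h
      · right; ext i j
        fin_cases i <;> fin_cases j <;> simp [← hM]
        · exact h
        · exact hb
        · linear_combination w00 - hb
        · linear_combination w01 + h
    · have ha : M 0 0 = 0 := mul_left_cancel₀ h2 (by linear_combination k00 - w00)
      have hsq : M 0 1 * M 0 1 = 1 := by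
        rw [ha] at hdet w01
        linear_combination hdet + M 0 1 * w00
      refine key sW ?_ (Or.inr (Or.inl rfl))
      rcases mul_self_eq_one_iff.mp hsq with h | h
      · left; ext i j
        fin_cases i <;> fin_cases j <;> simp [← hM, sW]
        · exact ha
        · exact h
        · linear_combination w00 - h
        · linear_combination w01 + ha
      · right; ext i j
        fin_cases i <;> fin_cases j <;> simp [← hM, sW]
        · exact ha
        · exact h
        · linear_combination w00 - h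
        · linear_combination w01 + ha
    · have hb : M 0 1 = M 0 0 := mul_left_cancel₀ h2 (by linear_combination k01 - w01)
      have hsq : M 0 0 * M 0 0 = 1 := by
        rw [hb] at hdet w00
        linear_combination hdet - M 0 0 * w01 + M 0 0 * w00 + M 0 0 * M 0 0 * h3
      refine key sK ?_ (Or.inr (Or.inr (Or.inl rfl)))
      rcases mul_self_eq_one_iff.mp hsq with h | h
      · left; ext i j
        fin_cases i <;> fin_cases j <;> simp [← hM, sK]
        · exact h
        · linear_combination hb + h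
        · linear_combination w00 + hb + h
        · linear_combination w01 - h
      · right; ext i j
        fin_cases i <;> fin_cases j <;> simp [← hM, sK]
        · exact h
        · linear_combination hb + h
        · linear_combination w00 + hb + h
        · linear_combination w01 - h
    · have hb : M 0 1 = -M 0 0 := mul_left_cancel₀ h2 (by linear_combination k00 - w00)
      have hsq : M 0 0 * M 0 0 = 1 := by
        rw [hb] at hdet w00
        linear_combination hdet - M 0 0 * w01 - M 0 0 * w00 + M 0 0 * M 0 0 * h3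
      refine key (sW * sK) ?_ (Or.inr (Or.inr (Or.inr rfl)))
      rw [coe_WK]
      rcases mul_self_eq_one_iff.mp hsq with h | h
      · left; ext i j
        fin_cases i <;> fin_cases j <;> simp [← hM]
        · exact h
        · linear_combination hb - h
        · linear_combination w00 + hb - h
        · linear_combination w01 - h
      · right; ext i j
        fin_cases i <;> fin_cases j <;> simp [← hM]
        · exact h
        · linear_combination hb - h
        · linear_combination w00 + hb - h
        · linear_combination w01 - h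
  · intro q hq
    refine Subgroup.mem_centralizer_iff.mpr fun z hz => ?_
    have hsq : ∀ z ∈ (V : Subgroup (Matrix.ProjectiveSpecialLinearGroup (Fin 2) F)), z * z = 1 := by
      intro z hz
      rcases hz with rfl | rfl | rfl | rfl
      · exact mul_one _
      · exact WW
      · exact KK
      · rw [map_mul, mul_assoc, ← mul_assoc (pr sK), KW, mul_assoc (pr sW), KK, mul_one, WW]
    calc z * q = (z * q)⁻¹ := (inv_eq_of_mul_eq_one_right (hsq _ (mul_mem hz hq))).symm
      _ = q * z := by
        rw [mul_inv_rev, inv_eq_of_mul_eq_one_right (hsq q hq), inv_eq_of_mul_eq_one_right (hsq z hz)]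

theorem sT_conj : pr (sT : SL(2, F)) * pr sW * (pr sT)⁻¹ = pr sK ∧
    pr (sT : SL(2, F)) * pr sK * (pr sT)⁻¹ = pr (sW * sK) := by
  have h3 := three_eq (F := F)
  constructor <;> rw [mul_inv_eq_iff_eq_mul, ← map_mul, ← map_mul, pr_eq_iff]
  · refine Or.inr ?_
    show (!![1, 1; 0, 1] : M2) * !![0, 1; -1, 0] = -((!![1, 1; 1, -1] : M2) * !![1, 1; 0, 1])
    ext i j; fin_cases i <;> fin_cases j <;> simp [Matrix.mul_apply, Fin.sum_univ_two] <;>
      first | linear_combination h3 | linear_combination (-2 : F) * h3 | linear_combination -h3 | linear_combination (2 : F) * h3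
  · refine Or.inr ?_
    show (!![1, 1; 0, 1] : M2) * !![1, 1; 1, -1] = -(((sW * sK : SL(2, F)) : M2) * !![1, 1; 0, 1])
    rw [coe_WK]
    ext i j; fin_cases i <;> fin_cases j <;> simp [Matrix.mul_apply, Fin.sum_univ_two] <;>
      first | linear_combination h3 | linear_combination (-2 : F) * h3 | linear_combination -h3 | linear_combination (2 : F) * h3

theorem pr_T_cube : pr (sT : SL(2, F)) ^ 3 = 1 := by
  have h : ((sT * sT * sT : SL(2, F)) : M2) = 1 := by
    show (!![1, 1; 0, 1] : M2) * !![1, 1; 0, 1] * !![1, 1; 0, 1] = 1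
    ext i j; fin_cases i <;> fin_cases j <;> simp [Matrix.mul_apply, Fin.sum_univ_two]
    linear_combination three_eq (F := F)
  rw [pow_succ, pow_two, ← map_mul, ← map_mul, ← map_one pr, pr_eq_iff]
  exact Or.inl h

theorem T_mem_norm : pr (sT : SL(2, F)) ∈ Subgroup.normalizer (SetLike.coe (V (F := F))) := by
  set t := pr (sT : SL(2, F))
  obtain ⟨h1, h2⟩ := sT_conj (F := F)
  have hfwd : ∀ z ∈ (V : Subgroup (Matrix.ProjectiveSpecialLinearGroup (Fin 2) F)), t * z * t⁻¹ ∈ (V : Subgroup _) := by
    intro z hz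
    rcases hz with rfl | rfl | rfl | rfl
    · rw [mul_one, mul_inv_cancel]; exact one_mem _
    · rw [h1]; exact Or.inr (Or.inr (Or.inl rfl))
    · rw [h2]; exact Or.inr (Or.inr (Or.inr rfl))
    · rw [map_mul, ← conj_mul, h1, h2, map_mul, ← mul_assoc, KW, mul_assoc, KK, mul_one]
      exact Or.inr (Or.inl rfl)
  refine Subgroup.mem_normalizer_iff.mpr fun z => ⟨hfwd z, fun hz => ?_⟩
  have h3 := hfwd _ (hfwd _ hz)
  have e : t * (t * (t * z * t⁻¹) * t⁻¹) * t⁻¹ = (t ^ 3) * z * (t ^ 3)⁻¹ := by
    rw [pow_succ, pow_two]; simp [mul_assoc]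
  rw [e, pr_T_cube, one_mul, inv_one, mul_one] at h3
  exact h3

theorem T_not_mem_V : pr (sT : SL(2, F)) ∉ (V : Subgroup _) := by
  intro h
  have h2 : pr (sT : SL(2, F)) * pr sW * (pr sT)⁻¹ = pr sW := by
    rw [Subgroup.mem_centralizer_iff.mp ((centralizer_V (F := F)).ge (Or.inr (Or.inl rfl))) _ h,
      mul_inv_cancel_right]
  exact W_ne_K (h2.symm.trans sT_conj.1)

theorem fixed_by_T {z : Matrix.ProjectiveSpecialLinearGroup (Fin 2) F} (hz : z ∈ (V : Subgroup _))
    (h : pr (sT : SL(2, F)) * z * (pr sT)⁻¹ = z) : z = 1 := by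
  obtain ⟨h1, h2⟩ := sT_conj (F := F)
  rcases hz with rfl | rfl | rfl | rfl
  · rfl
  · exact absurd (h1.symm.trans h) W_ne_K.symm
  · rw [h2, map_mul] at h
    exact absurd (mul_eq_right.mp h) W_ne
  · rw [map_mul, ← conj_mul, h1, h2, map_mul, ← mul_assoc, KW, mul_assoc, KK, mul_one] at h
    exact absurd (mul_eq_left.mp h.symm) K_ne

theorem T_trans {z : Matrix.ProjectiveSpecialLinearGroup (Fin 2) F} (hz : z ∈ (V : Subgroup _)) (h1 : z ≠ 1) :
    z = pr sW ∨ z = pr sT * pr sW * (pr sT)⁻¹ ∨ z = pr sT * (pr sT * pr sW * (pr sT)⁻¹) * (pr sT)⁻¹ := by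
  rw [sT_conj.1, sT_conj.2]
  exact hz.resolve_left h1

theorem card_norm {m : ℕ} (hK : Fintype.card F = 3 ^ (2 * m + 1)) :
    Nat.card ↥(Subgroup.normalizer (SetLike.coe (V (F := F)))) = 12 := by
  classical
  set G := Matrix.ProjectiveSpecialLinearGroup (Fin 2) F
  set N := Subgroup.normalizer (SetLike.coe (V (F := F)))
  set T := {z : G // z ∈ (V : Subgroup G) ∧ z ≠ 1}
  have hN : ∀ (n : ↥N) (z : G), z ∈ (V : Subgroup G) → (n : G) * z * (n : G)⁻¹ ∈ (V : Subgroup G) := fun n z hz =>
    (Subgroup.mem_normalizer_iff.mp n.2 z).mp hz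
  letI : MulAction ↥N T :=
    { smul := fun n z => ⟨(n : G) * z.1 * (n : G)⁻¹, hN n _ z.2.1, fun e => z.2.2 (by
          have := congrArg (fun y => (n : G)⁻¹ * y * (n : G)) e
          simpa [mul_assoc] using this)⟩
      one_smul := fun z => Subtype.ext (by show ((1 : ↥N) : G) * z.1 * ((1 : ↥N) : G)⁻¹ = z.1; simp)
      mul_smul := fun n n' z => Subtype.ext (by
        show ((n * n' : ↥N) : G) * z.1 * ((n * n' : ↥N) : G)⁻¹ = (n : G) * ((n' : G) * z.1 * (n' : G)⁻¹) * (n : G)⁻¹
        simp [mul_assoc]) }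
  let f := MulAction.toPermHom ↥N T
  have hker : f.ker = (V : Subgroup G).subgroupOf N := by
    ext n
    rw [MonoidHom.mem_ker, Subgroup.mem_subgroupOf]
    constructor
    · intro h
      rw [← centralizer_V, Subgroup.mem_centralizer_iff]
      intro z hz
      by_cases h1 : z = 1
      · rw [h1, one_mul, mul_one]
      · have h2 : (n : G) * z * (n : G)⁻¹ = z :=
          congrArg Subtype.val (Equiv.ext_iff.mp h (⟨z, hz, h1⟩ : T))
        exact (mul_inv_eq_iff_eq_mul.mp h2).symm
    · intro h
      refine Equiv.ext fun z => Subtype.ext ?_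
      show (n : G) * z.1 * (n : G)⁻¹ = z.1
      rw [Subgroup.mem_centralizer_iff.mp ((centralizer_V (F := F)).ge z.2.1) _ h, mul_inv_cancel_right]
  have hT : Nat.card T = 3 := by
    have h4 := card_V (F := F)
    have e : T ≃ {z : ↥(V : Subgroup G) // z ≠ 1} :=
      { toFun := fun z => ⟨⟨z.1, z.2.1⟩, fun e => z.2.2 (congrArg Subtype.val e)⟩
        invFun := fun z => ⟨z.1.1, z.1.2, fun e => z.2 (Subtype.ext e)⟩
        left_inv := fun _ => rfl
        right_inv := fun _ => rfl }
    haveI : Fintype ↥(V : Subgroup G) := Fintype.ofFinite _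
    rw [Nat.card_congr e, Nat.card_eq_fintype_card, Fintype.card_subtype_compl, Fintype.card_subtype_eq,
      ← Nat.card_eq_fintype_card, h4]
  have hV : Nat.card f.ker = 4 := by
    rw [hker, Nat.card_congr (Subgroup.subgroupOfEquivOfLe Subgroup.le_normalizer).toEquiv, card_V]
  have hcard : Nat.card ↥N = Nat.card f.range * 4 := by
    rw [← hV, ← f.ker.index_mul_card, Subgroup.index_ker]
  have hr6 : Nat.card f.range ∣ 6 := by
    have := Subgroup.card_subgroup_dvd_card f.range
    rwa [Nat.card_perm, hT] at this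
  have h3 : 3 ∣ Nat.card ↥N := by
    have ht : orderOf (⟨pr sT, T_mem_norm⟩ : ↥N) = 3 := by
      haveI : Fact (Nat.Prime 3) := ⟨Nat.prime_three⟩
      exact orderOf_eq_prime (Subtype.ext pr_T_cube)
        (fun e => T_not_mem_V (by rw [show pr (sT : SL(2, F)) = 1 from congrArg Subtype.val e]; exact one_mem _))
    rw [← ht]; exact orderOf_dvd_natCard _
  have h8 : ¬ 8 ∣ Nat.card ↥N := by
    intro h
    have hd := h.trans (Subgroup.card_subgroup_dvd_card N)
    have hG := Cfsg.Agent.Classical.SL2.card_PSL2_mul (F := F)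
    have hq : Fintype.card F % 8 = 3 := by rw [hK, pow_succ, pow_mul, Nat.mul_mod, Nat.pow_mod]; norm_num
    have h2 : Nat.gcd 2 (Fintype.card F - 1) = 2 := Nat.gcd_eq_left (Nat.dvd_of_mod_eq_zero (by omega))
    rw [h2] at hG
    have h16 : 16 ∣ Fintype.card F * (Fintype.card F ^ 2 - 1) := hG ▸ (mul_dvd_mul_left 2 hd : 2 * 8 ∣ _)
    have hcop : Nat.Coprime 16 (Fintype.card F) := by
      rw [hK]; exact Nat.Coprime.pow_right _ (by norm_num)
    have h5 := (Nat.Coprime.dvd_of_dvd_mul_left hcop h16)
    obtain ⟨A, hA⟩ : ∃ A, Fintype.card F = 8 * A + 3 := ⟨Fintype.card F / 8, by omega⟩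
    rw [hA, show (8 * A + 3) ^ 2 - 1 = 16 * (4 * A * A + 3 * A) + 8 by
      rw [show (8 * A + 3) ^ 2 = 16 * (4 * A * A + 3 * A) + 9 by ring]; omega] at h5
    omega
  rw [hcard] at h3 h8 ⊢
  have hr : Nat.card f.range ≤ 6 := Nat.le_of_dvd (by norm_num) hr6
  interval_cases h : Nat.card f.range <;> omega

end Cfsg.Agent.SmallRee.Four
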