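import Cfsg.Agent.Lib.SmallRee.Centralizer
import Cfsg.Agent.Lib.SmallRee.PSLFour
import Mathlib.GroupTheory.Transfer

/-!
The Sylow 2-subgroups of a small Ree group are self-centralising with normalisers of order 168.
-/

set_option autoImplicit false
set_option maxRecDepth 20000

namespace Cfsg.Agent.SmallRee

open Cfsg.Lie Cfsg.Agent.Chev
open scoped Pointwise MatrixGroups

/-- In a perfect group no nontrivial element of an abelian Sylow subgroup is central in its normaliser. -/
theorem normalizer_fixed_eq_one {G : Type*} [Group G] [Finite G] {p : ℕ} [Fact p.Prime] (hG : commutator G = ⊤)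
    (P : Sylow p G) [IsMulCommutative P] {g : G} (hg : g ∈ P)
    (hc : ∀ n ∈ Subgroup.normalizer (P : Set G), n * g = g * n) : g = 1 := by
  have key : ∀ (k : ℕ) (g₀ : G), g₀⁻¹ * g ^ k * g₀ ∈ (P : Subgroup G) → g₀⁻¹ * g ^ k * g₀ = g ^ k := by
    intro k g₀ h
    obtain ⟨n, hn, e⟩ := P.conj_eq_normalizer_conj_of_mem (g ^ k) g₀ (pow_mem hg k) h
    have hcomm : Commute n (g ^ k) := (show Commute n g from hc n hn).pow_right k
    rw [e, mul_assoc, ← hcomm.eq, inv_mul_cancel_left]
  letI : CommGroup ↥(P : Subgroup G) := { (inferInstance : Group ↥(P : Subgroup G)) with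
    mul_comm := fun a b => IsMulCommutative.is_comm.comm a b }
  let ϕ : ↥(P : Subgroup G) →* ↥(P : Subgroup G) := MonoidHom.id _
  have h1 := MonoidHom.transfer_eq_pow ϕ g key
  have h2 : MonoidHom.transfer ϕ g = 1 := by
    have h3 : g ∈ commutator G := hG ▸ Subgroup.mem_top g
    exact Abelianization.commutator_subset_ker (MonoidHom.transfer ϕ) h3
  rw [h2] at h1
  have h4 : g ^ (P : Subgroup G).index = 1 := (congrArg Subtype.val h1).symm
  obtain ⟨j, hj⟩ := P.2 ⟨g, hg⟩
  have h5 : g ^ p ^ j = 1 := congrArg Subtype.val hj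
  have hcop : Nat.Coprime (p ^ j) (P : Subgroup G).index :=
    Nat.Coprime.pow_left _ ((Fact.out (p := p.Prime)).coprime_iff_not_dvd.mpr P.not_dvd_index)
  exact orderOf_eq_one_iff.mp (Nat.eq_one_of_dvd_coprimes hcop (orderOf_dvd_of_pow_eq_one h5)
    (orderOf_dvd_of_pow_eq_one h4))

variable {F : Type*} [Field F]

local notation "Q" => Matrix.ProjectiveSpecialLinearGroup (Fin 2) F

local notation "V" => (Four.V : Subgroup (Matrix.ProjectiveSpecialLinearGroup (Fin 2) F))

local notation "g2" => Multiplicative.ofAdd (1 : ZMod 2)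

set_option maxHeartbeats 800000 in
theorem sylow_two_norm_aux [CharP F 3] [Fintype F] {m : ℕ} (hK : Fintype.card F = 3 ^ (2 * m + 1))
    {G : Type*} [Group G] [Finite G] (hperf : commutator G = ⊤) {a : G} (ha1 : a ≠ 1)
    (e : ↥(Subgroup.centralizer {a}) ≃* Multiplicative (ZMod 2) × Matrix.ProjectiveSpecialLinearGroup (Fin 2) F)
    (P : Sylow 2 G) (hP8 : Nat.card P = 8) :
    Subgroup.centralizer ((P : Subgroup G) : Set G) = P ∧
      Nat.card ↥(Subgroup.normalizer ((P : Subgroup G) : Set G)) = 168 := by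
  classical
  haveI : Fact (Nat.Prime 2) := ⟨Nat.prime_two⟩
  set C := Subgroup.centralizer {a}
  have haC : a ∈ C := Subgroup.mem_centralizer_iff.mpr fun z hz => by rw [hz]
  let ι : Multiplicative (ZMod 2) × Q → G := fun p => (e.symm p : ↥C)
  have ι_mul : ∀ p q, ι (p * q) = ι p * ι q := fun p q => by simp [ι]
  have ι_inj : Function.Injective ι := Subtype.val_injective.comp e.symm.injective
  have ι_C : ∀ p, ι p ∈ C := fun p => (e.symm p).2
  have ι_surj : ∀ g ∈ C, ∃ p, ι p = g := fun g hg => ⟨e ⟨g, hg⟩, by simp [ι]⟩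
  have ι_one : ι 1 = 1 := by simp [ι]
  have ι_inv : ∀ p, ι p⁻¹ = (ι p)⁻¹ := fun p => by simp [ι]
  have ι_conj : ∀ p q, ι p * ι q * (ι p)⁻¹ = ι (p * q * p⁻¹) := fun p q => by rw [ι_mul, ι_mul, ι_inv]
  have ha_e : ι (g2, 1) = a := by
    obtain ⟨⟨z, q⟩, hp⟩ := ι_surj a haC
    have hcen : ∀ x : Q, q * x = x * q := by
      intro x
      have h1 : a * ι (1, x) = ι (1, x) * a := Subgroup.mem_centralizer_iff.mp (ι_C _) a rfl
      rw [← hp, ← ι_mul, ← ι_mul] at h1
      exact congrArg Prod.snd (ι_inj h1)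
    have hqV : q ∈ V := by
      show q ∈ Four.V
      rw [← Four.centralizer_V]
      exact Subgroup.mem_centralizer_iff.mpr fun x _ => (hcen x).symm
    have hq1 : q = 1 := Four.fixed_by_T hqV (by rw [← hcen, mul_inv_cancel_right])
    subst hq1
    rcases z2_cases z with rfl | rfl
    · exact absurd (hp.symm.trans ι_one) ha1
    · exact hp
  let P₀ : Subgroup G :=
    { carrier := {x | ∃ p : Multiplicative (ZMod 2) × Q, p.2 ∈ V ∧ ι p = x}
      one_mem' := ⟨1, one_mem _, ι_one⟩
      mul_mem' := by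
        rintro x y ⟨p, hp, rfl⟩ ⟨q, hq, rfl⟩
        exact ⟨p * q, mul_mem hp hq, ι_mul p q⟩
      inv_mem' := by
        rintro x ⟨p, hp, rfl⟩
        exact ⟨p⁻¹, inv_mem hp, ι_inv p⟩ }
  have hP₀ : ∀ {x : G}, x ∈ P₀ ↔ ∃ p : Multiplicative (ZMod 2) × Q, p.2 ∈ V ∧ ι p = x := Iff.rfl
  have hPι : ∀ {p}, ι p ∈ P₀ ↔ p.2 ∈ V := fun {p} =>
    ⟨fun ⟨q, hq, h⟩ => ι_inj h ▸ hq, fun h => ⟨p, h, rfl⟩⟩
  have haP : a ∈ P₀ := ha_e ▸ hPι.mpr (one_mem _)
  have hcard8 : Nat.card ↥P₀ = 8 := by
    let f : Multiplicative (ZMod 2) × ↥V → ↥P₀ := fun p => ⟨ι (p.1, p.2), hPι.mpr p.2.2⟩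
    have hf : Function.Bijective f := by
      refine ⟨fun p q h => ?_, fun ⟨x, p, hp, hx⟩ => ⟨(p.1, ⟨p.2, hp⟩), Subtype.ext hx⟩⟩
      have h2 := ι_inj (congrArg (fun z : ↥P₀ => (z : G)) h)
      exact Prod.ext (congrArg Prod.fst h2 :) (Subtype.ext (congrArg Prod.snd h2 :))
    rw [← Nat.card_eq_of_bijective f hf, Nat.card_prod, Nat.card_congr Multiplicative.toAdd, Nat.card_zmod,
      Four.card_V]
  have hfac : 2 ^ (Nat.card G).factorization 2 = 8 := by
    rw [← P.card_eq_multiplicity]; exact hP8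
  let P' : Sylow 2 G := Sylow.ofCard P₀ (hcard8.trans hfac.symm)
  have hcomm : ∀ x ∈ P₀, ∀ y ∈ P₀, x * y = y * x := by
    rintro x ⟨p, hp, rfl⟩ y ⟨q, hq, rfl⟩
    rw [← ι_mul, ← ι_mul]
    refine congrArg ι (Prod.ext (mul_comm _ _) ?_)
    exact Subgroup.mem_centralizer_iff.mp ((Four.centralizer_V (F := F)).ge hq) _ hp
  have hcent : Subgroup.centralizer (P₀ : Set G) = P₀ := by
    refine le_antisymm (fun g hg => ?_) fun g hg => Subgroup.mem_centralizer_iff.mpr fun x hx => hcomm x hx g hg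
    have hgC : g ∈ C := Subgroup.mem_centralizer_iff.mpr fun z hz => by
      rw [hz]; exact Subgroup.mem_centralizer_iff.mp hg a haP
    obtain ⟨p, rfl⟩ := ι_surj g hgC
    rw [hPι]
    show p.2 ∈ Four.V
    rw [← Four.centralizer_V]
    refine Subgroup.mem_centralizer_iff.mpr fun v hv => ?_
    have h1 := Subgroup.mem_centralizer_iff.mp hg (ι (1, v)) (hPι.mpr hv)
    rw [← ι_mul, ← ι_mul] at h1
    exact congrArg Prod.snd (ι_inj h1)
  set N := Subgroup.normalizer (P₀ : Set G) with hN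
  have hNι : ∀ p, ι p ∈ N ↔ p.2 ∈ Subgroup.normalizer (SetLike.coe V) := by
    intro p
    rw [hN, Subgroup.mem_normalizer_iff, Subgroup.mem_normalizer_iff]
    constructor
    · intro h v
      have h1 := h (ι (1, v))
      rw [ι_conj, hPι, hPι] at h1
      exact h1
    · intro h x
      constructor
      · rintro ⟨q, hq, rfl⟩
        rw [ι_conj]; exact hPι.mpr ((h q.2).mp hq)
      · rintro ⟨q, hq, hx⟩
        have e2 : x = ι (p⁻¹ * q * p) := by
          rw [ι_mul, ι_mul, hx, ι_inv]; simp [mul_assoc]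
        rw [e2, hPι]
        refine (h _).mpr ?_
        have e3 : p.2 * (p⁻¹ * q * p).2 * p.2⁻¹ = q.2 := by simp [mul_assoc]
        rw [e3]; exact hq
  letI : MulAction ↥N G :=
    { smul := fun n x => (n : G) * x * (n : G)⁻¹
      one_smul := fun x => by show ((1 : ↥N) : G) * x * ((1 : ↥N) : G)⁻¹ = x; simp
      mul_smul := fun n n' x => by
        show ((n * n' : ↥N) : G) * x * ((n * n' : ↥N) : G)⁻¹ = (n : G) * ((n' : G) * x * (n' : G)⁻¹) * (n : G)⁻¹
        simp [mul_assoc] }
  set O := MulAction.orbit ↥N a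
  have hstab : Nat.card ↥(MulAction.stabilizer ↥N a) = 24 := by
    let f : Multiplicative (ZMod 2) × ↥(Subgroup.normalizer (SetLike.coe V)) → ↥(MulAction.stabilizer ↥N a) :=
      fun p => ⟨⟨ι (p.1, p.2), (hNι _).mpr p.2.2⟩, by
        rw [MulAction.mem_stabilizer_iff]
        show ι _ * a * (ι _)⁻¹ = a
        rw [← Subgroup.mem_centralizer_iff.mp (ι_C _) a rfl, mul_inv_cancel_right]⟩
    have hf : Function.Bijective f := by
      refine ⟨fun p q h => ?_, ?_⟩
      · have h2 := ι_inj (congrArg (fun z : ↥(MulAction.stabilizer ↥N a) => ((z : ↥N) : G)) h)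
        exact Prod.ext (congrArg Prod.fst h2 :) (Subtype.ext (congrArg Prod.snd h2 :))
      · rintro ⟨⟨g, hgN⟩, hg⟩
        have hgC : g ∈ C := Subgroup.mem_centralizer_iff.mpr fun z hz => by
          rw [hz]; exact (mul_inv_eq_iff_eq_mul.mp (hg : g * a * g⁻¹ = a)).symm
        obtain ⟨p, rfl⟩ := ι_surj g hgC
        exact ⟨(p.1, ⟨p.2, (hNι p).mp hgN⟩), rfl⟩
    rw [← Nat.card_eq_of_bijective f hf, Nat.card_prod, Nat.card_congr Multiplicative.toAdd, Nat.card_zmod,
      Four.card_norm hK]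
  have hNcard : Nat.card ↥N = O.ncard * 24 := by
    rw [← MulAction.index_stabilizer, ← hstab, Subgroup.index_mul_card]
  have hodd : O.ncard % 2 = 1 := by
    by_contra hc
    have h16 : 2 ^ 4 ∣ Nat.card G := by
      refine dvd_trans ?_ (Subgroup.card_subgroup_dvd_card N)
      rw [hNcard]; exact ⟨O.ncard / 2 * 3, by omega⟩
    have := (Nat.prime_two.pow_dvd_iff_le_factorization (Nat.card_pos (α := G)).ne').mp h16
    have h3 : (Nat.card G).factorization 2 = 3 := Nat.pow_right_injective (le_refl 2) (hfac.trans (by norm_num))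
    omega
  have hinv : ∀ (n : G), n ∈ N → ∀ x ∈ O, n * x * n⁻¹ ∈ O := by
    rintro n hn _ ⟨k, rfl⟩
    exact ⟨⟨n, hn⟩ * k, mul_smul _ k a⟩
  have hsubP : O ⊆ {x | x ∈ P₀ ∧ x ≠ 1} := by
    rintro _ ⟨n, rfl⟩
    refine ⟨(Subgroup.mem_normalizer_iff.mp n.2 a).mp haP, fun h => ha1 ?_⟩
    have h' : (n : G) * a * (n : G)⁻¹ = 1 := h
    exact mul_eq_left.mp (mul_inv_eq_one.mp h')
  have haO : a ∈ O := MulAction.mem_orbit_self a
  have htN : ι (1, Four.pr Four.sT) ∈ N := (hNι _).mpr Four.T_mem_norm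
  set t : Q := Four.pr Four.sT with ht
  have hstep : ∀ z v, ι (z, v) ∈ O → ι (z, t * v * t⁻¹) ∈ O := fun z v h => by
    have h1 := hinv _ htN _ h
    rw [ι_conj] at h1
    simpa using h1
  have ht3 : t ^ 3 = 1 := Four.pr_T_cube
  have hblock : ∀ z v, v ∈ V → v ≠ 1 → ι (z, v) ∈ O → ∀ v' ∈ V, v' ≠ 1 → ι (z, v') ∈ O := by
    intro z v hv hv1 hO v' hv' hv1'
    have hW : ι (z, Four.pr Four.sW) ∈ O := by
      rcases Four.T_trans hv hv1 with h | h | h <;> rw [h] at hO
      · exact hO
      · have := hstep _ _ (hstep _ _ hO)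
        rwa [show t * (t * (t * Four.pr Four.sW * t⁻¹) * t⁻¹) * t⁻¹ = t ^ 3 * Four.pr Four.sW * (t ^ 3)⁻¹ by
          rw [pow_succ, pow_two]; simp [mul_assoc], ht3, one_mul, inv_one, mul_one] at this
      · have := hstep _ _ hO
        rwa [show t * (t * (t * Four.pr Four.sW * t⁻¹) * t⁻¹) * t⁻¹ = t ^ 3 * Four.pr Four.sW * (t ^ 3)⁻¹ by
          rw [pow_succ, pow_two]; simp [mul_assoc], ht3, one_mul, inv_one, mul_one] at this
    rcases Four.T_trans hv' hv1' with rfl | rfl | rfl
    · exact hW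
    · exact hstep _ _ hW
    · exact hstep _ _ (hstep _ _ hW)
  let Vs : Finset Q := Finset.univ.filter fun v => v ∈ V ∧ v ≠ 1
  have hVs : Vs.card = 3 := by
    have h1 : insert 1 Vs = Finset.univ.filter fun v => v ∈ V := by
      ext v
      simp only [Vs, Finset.mem_insert, Finset.mem_filter, Finset.mem_univ, true_and]
      by_cases h : v = 1
      · subst h; simp [one_mem]
      · simp [h]
    have h2 : (Finset.univ.filter fun v => v ∈ V).card = 4 := by
      rw [← Four.card_V (F := F), Nat.card_eq_fintype_card]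
      exact (Fintype.card_subtype _).symm
    have h3 : (1 : Q) ∉ Vs := by simp [Vs]
    rw [← h1, Finset.card_insert_of_notMem h3] at h2
    omega
  let blk : Multiplicative (ZMod 2) → Finset G := fun z => Vs.image fun v => ι (z, v)
  have hblk : ∀ z, (blk z).card = 3 := fun z => by
    rw [Finset.card_image_of_injective _ fun v w h => congrArg Prod.snd (ι_inj h), hVs]
  have hmemblk : ∀ {z x}, x ∈ blk z ↔ ∃ v, v ∈ V ∧ v ≠ 1 ∧ ι (z, v) = x := fun {z x} => by
    simp [blk, Vs, and_assoc]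
  have hanot : ∀ z, a ∉ blk z := fun z h => by
    obtain ⟨v, -, hv, h⟩ := hmemblk.mp h
    exact hv (congrArg Prod.snd (ι_inj (h.trans ha_e.symm)))
  have hO7 : O.ncard = 7 := by
    have hsplit : ∀ x ∈ O, x = a ∨ x ∈ blk 1 ∨ x ∈ blk g2 := by
      intro x hx
      obtain ⟨⟨⟨z, v⟩, hv, rfl⟩, hx1⟩ := hsubP hx
      by_cases hv1 : v = 1
      · subst hv1
        rcases z2_cases z with rfl | rfl
        · exact absurd ι_one hx1
        · exact Or.inl ha_e
      · rcases z2_cases z with rfl | rfl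
        · exact Or.inr (Or.inl (hmemblk.mpr ⟨v, hv, hv1, rfl⟩))
        · exact Or.inr (Or.inr (hmemblk.mpr ⟨v, hv, hv1, rfl⟩))
    have hfull : ∀ z x, x ∈ blk z → x ∈ O → ↑(blk z) ⊆ O := by
      intro z x hx hxO y hy
      obtain ⟨v, hv, hv1, rfl⟩ := hmemblk.mp hx
      obtain ⟨v', hv', hv1', rfl⟩ := hmemblk.mp (Finset.mem_coe.mp hy)
      exact hblock z v hv hv1 hxO v' hv' hv1'
    have hdis : Disjoint (blk 1) (blk g2) := Finset.disjoint_left.mpr fun x h h' => by
      obtain ⟨v, -, -, rfl⟩ := hmemblk.mp h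
      obtain ⟨w, -, -, hw⟩ := hmemblk.mp h'
      exact z2_ne (congrArg Prod.fst (ι_inj hw))
    by_cases h1 : ∃ x ∈ blk 1, x ∈ O <;> by_cases h2 : ∃ x ∈ blk g2, x ∈ O
    · have hO : O = ↑(insert a (blk 1 ∪ blk g2)) := by
        refine Set.Subset.antisymm (fun x hx => ?_) fun x hx => ?_
        · simp only [Finset.coe_insert, Finset.coe_union, Set.mem_insert_iff, Set.mem_union, Finset.mem_coe]
          exact hsplit x hx
        · simp only [Finset.coe_insert, Finset.coe_union, Set.mem_insert_iff, Set.mem_union, Finset.mem_coe] at hx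
          obtain ⟨x1, hx1, hx1'⟩ := h1
          obtain ⟨x2, hx2, hx2'⟩ := h2
          rcases hx with rfl | h | h
          · exact haO
          · exact hfull _ _ hx1 hx1' h
          · exact hfull _ _ hx2 hx2' h
      rw [hO, Set.ncard_coe_finset, Finset.card_insert_of_notMem (by simp [hanot]),
        Finset.card_union_of_disjoint hdis, hblk, hblk]
    · exfalso
      push Not at h2
      obtain ⟨x1, hx1, hx1'⟩ := h1
      have hO : O = ↑(insert a (blk 1)) := by
        refine Set.Subset.antisymm (fun x hx => ?_) fun x hx => ?_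
        · rw [Finset.coe_insert, Set.mem_insert_iff, Finset.mem_coe]
          rcases hsplit x hx with h | h | h
          exacts [Or.inl h, Or.inr h, absurd hx (h2 x h)]
        · rw [Finset.coe_insert, Set.mem_insert_iff, Finset.mem_coe] at hx
          rcases hx with rfl | h
          exacts [haO, hfull _ _ hx1 hx1' h]
      rw [hO, Set.ncard_coe_finset, Finset.card_insert_of_notMem (hanot 1), hblk] at hodd
      omega
    · exfalso
      push Not at h1
      obtain ⟨x2, hx2, hx2'⟩ := h2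
      have hO : O = ↑(insert a (blk g2)) := by
        refine Set.Subset.antisymm (fun x hx => ?_) fun x hx => ?_
        · rw [Finset.coe_insert, Set.mem_insert_iff, Finset.mem_coe]
          rcases hsplit x hx with h | h | h
          exacts [Or.inl h, absurd hx (h1 x h), Or.inr h]
        · rw [Finset.coe_insert, Set.mem_insert_iff, Finset.mem_coe] at hx
          rcases hx with rfl | h
          exacts [haO, hfull _ _ hx2 hx2' h]
      rw [hO, Set.ncard_coe_finset, Finset.card_insert_of_notMem (hanot g2), hblk] at hodd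
      omega
    · exfalso
      push Not at h1 h2
      have hfix : ∀ n ∈ N, n * a = a * n := fun n hn => by
        have hx := hinv n hn a haO
        rcases hsplit _ hx with h | h | h
        exacts [mul_inv_eq_iff_eq_mul.mp h, absurd hx (h1 _ h), absurd hx (h2 _ h)]
      haveI : IsMulCommutative P' := ⟨⟨fun x y => Subtype.ext (hcomm _ x.2 _ y.2)⟩⟩
      exact ha1 (normalizer_fixed_eq_one hperf P' haP hfix)
  obtain ⟨g, rfl⟩ := MulAction.exists_smul_eq G P' P
  have hmap : ((g • P' : Sylow 2 G) : Subgroup G) = P₀.map (MulAut.conj g).toMonoidHom := by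
    rw [Sylow.coe_subgroup_smul]
    rfl
  constructor
  · rw [hmap, Subgroup.coe_map]
    refine le_antisymm (fun x hx => ?_) ?_
    · refine ⟨g⁻¹ * x * g, ?_, by simp [mul_assoc]⟩
      show g⁻¹ * x * g ∈ P₀
      rw [← hcent]
      refine Subgroup.mem_centralizer_iff.mpr fun y hy => ?_
      have h1 := Subgroup.mem_centralizer_iff.mp hx _ (Set.mem_image_of_mem _ hy)
      simp only [MulEquiv.coe_toMonoidHom, MulAut.conj_apply] at h1
      have h2 := congrArg (fun w => g⁻¹ * w * g) h1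
      simpa [mul_assoc] using h2
    · rintro _ ⟨x, hx, rfl⟩
      refine Subgroup.mem_centralizer_iff.mpr ?_
      rintro _ ⟨y, hy, rfl⟩
      rw [← map_mul, ← map_mul, hcomm y hy x hx]
  · rw [hmap, ← Subgroup.map_equiv_normalizer_eq,
      Subgroup.card_map_of_injective (MulAut.conj g).injective]
    show Nat.card ↥N = 168
    rw [hNcard, hO7]

namespace Tw

variable (S : Tw F) [CharP F 3] [Fintype F]

theorem sylow_two_norm {m : ℕ} (hK : Fintype.card F = 3 ^ (2 * m + 1)) (hm : 1 ≤ m) (P : Sylow 2 ↥S.Gr) :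
    Subgroup.centralizer ((P : Subgroup ↥S.Gr) : Set ↥S.Gr) = P ∧
      Nat.card ↥(Subgroup.normalizer ((P : Subgroup ↥S.Gr) : Set ↥S.Gr)) = 168 := by
  obtain ⟨e⟩ := S.exists_centralizer_equiv hK
  refine sylow_two_norm_aux hK (S.perfect hK hm) (fun h => ?_) e P (S.sylow_two hK P).1
  have h2 := congrArg Units.val (S.D_inj (h.trans (map_one S.D).symm))
  rw [Units.val_neg, Units.val_one] at h2
  exact neg_one_ne_one h2

end Tw

end Cfsg.Agent.SmallRee
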