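import Cfsg.Agent.Lib.SmallRee.TorusFacts
import Cfsg.Agent.Lib.SmallRee.Stab
import Cfsg.Agent.Lib.SmallRee.SylowTwoNorm
import Cfsg.Agent.Lib.Solv.Basic

/-!
The cyclic core of a torus, the normaliser of a Sylow three-subgroup, and the solvable subgroups of the small
Ree groups.
-/

set_option autoImplicit false
set_option maxRecDepth 20000

namespace Cfsg.Agent.SmallRee

open scoped Pointwise

theorem map_conj_centralizer {G : Type*} [Group G] {g : G} {A : Subgroup G}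
    (hg : g ∈ Subgroup.normalizer (A : Set G)) {x : G} (hx : x ∈ Subgroup.centralizer (A : Set G)) :
    g * x * g⁻¹ ∈ Subgroup.centralizer (A : Set G) := by
  refine Subgroup.mem_centralizer_iff.mpr fun a ha => ?_
  have h1 : g⁻¹ * a * g ∈ A := (Subgroup.mem_normalizer_iff''.mp hg a).mp ha
  have h2 := Subgroup.mem_centralizer_iff.mp hx _ h1
  calc a * (g * x * g⁻¹) = g * (g⁻¹ * a * g * x) * g⁻¹ := by simp [mul_assoc]
    _ = g * (x * (g⁻¹ * a * g)) * g⁻¹ := by rw [h2]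
    _ = _ := by simp [mul_assoc]

namespace Tw

variable {F : Type*} [Field F] (S : Tw F) [CharP F 3] [Fintype F] {m : ℕ}

/-- Every element of prime order at least five lies in a cyclic core. -/
theorem exists_core (hm : 1 ≤ m) (hK : Fintype.card F = 3 ^ (2 * m + 1)) (hth : ∀ x, S.th x = x ^ 3 ^ m) {y : ↥S.Gr}
    {l : ℕ} (hl : l.Prime) (h5 : 5 ≤ l) (hord : orderOf y = l) :
    ∃ k ∈ oddOrders (Fintype.card F) (3 ^ (m + 1)), l ∣ k ∧ ∃ A : Subgroup ↥S.Gr, IsCyclic ↥A ∧ Nat.card ↥A = k ∧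
      y ∈ A ∧ A ≤ Subgroup.centralizer ({y} : Set ↥S.Gr) ∧
      Subgroup.centralizer (A : Set ↥S.Gr) = Subgroup.centralizer ({y} : Set ↥S.Gr) ∧
      Subgroup.normalizer (Subgroup.zpowers y : Set ↥S.Gr) = Subgroup.normalizer (A : Set ↥S.Gr) := by
  obtain ⟨a1, a2, a3, a4, a5, o1, o2, o3, o4, b1, b2, b3, b4⟩ := arith' (F := F) hm hK
  set C := Subgroup.centralizer ({y} : Set ↥S.Gr)
  have hT := S.exists_torus hK hth hl h5 hord
  have hyC : y ∈ C := Subgroup.mem_centralizer_singleton_iff.mpr rfl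
  have hlC : l ∣ Nat.card ↥C := by
    rw [← hord]; simpa [Subgroup.orderOf_mk] using orderOf_dvd_natCard (⟨y, hyC⟩ : ↥C)
  have e : ∀ q : ℕ, q % 8 = 3 → 2 * ((q - 1) / 2) = q - 1 ∧ 4 * ((q + 1) / 4) = q + 1 ∧
      (q + 1) / 4 * 2 = (q + 1) / 2 := fun q h => by omega
  obtain ⟨e1, e2, e3⟩ := e _ a5
  obtain ⟨k, hk, d, hd, hcard, a, ha⟩ : ∃ k ∈ oddOrders (Fintype.card F) (3 ^ (m + 1)), ∃ d ∈ [1, 2, 4],
      Nat.card ↥C = d * k ∧ ∃ a : ↥C, k ∣ orderOf a := by
    rcases hT.2 with ⟨hc, hcyc⟩ | ⟨hc, -, a, ha⟩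
    · obtain ⟨a, ha⟩ := IsCyclic.exists_ofOrder_eq_natCard (α := ↥C)
      rcases hc with hc | hc | hc
      · exact ⟨(Fintype.card F - 1) / 2, by simp [oddOrders], 2, by simp, hc.trans e1.symm, a,
          ha.symm ▸ Dvd.intro 2 (by rw [mul_comm, e1, hc])⟩
      · exact ⟨Fintype.card F - 3 ^ (m + 1) + 1, by simp [oddOrders], 1, by simp, by rw [one_mul, hc], a, by rw [ha, hc]⟩
      · exact ⟨Fintype.card F + 3 ^ (m + 1) + 1, by simp [oddOrders], 1, by simp, by rw [one_mul, hc], a, by rw [ha, hc]⟩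
    · exact ⟨(Fintype.card F + 1) / 4, by simp [oddOrders], 4, by simp, hc.trans e2.symm, a,
        ha.symm ▸ Dvd.intro 2 e3⟩
  have hlk : l ∣ k := by
    refine (hl.dvd_mul.mp (hcard ▸ hlC)).resolve_left fun h => ?_
    have := Nat.le_of_dvd (by fin_cases hd <;> norm_num) h
    fin_cases hd <;> omega
  obtain ⟨ko, k3, k1, -⟩ := oddOrders_spec hm hK hk
  set b : ↥S.Gr := ((a ^ (orderOf a / k) : ↥C) : ↥S.Gr) with hb
  have hob : orderOf b = k := by
    rw [hb, Subgroup.orderOf_coe, orderOf_pow_orderOf_div (orderOf_pos a).ne' ha]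
  have hbC : Subgroup.zpowers b ≤ C := Subgroup.zpowers_le.mpr (SetLike.coe_mem _)
  have hAc : Nat.card ↥(Subgroup.zpowers b) = k := by rw [Nat.card_zpowers, hob]
  have hyz : Subgroup.zpowers y = Subgroup.zpowers (b ^ (k / l)) := by
    refine (torus_odd a3 hT (Subgroup.zpowers_le.mpr hyC) ?_).2 _ (Subgroup.zpowers_le.mpr (pow_mem (SetLike.coe_mem _) _)) ?_
    · rw [Nat.card_zpowers, hord]; exact hl.odd_of_ne_two (by omega)
    · rw [Nat.card_zpowers, Nat.card_zpowers, hord, ← hob, orderOf_pow_orderOf_div (orderOf_pos b).ne' (hob ▸ hlk)]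
  have hyA : y ∈ Subgroup.zpowers b := by
    have := Subgroup.mem_zpowers y
    rw [hyz] at this
    exact Subgroup.zpowers_le.mpr (pow_mem (Subgroup.mem_zpowers b) _) this
  have hy1 : y ≠ 1 := fun h => hl.ne_one (by rw [← hord, h, orderOf_one])
  have hcyc : IsCyclic ↥(Subgroup.zpowers b) := inferInstance
  have hne : Subgroup.zpowers b ≠ ⊥ := fun h => hy1 (by rw [h] at hyA; exact Subgroup.mem_bot.mp hyA)
  have hCA : Subgroup.centralizer (Subgroup.zpowers b : Set ↥S.Gr) = C :=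
    le_antisymm (Subgroup.centralizer_le (Set.singleton_subset_iff.mpr hyA))
      (fun x hx => (S.cent_odd hm hK hth hk hne hAc.dvd (cyclic_le_cent hcyc)).2.2 y hyA hy1 x
        (Subgroup.mem_centralizer_singleton_iff.mp hx))
  refine ⟨k, hk, hlk, Subgroup.zpowers b, hcyc, hAc, hyA, hbC, hCA, ?_⟩
  refine le_antisymm (fun g hg => ?_) (fun g hg => ?_)
  · have hle : (Subgroup.zpowers b).map (MulAut.conj g).toMonoidHom ≤ C := by
      rintro _ ⟨x, hx, rfl⟩
      have hxC : x ∈ Subgroup.centralizer (Subgroup.zpowers y : Set ↥S.Gr) := by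
        have h := hbC hx
        refine Subgroup.mem_centralizer_iff.mpr fun z hz => ?_
        obtain ⟨i, rfl⟩ := Subgroup.mem_zpowers_iff.mp hz
        exact (Commute.zpow_left (show Commute y x from
          (Subgroup.mem_centralizer_singleton_iff.mp h).symm) i).eq
      refine Subgroup.mem_centralizer_singleton_iff.mpr ?_
      exact (Subgroup.mem_centralizer_iff.mp (map_conj_centralizer hg hxC) y (Subgroup.mem_zpowers y)).symm
    have he := (torus_odd a3 hT hbC (hAc ▸ ko)).2 _ hle (Subgroup.card_map_of_injective (MulAut.conj g).injective)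
    rw [Subgroup.mem_normalizer_iff_map_conj_eq]
    exact he.symm
  · rw [Subgroup.mem_normalizer_iff_map_conj_eq] at hg ⊢
    refine sub_cyclic_eq (Z := Subgroup.zpowers b) ?_ (Subgroup.zpowers_le.mpr hyA)
      (Subgroup.card_map_of_injective (MulAut.conj g).injective).symm
    conv_rhs => rw [← hg]
    exact Subgroup.map_mono (Subgroup.zpowers_le.mpr hyA)

theorem card_B : Nat.card ↥S.BB = Fintype.card F ^ 3 * (Fintype.card F - 1) := by
  classical
  let f : (F × F × F) × Fˣ → ↥S.BB := fun p => ⟨S.R p.1.1 p.1.2.1 p.1.2.2 * S.D p.2, S.mem_B.mpr ⟨_, _, _, _, rfl⟩⟩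
  have hf : Function.Bijective f := by
    refine ⟨fun p p' h => ?_, fun g => ?_⟩
    · obtain ⟨e1, e2, e3, e4⟩ := S.RD_inj (congrArg Subtype.val h)
      exact Prod.ext (Prod.ext e1 (Prod.ext e2 e3)) e4
    · obtain ⟨t, u, w, v, e⟩ := S.mem_B.mp g.2
      exact ⟨⟨⟨t, u, w⟩, v⟩, Subtype.ext e.symm⟩
  rw [← Nat.card_eq_of_bijective f hf]
  simp only [Nat.card_eq_fintype_card, Fintype.card_prod, Fintype.card_units]
  ring

theorem card_norm_three (hm : 1 ≤ m) (hK : Fintype.card F = 3 ^ (2 * m + 1)) (P : Sylow 3 ↥S.Gr) :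
    Nat.card ↥(Subgroup.normalizer ((P : Subgroup ↥S.Gr) : Set ↥S.Gr)) =
      Fintype.card F ^ 3 * (Fintype.card F - 1) := by
  haveI : Fact (Nat.Prime 3) := ⟨Nat.prime_three⟩
  set U := Sylow.ofCard S.UU (S.card_U_fact hK) with hU
  obtain ⟨g, rfl⟩ := MulAction.exists_smul_eq ↥S.Gr U P
  have hN : Subgroup.normalizer ((U : Subgroup ↥S.Gr) : Set ↥S.Gr) = S.BB := by
    refine le_antisymm (fun x hx => ?_) (fun x hx => ?_)
    · by_contra hxB
      obtain ⟨u, hu, hu1⟩ : ∃ u ∈ S.UU, u ≠ 1 := ⟨S.R 0 1 0, S.R_mem_U _ _ _, fun h => by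
        rw [← S.R_zero] at h; exact one_ne_zero (S.R_inj h).2.1⟩
      exact hu1 (S.inter_conj hxB hu ((Subgroup.mem_normalizer_iff''.mp hx u).mp hu))
    · rw [Subgroup.mem_normalizer_iff]
      intro y
      constructor
      · exact fun hy => S.conj_U hx hy
      · intro hy
        have := S.conj_U (inv_mem hx) hy
        rwa [inv_inv, show x⁻¹ * (x * y * x⁻¹) * x = y by simp [mul_assoc]] at this
  rw [Sylow.coe_subgroup_smul, ← S.card_B, ← hN]
  refine Nat.card_congr (Equiv.subtypeEquiv (MulAut.conj g⁻¹).toEquiv fun x => ?_)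
  rw [Subgroup.mem_normalizer_iff, Subgroup.mem_normalizer_iff]
  simp only [MulEquiv.toEquiv_eq_coe, EquivLike.coe_coe, MulAut.conj_apply, inv_inv]
  constructor
  · intro h y
    have := h (g * y * g⁻¹)
    simpa [Subgroup.mem_pointwise_smul_iff_inv_smul_mem, mul_assoc] using this
  · intro h y
    have := h (g⁻¹ * y * g)
    simpa [Subgroup.mem_pointwise_smul_iff_inv_smul_mem, mul_assoc] using this

theorem norm_three_of_three (hK : Fintype.card F = 3 ^ (2 * m + 1)) {P : Sylow 3 ↥S.Gr} {M : Subgroup ↥S.Gr}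
    (hM : M ≠ ⊥) (hMP : M ≤ (P : Subgroup ↥S.Gr)) :
    Subgroup.normalizer (M : Set ↥S.Gr) ≤ Subgroup.normalizer ((P : Subgroup ↥S.Gr) : Set ↥S.Gr) := by
  intro g hg
  obtain ⟨y, hy, hy1⟩ := (Subgroup.bot_or_exists_ne_one M).resolve_left hM
  have heq : g • P = P := by
    by_contra hne
    refine hy1 (Subgroup.mem_bot.mp ?_)
    rw [← S.sylow_ti hK _ _ hne]
    refine Subgroup.mem_inf.mpr ⟨?_, hMP hy⟩
    rw [Sylow.coe_subgroup_smul, Subgroup.mem_pointwise_smul_iff_inv_smul_mem]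
    simpa [mul_assoc] using hMP ((Subgroup.mem_normalizer_iff''.mp hg y).mp hy)
  exact Sylow.smul_eq_iff_mem_normalizer.mp heq

/-- No element of order three centralises a four group. -/
theorem four_cent_coprime (hm : 1 ≤ m) (hK : Fintype.card F = 3 ^ (2 * m + 1)) {V : Subgroup ↥S.Gr}
    (hV : Nat.card ↥V = 4) : ¬ 3 ∣ Nat.card ↥(Subgroup.centralizer (V : Set ↥S.Gr)) := by
  haveI : Fact (Nat.Prime 3) := ⟨Nat.prime_three⟩
  intro h
  obtain ⟨x, hx⟩ := exists_prime_orderOf_dvd_card' 3 h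
  rw [← Subgroup.orderOf_coe] at hx
  have hp : IsPGroup 3 ↥(Subgroup.zpowers (x : ↥S.Gr)) :=
    IsPGroup.of_card (n := 1) (by rw [Nat.card_zpowers, hx, pow_one])
  obtain ⟨P, hP⟩ := hp.exists_le_sylow
  have hne : Subgroup.zpowers (x : ↥S.Gr) ≠ ⊥ := fun e => by
    rw [Subgroup.zpowers_eq_bot] at e
    rw [e, orderOf_one] at hx
    omega
  have hle : V ≤ Subgroup.normalizer ((P : Subgroup ↥S.Gr) : Set ↥S.Gr) := by
    refine le_trans (fun v hv => ?_) (S.norm_three_of_three hK hne hP)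
    rw [Subgroup.mem_normalizer_iff_map_conj_eq, MonoidHom.map_zpowers]
    congr 1
    show v * (x : ↥S.Gr) * v⁻¹ = x
    rw [Subgroup.mem_centralizer_iff.mp x.2 v hv, mul_inv_cancel_right]
  have h4 := Subgroup.card_dvd_of_le hle
  rw [hV, S.card_norm_three hm hK] at h4
  obtain ⟨-, -, -, -, a5, -⟩ := arith' (F := F) hm hK
  have hodd : Odd (Fintype.card F ^ 3) := Odd.pow (by rw [Nat.odd_iff]; omega)
  have h2 : (4 : ℕ) ∣ Fintype.card F - 1 :=
    (Nat.Coprime.pow_left 2 (Nat.coprime_two_left.mpr hodd)).dvd_of_dvd_mul_left h4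
  omega

open Cfsg Cfsg.Agent.Solv in
set_option maxHeartbeats 1600000 in
/-- The solvable subgroups. -/
theorem solvable_local (hm : 1 ≤ m) (hK : Fintype.card F = 3 ^ (2 * m + 1)) (hth : ∀ x, S.th x = x ^ 3 ^ m)
    (H : Subgroup ↥S.Gr) (hH : Group.IsSolvable ↥H) :
    ∃ A : Subgroup ↥S.Gr, H ≤ Subgroup.normalizer (A : Set ↥S.Gr) ∧
      ((∃ P : Sylow 2 ↥S.Gr, A = P) ∨ (∃ P : Sylow 3 ↥S.Gr, A = P) ∨
       (IsCyclic ↥A ∧ Nat.card ↥A ∈ oddOrders (Fintype.card F) (3 ^ (m + 1)))) := by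
  classical
  haveI := hH
  haveI : Fact (Nat.Prime 2) := ⟨Nat.prime_two⟩
  haveI : Fact (Nat.Prime 3) := ⟨Nat.prime_three⟩
  have hnorm : ∀ p : ℕ, ∀ g ∈ H, g ∈ Subgroup.normalizer (((pCore p ↥H).map H.subtype : Subgroup ↥S.Gr) : Set ↥S.Gr) := by
    intro p g hg
    haveI := pCore_characteristic p ↥H
    exact Subgroup.le_normalizer_map H.subtype
      ⟨⟨g, hg⟩, by rw [Subgroup.normalizer_eq_top]; exact Subgroup.mem_top _, rfl⟩
  by_cases hodd : ∃ p : ℕ, p.Prime ∧ p ≠ 2 ∧ pCore p ↥H ≠ ⊥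
  · obtain ⟨p, hp, hp2, hne⟩ := hodd
    haveI : Fact p.Prime := ⟨hp⟩
    set M : Subgroup ↥S.Gr := (pCore p ↥H).map H.subtype
    have hMne : M ≠ ⊥ := fun h => hne ((Subgroup.map_eq_bot_iff_of_injective _ H.subtype_injective).mp h)
    have hMp : IsPGroup p ↥M := (isPGroup_pCore p ↥H).map _
    by_cases hp3 : p = 3
    · subst hp3
      obtain ⟨P, hP⟩ := hMp.exists_le_sylow
      exact ⟨P, fun g hg => S.norm_three_of_three hK hMne hP (hnorm 3 g hg), Or.inr (Or.inl ⟨P, rfl⟩)⟩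
    have h5 : 5 ≤ p := by
      have := hp.two_le
      by_contra hc
      interval_cases p
      · exact hp2 rfl
      · exact hp3 rfl
      · norm_num at hp
    haveI := S.sylow_cyclic hm hK hth h5 hMp
    obtain ⟨z, hz⟩ := exists_prime_orderOf_dvd_card' (G := ↥M) p (by
      obtain ⟨n, hn⟩ := hMp.exists_card_eq
      rw [hn]
      exact dvd_pow_self p fun h0 => hMne (Subgroup.card_eq_one.mp (by rw [hn, h0, pow_zero])))
    rw [← Subgroup.orderOf_coe] at hz
    obtain ⟨k, hk, -, A, hA, hAk, -, -, -, hN⟩ := S.exists_core hm hK hth hp h5 hz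
    refine ⟨A, fun g hg => ?_, Or.inr (Or.inr ⟨hA, hAk.symm ▸ hk⟩)⟩
    rw [← hN, Subgroup.mem_normalizer_iff_map_conj_eq]
    have hle : Subgroup.zpowers (z : ↥S.Gr) ≤ M := Subgroup.zpowers_le.mpr z.2
    refine sub_cyclic_eq (Z := M) ?_ hle (Subgroup.card_map_of_injective (MulAut.conj g).injective).symm
    exact (Subgroup.map_mono hle).trans (Subgroup.mem_normalizer_iff_map_conj_eq.mp (hnorm p g hg)).le
  push Not at hodd
  have hfit : fittingSubgroup ↥H = pCore 2 ↥H := by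
    refine le_antisymm ?_ (pCore_le_fittingSubgroup 2)
    rw [fittingSubgroup_eq_iSup_pCore]
    refine iSup_le fun p => ?_
    by_cases hp : (p : ℕ) = 2
    · rw [hp]
    · rw [hodd p p.2 hp]; exact bot_le
  set V : Subgroup ↥S.Gr := (pCore 2 ↥H).map H.subtype with hVdef
  have hVH : V ≤ H := Subgroup.map_subtype_le _
  obtain ⟨Q₀, hQ₀⟩ := ((isPGroup_pCore 2 ↥H).map H.subtype).exists_le_sylow
  have habel : ∀ (Q : Sylow 2 ↥S.Gr), ∀ a ∈ Q, ∀ b ∈ Q, a * b = b * a := fun Q a ha b hb => by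
    have hsq := (S.sylow_two hK Q).2
    have h1 : ∀ x ∈ Q, x⁻¹ = x := fun x hx => inv_eq_of_mul_eq_one_left (hsq x hx)
    calc a * b = (a * b)⁻¹ := (h1 _ (mul_mem ha hb)).symm
      _ = b * a := by rw [mul_inv_rev, h1 a ha, h1 b hb]
  have hself : ∀ x ∈ H, x ∈ Subgroup.centralizer (V : Set ↥S.Gr) → x ∈ V := by
    intro x hx hc
    refine ⟨⟨x, hx⟩, hfit ▸ centralizer_fittingSubgroup_le ?_, rfl⟩
    refine Subgroup.mem_centralizer_iff.mpr fun y hy => Subtype.ext ?_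
    rw [hfit] at hy
    exact Subgroup.mem_centralizer_iff.mp hc _ ⟨y, hy, rfl⟩
  have hVab : ∀ a ∈ V, a ∈ Subgroup.centralizer (V : Set ↥S.Gr) := fun a ha =>
    Subgroup.mem_centralizer_iff.mpr fun b hb => (habel Q₀ b (hQ₀ hb) a (hQ₀ ha))
  by_cases h8 : Nat.card ↥V = 8
  · have : V = (Q₀ : Subgroup ↥S.Gr) :=
      Subgroup.eq_of_le_of_card_ge hQ₀ (by rw [h8, (S.sylow_two hK Q₀).1])
    exact ⟨Q₀, fun g hg => this ▸ hnorm 2 g hg, Or.inl ⟨Q₀, rfl⟩⟩
  have hVd : Nat.card ↥V ∣ 8 := (S.sylow_two hK Q₀).1 ▸ Subgroup.card_dvd_of_le hQ₀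
  by_cases h4 : Nat.card ↥V = 4
  swap
  · have hV2 : Nat.card ↥V = 1 ∨ Nat.card ↥V = 2 := by
      have := Nat.le_of_dvd (by norm_num) hVd
      interval_cases h : Nat.card ↥V <;> omega
    have hHV : H ≤ V := by
      intro g hg
      refine hself g hg (Subgroup.mem_centralizer_iff.mpr fun v hv => ?_)
      rcases hV2 with h | h
      · rw [Subgroup.card_eq_one.mp h] at hv
        rw [Subgroup.mem_bot.mp hv, one_mul, mul_one]
      · rcases eq_or_ne v 1 with rfl | hv1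
        · rw [one_mul, mul_one]
        have h1 : g * v * g⁻¹ ∈ V := (Subgroup.mem_normalizer_iff.mp (hnorm 2 g hg) v).mp hv
        have h2 : (⟨g * v * g⁻¹, h1⟩ : ↥V) = ⟨v, hv⟩ := by
          obtain ⟨u, v', -, huniv⟩ := Nat.card_eq_two_iff.mp h
          have : ∀ w : ↥V, w ≠ 1 → w = ⟨v, hv⟩ := by
            intro w hw
            have e1 : ∀ w : ↥V, w = u ∨ w = v' := fun w => by
              have := huniv.ge (Set.mem_univ w); simpa using this
            rcases e1 w with rfl | rfl <;> rcases e1 (1 : ↥V) with h' | h' <;>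
              rcases e1 ⟨v, hv⟩ with h'' | h'' <;>
              first
                | exact h''.symm
                | exact absurd h'.symm hw
                | exact absurd (h''.trans h'.symm) (fun e => hv1 (congrArg Subtype.val e))
          exact this _ fun e => hv1 (conj_eq_one_iff.mp (congrArg Subtype.val e))
        exact (mul_inv_eq_iff_eq_mul.mp (congrArg Subtype.val h2 : g * v * g⁻¹ = v)).symm
    exact ⟨Q₀, (hHV.trans hQ₀).trans Subgroup.le_normalizer, Or.inl ⟨Q₀, rfl⟩⟩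
  -- the four group
  obtain ⟨T⟩ : Nonempty (Sylow 3 ↥H) := inferInstance
  obtain ⟨T2⟩ : Nonempty (Sylow 2 ↥H) := inferInstance
  have hVn : V ≤ H := hVH
  have hcardH : Nat.card ↥H ∣ 12 := by
    let f : ↥H → ↥V → ↥V := fun g v => ⟨g * v * (g : ↥S.Gr)⁻¹,
      (Subgroup.mem_normalizer_iff.mp (hnorm 2 g g.2) v).mp v.2⟩
    have hf1 : ∀ v, f 1 v = v := fun v => Subtype.ext (by simp [f])
    have hfm : ∀ g g' v, f (g * g') v = f g (f g' v) := fun g g' v => Subtype.ext (by simp [f, mul_assoc])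
    have hne : ∀ g (v : ↥V), v ≠ 1 → f g v ≠ 1 := fun g v hv e => hv (Subtype.ext
      (conj_eq_one_iff.mp (congrArg Subtype.val e : (g : ↥S.Gr) * v * (g : ↥S.Gr)⁻¹ = 1)))
    let W := {v : ↥V // v ≠ 1}
    letI : MulAction ↥H W :=
      { smul := fun g v => ⟨f g v.1, hne g v.1 v.2⟩
        one_smul := fun v => Subtype.ext (hf1 v.1)
        mul_smul := fun g g' v => Subtype.ext (hfm g g' v.1) }
    have hW : Nat.card W = 3 := by
      haveI := Fintype.ofFinite ↥V
      rw [Nat.card_eq_fintype_card, Fintype.card_subtype_compl, Fintype.card_subtype_eq,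
        ← Nat.card_eq_fintype_card, h4]
    set ρ := MulAction.toPermHom ↥H W
    have hker : ρ.ker ≤ (V.subgroupOf H) := by
      intro g hg
      refine Subgroup.mem_subgroupOf.mpr (hself g g.2 (Subgroup.mem_centralizer_iff.mpr fun v hv => ?_))
      by_cases hv1 : (⟨v, hv⟩ : ↥V) = 1
      · rw [show v = 1 from congrArg Subtype.val hv1, one_mul, mul_one]
      have e := congrArg (fun π : Equiv.Perm W => (π ⟨_, hv1⟩).1.1) (MonoidHom.mem_ker.mp hg)
      exact (mul_inv_eq_iff_eq_mul.mp (e : (g : ↥S.Gr) * v * (g : ↥S.Gr)⁻¹ = v)).symm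
    have hk : Nat.card ↥ρ.ker ∣ 4 := (Subgroup.card_dvd_of_le hker).trans
      (by rw [Nat.card_congr (Subgroup.subgroupOfEquivOfLe hVH).toEquiv, h4])
    have hr : Nat.card ↥ρ.range ∣ 6 := (Subgroup.card_subgroup_dvd_card _).trans
      (by rw [Nat.card_perm, hW]; rfl)
    have h24 : Nat.card ↥H ∣ 24 := by
      rw [← Subgroup.card_mul_index ρ.ker, Subgroup.index_ker]
      exact (mul_dvd_mul hk hr)
    -- a Sylow two-subgroup centralises the four group
    have hT2 : Nat.card ↥(T2 : Subgroup ↥H) ∣ 4 := by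
      obtain ⟨Q, hQ⟩ := (T2.isPGroup'.map H.subtype).exists_le_sylow
      have hVT : V.subgroupOf H ≤ (T2 : Subgroup ↥H) := by
        have hVe : V.subgroupOf H = pCore 2 ↥H := by
          rw [hVdef]
          exact Subgroup.comap_map_eq_self_of_injective H.subtype_injective _
        rw [hVe]
        exact pCore_le_sylow T2
      have : ((T2 : Subgroup ↥H).map H.subtype) ≤ V := by
        rintro _ ⟨x, hx, rfl⟩
        refine hself x x.2 (Subgroup.mem_centralizer_iff.mpr fun v hv => ?_)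
        exact habel Q v (hQ ⟨⟨v, hVH hv⟩, hVT (Subgroup.mem_subgroupOf.mpr hv), rfl⟩) x (hQ ⟨x, hx, rfl⟩)
      have := Subgroup.card_dvd_of_le this
      rwa [Subgroup.card_map_of_injective H.subtype_injective, h4] at this
    rw [T2.card_eq_multiplicity] at hT2
    have hle : (Nat.card ↥H).factorization 2 ≤ 2 := (Nat.pow_dvd_pow_iff_le_right (by norm_num)).mp hT2
    have hpos : 0 < Nat.card ↥H := Nat.card_pos
    have := Nat.le_of_dvd (by norm_num) h24
    by_contra hc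
    have h8' : 2 ^ 3 ∣ Nat.card ↥H := by
      interval_cases h : Nat.card ↥H <;> omega
    have := (Nat.Prime.pow_dvd_iff_le_factorization Nat.prime_two hpos.ne').mp h8'
    omega
  -- fixed Sylow subgroup
  let 𝒬 := {Q : Sylow 2 ↥S.Gr // V ≤ (Q : Subgroup ↥S.Gr)}
  set C := Subgroup.centralizer (V : Set ↥S.Gr)
  have h𝒬C : ∀ Q : 𝒬, ∀ x ∈ (Q.1 : Subgroup ↥S.Gr), x ∈ C := fun Q x hx =>
    Subgroup.mem_centralizer_iff.mpr fun v hv => habel Q.1 v (Q.2 hv) x hx
  letI : MulAction ↥C 𝒬 :=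
    { smul := fun c Q => ⟨(c : ↥S.Gr) • Q.1, fun v hv => by
        rw [Sylow.coe_subgroup_smul, Subgroup.mem_pointwise_smul_iff_inv_smul_mem]
        have : (c : ↥S.Gr)⁻¹ * v * c = v := by
          rw [mul_assoc, Subgroup.mem_centralizer_iff.mp c.2 v hv, inv_mul_cancel_left]
        simpa [this] using Q.2 hv⟩
      one_smul := fun Q => Subtype.ext (one_smul ↥S.Gr Q.1)
      mul_smul := fun a b Q => Subtype.ext (mul_smul (a : ↥S.Gr) b Q.1) }
  haveI : MulAction.IsPretransitive ↥C 𝒬 := by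
    refine ⟨fun Q Q' => ?_⟩
    obtain ⟨c, hc⟩ := MulAction.exists_smul_eq ↥C (Q.1.subtype (h𝒬C Q)) (Q'.1.subtype (h𝒬C Q'))
    refine ⟨c, Subtype.ext (Sylow.ext (Subgroup.ext fun x => ?_))⟩
    show x ∈ (((c : ↥S.Gr) • Q.1 : Sylow 2 ↥S.Gr) : Subgroup ↥S.Gr) ↔ _
    rw [Sylow.coe_subgroup_smul, Subgroup.mem_pointwise_smul_iff_inv_smul_mem]
    constructor
    · intro hx
      simp only [← map_inv, MulAut.smul_def, MulAut.conj_apply, inv_inv] at hx
      have hxC : x ∈ C := by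
        have := mul_mem (mul_mem c.2 (h𝒬C Q _ hx)) (inv_mem c.2)
        simpa [mul_assoc] using this
      have h2 : (⟨x, hxC⟩ : ↥C) ∈ ((c • Q.1.subtype (h𝒬C Q) : Sylow 2 ↥C) : Subgroup ↥C) := by
        rw [Sylow.coe_subgroup_smul, Subgroup.mem_pointwise_smul_iff_inv_smul_mem]
        simpa [Sylow.coe_subtype, Subgroup.mem_subgroupOf] using hx
      rw [hc] at h2
      simpa [Sylow.coe_subtype, Subgroup.mem_subgroupOf] using h2
    · intro hx
      have h2 : (⟨x, h𝒬C Q' x hx⟩ : ↥C) ∈ ((Q'.1.subtype (h𝒬C Q') : Sylow 2 ↥C) : Subgroup ↥C) := by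
        simpa [Sylow.coe_subtype, Subgroup.mem_subgroupOf] using hx
      rw [← hc, Sylow.coe_subgroup_smul, Subgroup.mem_pointwise_smul_iff_inv_smul_mem] at h2
      simpa [Sylow.coe_subtype, Subgroup.mem_subgroupOf] using h2
  let Q₁ : 𝒬 := ⟨Q₀, hQ₀⟩
  have hcardQ : Nat.card 𝒬 ∣ Nat.card ↥C := by
    rw [← MulAction.index_stabilizer_of_transitive ↥C Q₁]
    exact Subgroup.index_dvd_card _
  have hmod : ¬ 3 ∣ Nat.card 𝒬 := fun h => S.four_cent_coprime hm hK h4 (h.trans hcardQ)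
  letI : MulAction ↥(T : Subgroup ↥H) 𝒬 :=
    { smul := fun g Q => ⟨((g : ↥H) : ↥S.Gr) • Q.1, fun v hv => by
        rw [Sylow.coe_subgroup_smul, Subgroup.mem_pointwise_smul_iff_inv_smul_mem]
        have := (Subgroup.mem_normalizer_iff''.mp (hnorm 2 _ (g : ↥H).2) v).mp hv
        simpa [mul_assoc] using Q.2 this⟩
      one_smul := fun Q => Subtype.ext (one_smul ↥S.Gr Q.1)
      mul_smul := fun a b Q => Subtype.ext (mul_smul ((a : ↥H) : ↥S.Gr) ((b : ↥H) : ↥S.Gr) Q.1) }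
  obtain ⟨Q, hQ⟩ := T.isPGroup'.nonempty_fixed_point_of_prime_not_dvd_card 𝒬 hmod
  refine ⟨(Q.1 : Subgroup ↥S.Gr), ?_, Or.inl ⟨Q.1, rfl⟩⟩
  have hTN : ((T : Subgroup ↥H).map H.subtype) ≤ Subgroup.normalizer ((Q.1 : Subgroup ↥S.Gr) : Set ↥S.Gr) := by
    rintro _ ⟨g, hg, rfl⟩
    exact Sylow.smul_eq_iff_mem_normalizer.mp (congrArg Subtype.val (hQ ⟨g, hg⟩))
  have hVN : V ≤ Subgroup.normalizer ((Q.1 : Subgroup ↥S.Gr) : Set ↥S.Gr) := Q.2.trans Subgroup.le_normalizer
  have hsup : H ≤ V ⊔ (T : Subgroup ↥H).map H.subtype := by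
    set J := V ⊔ (T : Subgroup ↥H).map H.subtype
    have hJ : J ≤ H := sup_le hVH (Subgroup.map_subtype_le _)
    have d1 : 4 ∣ Nat.card ↥J := h4 ▸ Subgroup.card_dvd_of_le le_sup_left
    have d2 : Nat.card ↥(T : Subgroup ↥H) ∣ Nat.card ↥J := by
      rw [← Subgroup.card_map_of_injective H.subtype_injective]
      exact Subgroup.card_dvd_of_le le_sup_right
    refine (Subgroup.eq_of_le_of_card_ge hJ ?_).ge
    have h4H : 4 ∣ Nat.card ↥H := h4 ▸ Subgroup.card_dvd_of_le hVH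
    have hpos : 0 < Nat.card ↥J := Nat.card_pos
    obtain ⟨c, hc⟩ := h4H
    have hc3 : c ∣ 3 := Nat.dvd_of_mul_dvd_mul_left (k := 4) (by norm_num) (hc ▸ hcardH)
    rcases (Nat.dvd_prime Nat.prime_three).mp hc3 with rfl | rfl
    · have := Nat.le_of_dvd hpos d1
      omega
    · have d3 : 3 ∣ Nat.card ↥J := (T.dvd_card_of_dvd_card (hc ▸ dvd_mul_left 3 4)).trans d2
      have := Nat.le_of_dvd hpos (Nat.Coprime.mul_dvd_of_dvd_of_dvd (by norm_num : Nat.Coprime 4 3) d1 d3)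
      omega
  exact hsup.trans (sup_le hVN hTN)

end Tw

end Cfsg.Agent.SmallRee
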