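import Cfsg.Agent.Lib.SmallRee.Stab
import Cfsg.Agent.Lib.SmallRee.Centralizer
import Cfsg.Agent.Lib.SmallRee.SolvSub
import Cfsg.Prelude.Def_KGroupFacts
import Mathlib.FieldTheory.Finite.GaloisField
import Mathlib.FieldTheory.Galois.Basic

/-!
The automorphism group of the small Ree groups: inner and field automorphisms.
-/

set_option autoImplicit false
set_option maxRecDepth 20000

namespace Cfsg.Agent.SmallRee

open Cfsg.Lie Cfsg.Agent.Chev
open scoped Pointwise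

variable {F : Type*} [Field F]

section FieldMap

variable (φ : F →+* F)

/-- The field map on the Chevalley group. -/
noncomputable def gmap : ↥(chevG2.group F) →* ↥(chevG2.group F) := G2.okx.toOK.groupMap φ

theorem gmap_X (r : ℕ) (t : F) : gmap φ (X r t) = X r (φ t) := Subtype.ext (G2.okx.toOK.mapG_xG φ r t)

theorem gmap_N {r : ℕ} (hr : r < chevG2.nroots) (t : F) : gmap φ (N r t) = N r (φ t) := by
  rw [N_eq hr rfl, N_eq hr rfl, map_mul, map_mul, gmap_X, gmap_X, map_neg, map_inv₀]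

theorem gmap_H {r : ℕ} (hr : r < chevG2.nroots) (t : F) : gmap φ (H r t) = H r (φ t) := by
  rw [H_eq, H_eq, map_mul, gmap_N φ hr, gmap_N φ hr, map_neg, map_one]

theorem gmap_tor {lam mu : F} (hl : lam ≠ 0) (hm : mu ≠ 0) : gmap φ (tor lam mu) = tor (φ lam) (φ mu) := by
  rw [tor_eq_H hl hm, map_mul, gmap_H φ (by decide +kernel), gmap_H φ (by decide +kernel),
    ← tor_eq_H ((map_ne_zero φ).mpr hl) ((map_ne_zero φ).mpr hm)]

theorem gmap_Y (b : Bool) (r : ℕ) (c : F) : gmap φ (Y b r c) = Y b r (φ c) := by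
  cases b <;> simp [Y, gmap_X]

theorem gmap_Wd (b : Bool) (p s c₈ c₉ c₁₀ c₁₁ : F) :
    gmap φ (Wd b p s c₈ c₉ c₁₀ c₁₁) = Wd b (φ p) (φ s) (φ c₈) (φ c₉) (φ c₁₀) (φ c₁₁) := by
  simp only [Wd, Tl, map_mul, gmap_Y]

end FieldMap

namespace Tw

variable (S : Tw F) [CharP F 3] [Fintype F] {m : ℕ}

omit [CharP F 3] [Fintype F] in
theorem gmap_sg {φ : F →+* F} (hφ : ∀ x, φ (S.th x) = S.th (φ x)) (h : ↥(chevG2.group F)) :
    S.sg (gmap φ h) = gmap φ (S.sg h) := by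
  have e : (S.sg.comp (gmap φ)).eqLocus ((gmap φ).comp S.sg) = ⊤ := group_top _ fun r hr t => by
    show S.sg (gmap φ (X r t)) = gmap φ (S.sg (X r t))
    rw [gmap_X, S.sg_X r hr, S.sg_X r hr, gmap_X, map_pow, hφ]
  exact (e.symm ▸ Subgroup.mem_top h : h ∈ (S.sg.comp (gmap φ)).eqLocus ((gmap φ).comp S.sg))

variable (hth : ∀ x : F, S.th x = x ^ 3 ^ m)

include hth

omit [CharP F 3] [Fintype F] in
theorem field_comm (φ : F →+* F) (x : F) : φ (S.th x) = S.th (φ x) := by rw [hth, hth, map_pow]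

omit [CharP F 3] [Fintype F] in
theorem gmap_mem (φ : F →+* F) (g : ↥S.Gr) :
    ((gmap φ ⟨(g : GL chevG2.Idx F), (S.mem_Gr.mp g.2).choose_spec.2 ▸ (S.mem_Gr.mp g.2).choose.2⟩ :
      ↥(chevG2.group F)) : GL chevG2.Idx F) ∈ S.Gr := by
  obtain ⟨h, hh, e⟩ := S.mem_Gr.mp g.2
  refine S.mem_Gr.mpr ⟨gmap φ h, by rw [S.gmap_sg (S.field_comm hth φ), hh], ?_⟩
  congr 2
  exact Subtype.ext e

/-- The field map on the Ree group. -/
noncomputable def rmap (φ : F →+* F) (g : ↥S.Gr) : ↥S.Gr := ⟨_, S.gmap_mem hth φ g⟩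

omit [CharP F 3] [Fintype F] in
theorem rmap_coe (φ : F →+* F) {g : ↥S.Gr} {h : ↥(chevG2.group F)} (e : (g : GL chevG2.Idx F) = (h : GL _ F)) :
    (S.rmap hth φ g : GL chevG2.Idx F) = ((gmap φ h : ↥(chevG2.group F)) : GL _ F) := by
  show ((gmap φ _ : ↥(chevG2.group F)) : GL chevG2.Idx F) = _
  congr 2
  exact Subtype.ext e

omit [CharP F 3] [Fintype F] in
theorem rmap_entry (φ : F →+* F) (g : ↥S.Gr) (i j : chevG2.Idx) :
    ((S.rmap hth φ g : GL chevG2.Idx F) : Matrix chevG2.Idx chevG2.Idx F) i j =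
      φ ((g : GL chevG2.Idx F).val i j) := mapG_apply φ _ _ i j

/-- The field automorphisms. -/
noncomputable def fieldAut : (F ≃+* F) →* MulAut ↥S.Gr where
  toFun φ :=
    { toFun := S.rmap hth φ
      invFun := S.rmap hth φ.symm
      left_inv := fun g => Subtype.ext (Units.ext (Matrix.ext fun i j => by
        rw [S.rmap_entry hth, S.rmap_entry hth]; exact φ.symm_apply_apply _))
      right_inv := fun g => Subtype.ext (Units.ext (Matrix.ext fun i j => by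
        rw [S.rmap_entry hth, S.rmap_entry hth]; exact φ.apply_symm_apply _))
      map_mul' := fun g h => Subtype.ext (by
        show mapG (φ : F →+* F) chevG2 ((g : GL chevG2.Idx F) * h) =
          mapG (φ : F →+* F) chevG2 g * mapG (φ : F →+* F) chevG2 h
        exact map_mul _ _ _) }
  map_one' := MulEquiv.ext fun g => Subtype.ext (Units.ext (Matrix.ext fun i j => by
    show ((S.rmap hth _ g : GL chevG2.Idx F) : Matrix chevG2.Idx chevG2.Idx F) i j = _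
    rw [S.rmap_entry hth]; rfl))
  map_mul' φ ψ := MulEquiv.ext fun g => Subtype.ext (Units.ext (Matrix.ext fun i j => by
    show ((S.rmap hth _ g : GL chevG2.Idx F) : Matrix chevG2.Idx chevG2.Idx F) i j =
      ((S.rmap hth _ (S.rmap hth _ g) : GL chevG2.Idx F) : Matrix chevG2.Idx chevG2.Idx F) i j
    rw [S.rmap_entry hth, S.rmap_entry hth, S.rmap_entry hth]; rfl))

theorem fieldAut_R (φ : F ≃+* F) (t u w : F) : S.fieldAut hth φ (S.R t u w) = S.R (φ t) (φ u) (φ w) := by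
  refine Subtype.ext ?_
  show (S.rmap hth (φ : F →+* F) (S.R t u w) : GL chevG2.Idx F) = _
  rw [S.rmap_coe hth _ (S.coe_R t u w), coe_R, Rw, Rw, gmap_Wd]
  simp only [map_add, map_mul, map_pow, S.field_comm hth, RingEquiv.coe_toRingHom]

theorem fieldAut_D (φ : F ≃+* F) (v : Fˣ) : S.fieldAut hth φ (S.D v) = S.D (Units.map (φ : F →* F) v) := by
  refine Subtype.ext ?_
  show (S.rmap hth (φ : F →+* F) (S.D v) : GL chevG2.Idx F) = _
  rw [S.rmap_coe hth _ (S.coe_D v), coe_D, Ht_def, Ht_def, gmap_tor _ (S.th_ne v) v.ne_zero, S.field_comm hth]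
  rfl

theorem fieldAut_w₀ (φ : F ≃+* F) : S.fieldAut hth φ S.w₀ = S.w₀ := by
  refine Subtype.ext ?_
  show (S.rmap hth (φ : F →+* F) S.w₀ : GL chevG2.Idx F) = _
  rw [S.rmap_coe hth _ S.coe_w₀, coe_w₀, n₀, nn_word]
  simp only [Rw, map_mul, gmap_Wd, map_add, map_pow, map_zero, map_one, inv_one, S.field_comm hth]

omit hth

theorem mem_B_of_normalize {g x : ↥S.Gr} (hx : x ∈ S.UU) (hx1 : x ≠ 1) (h : g⁻¹ * x * g ∈ S.UU) : g ∈ S.BB :=
  by_contra fun hc => hx1 (S.inter_conj hc hx h)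

theorem comm_D {x : ↥S.Gr} (hx : x ∈ S.UU) {v : Fˣ} (h1 : v ≠ 1) (h2 : v ≠ -1)
    (h : S.D v * x * (S.D v)⁻¹ = x) : x = 1 := by
  obtain ⟨t, u, w, rfl⟩ := S.mem_U.mp hx
  rw [S.D_conj] at h
  obtain ⟨e1, e2, e3⟩ := S.R_inj h
  have t0 : t = 0 := by
    by_contra hne
    exact h1 (S.alpha_eq_one ((mul_eq_right₀ hne).mp e1))
  have u0 : u = 0 := by
    by_contra hne
    exact S.beta_ne_one h1 h2 ((mul_eq_right₀ hne).mp e2)
  have w0 : w = 0 := by
    by_contra hne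
    exact h1 (Units.ext ((mul_eq_right₀ hne).mp e3))
  rw [t0, u0, w0, S.R_zero]

omit [CharP F 3] [Fintype F] in
theorem beta_mul (v w : Fˣ) : S.beta (v * w) = S.beta v * S.beta w := by
  simp only [beta, Units.val_mul, map_mul, mul_pow, div_mul_div_comm]

theorem alpha_surj (t : Fˣ) : ∃ v : Fˣ, S.alpha v = t := by
  let f : Fˣ →* Fˣ := MonoidHom.mk'
    (fun v => Units.mk0 (S.alpha v) (div_ne_zero (pow_ne_zero _ v.ne_zero) (pow_ne_zero _ (S.th_ne v))))
    fun v w => Units.ext (S.alpha_mul v w)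
  have hf : Function.Injective f := (injective_iff_map_eq_one f).mpr fun v hv =>
    S.alpha_eq_one (congrArg Units.val hv)
  obtain ⟨v, hv⟩ := Finite.injective_iff_surjective.mp hf t
  exact ⟨v, congrArg Units.val hv⟩

set_option maxHeartbeats 1000000 in
/-- An automorphism fixing the torus and the centre of the unipotent subgroup is trivial. -/
theorem eq_id_of_fixed (hK : Fintype.card F = 3 ^ (2 * m + 1)) (hm : 1 ≤ m) (α : MulAut ↥S.Gr)
    (hU : ∀ x ∈ S.UU, α x ∈ S.UU) (hD : ∀ v, α (S.D v) = S.D v) (hZ : ∀ w, α (S.R 0 0 w) = S.R 0 0 w) :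
    α = 1 := by
  classical
  have h3 : (3 : F) = 0 := three_zero
  obtain ⟨l, hl1, hl2⟩ := exists_good_unit hK hm
  have hDc : ∀ t u w : F, S.D (-1) * S.R t u w * (S.D (-1))⁻¹ = S.R (-t) u (-w) := fun t u w => by
    rw [S.D_conj]
    congr 1
    · rw [alpha, Units.val_neg, Units.val_one, map_neg, map_one, Odd.neg_one_pow (show Odd 3 by decide)]; ring
    · rw [beta, Units.val_neg, Units.val_one, map_neg, map_one, Odd.neg_one_pow (show Odd 3 by decide),
        div_self (neg_ne_zero.mpr one_ne_zero), one_mul]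
    · rw [Units.val_neg, Units.val_one, neg_one_mul]
  have hzero : ∀ {x : F}, -x = x → x = 0 := fun {x} h => by linear_combination x * h3 + h
  have hex : ∀ t u w : F, ∃ a b c, α (S.R t u w) = S.R a b c := fun t u w => S.mem_U.mp (hU _ (S.R_mem_U t u w))
  -- the first coordinate
  choose σ μ ν hσ using fun t => hex t 0 0
  have hneg : ∀ t, α (S.R (-t) 0 0) = S.R (-σ t) (μ t) (-ν t) := fun t => by
    have e : S.R (-t) 0 0 = S.D (-1) * S.R t 0 0 * (S.D (-1))⁻¹ := by rw [hDc, neg_zero]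
    rw [e, map_mul, map_mul, map_inv, hσ, hD, hDc]
  -- the second coordinate
  have hρ : ∀ u, ∃ b, α (S.R 0 u 0) = S.R 0 b 0 := fun u => by
    obtain ⟨a, b, c, e⟩ := hex 0 u 0
    have e' : S.R 0 u 0 = S.D (-1) * S.R 0 u 0 * (S.D (-1))⁻¹ := by rw [hDc, neg_zero]
    have e2 := congrArg α e'
    rw [map_mul, map_mul, map_inv, hD, e, hDc] at e2
    obtain ⟨r1, -, r3⟩ := S.R_inj e2
    exact ⟨b, by rw [e, hzero r1.symm, hzero r3.symm]⟩
  choose ρ hρ using hρ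
  have hσeq : ∀ v : Fˣ, σ (S.alpha v) = S.alpha v * σ 1 ∧ μ (S.alpha v) = S.beta v * μ 1 ∧
      ν (S.alpha v) = (v : F) * ν 1 := fun v => by
    have e : S.R (S.alpha v) 0 0 = S.D v * S.R 1 0 0 * (S.D v)⁻¹ := by
      rw [S.D_conj, mul_one, mul_zero, mul_zero]
    have e2 := congrArg α e
    rw [map_mul, map_mul, map_inv, hσ, hσ, hD, S.D_conj] at e2
    exact S.R_inj e2
  have hσ1 : σ 1 = 1 := by
    have e := congrArg α (S.R_cube 1 0 0)
    rw [map_pow, hσ, hZ, S.R_cube] at e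
    have h := (S.R_inj e).2.2
    rw [map_one, one_pow, one_pow, one_mul, neg_inj] at h
    set c := σ 1
    have hc : c ≠ 0 := fun h0 => by rw [h0, map_zero] at h; simp at h
    have h2 : S.th c * c ^ 2 ≠ 0 := mul_ne_zero ((map_ne_zero S.th).mpr hc) (pow_ne_zero _ hc)
    have e1 : c * S.th c ^ 2 = 1 := by
      have := congrArg S.th h
      rwa [map_mul, map_pow, map_pow, map_one, S.th_cube] at this
    have e2 : c ^ 3 * S.th c ^ 6 = 1 := by
      calc c ^ 3 * S.th c ^ 6 = (c * S.th c ^ 2) ^ 3 := by ring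
        _ = 1 := by rw [e1, one_pow]
    have e4 : c ^ 4 * S.th c ^ 6 = 1 := by
      calc c ^ 4 * S.th c ^ 6 = (S.th c ^ 3 * c ^ 2) ^ 2 := by ring
        _ = 1 := by rw [h, one_pow]
    have : c * (c ^ 3 * S.th c ^ 6) = 1 := by rw [← e4]; ring
    rwa [e2, mul_one] at this
  have hσid : ∀ t, σ t = t := fun t => by
    by_cases ht : t = 0
    · subst ht
      have e := hσ 0
      rw [S.R_zero, map_one, ← S.R_zero] at e
      exact (S.R_inj e).1.symm
    · obtain ⟨v, hv⟩ := S.alpha_surj (Units.mk0 t ht)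
      rw [Units.val_mk0] at hv
      rw [← hv, (hσeq v).1, hσ1, mul_one]
  have hρid : ∀ u, ρ u = u := fun u => by
    have e : S.R 0 u 0 * S.R 1 0 0 = S.R 1 0 0 * S.R 0 u 0 * S.R 0 0 (-u) := by
      rw [S.R_mul, S.R_mul, S.R_mul]
      congr 1 <;> simp <;> linear_combination 0
    have e2 := congrArg α e
    rw [map_mul, map_mul, map_mul, hσ, hρ, hZ, S.R_mul, S.R_mul, S.R_mul] at e2
    obtain ⟨-, -, r3⟩ := S.R_inj e2
    simp only [map_zero, hσid, map_one] at r3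
    linear_combination -r3
  have hadd : ∀ t t', μ (t + t') = μ t + μ t' ∧
      ν (t + t') = ν t + ν t' - t' * μ t := fun t t' => by
    have e : S.R t 0 0 * S.R t' 0 0 = S.R (t + t') 0 0 * S.R 0 (-(S.th t' ^ 3 * t)) 0 *
        S.R 0 0 (-(S.th t' ^ 3 * t ^ 2) + t' * t * S.th t' ^ 3) := by
      rw [S.R_mul, S.R_mul, S.R_mul]
      congr 1 <;> simp <;> ring
    have e2 := congrArg α e
    rw [map_mul, map_mul, map_mul, hσ, hσ, hσ, hρ, hρid, hZ, hσid, hσid, hσid, S.R_mul, S.R_mul, S.R_mul] at e2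
    obtain ⟨-, r2, r3⟩ := S.R_inj e2
    simp only [map_zero] at r2 r3
    constructor
    · linear_combination -r2
    · linear_combination -r3
  have hμ : ∀ t, μ t = 0 := fun t => by
    have e1 := hσ (-t)
    rw [hneg] at e1
    have h1 := (S.R_inj e1).2.1
    have h0 := (hadd 0 0).1
    rw [add_zero] at h0
    have h2 := (hadd t (-t)).1
    rw [add_neg_cancel, left_eq_add.mp h0, ← h1] at h2
    exact hzero (by linear_combination h2)
  have hνadd : ∀ t t', ν (t + t') = ν t + ν t' := fun t t' => by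
    rw [(hadd t t').2, hμ, mul_zero, sub_zero]
  have hν : ∀ t, ν t = 0 := by
    have hν0 : ν 0 = 0 := by have := hνadd 0 0; rw [add_zero] at this; exact left_eq_add.mp this
    suffices h1 : ν 1 = 0 by
      intro t
      by_cases ht : t = 0
      · rw [ht, hν0]
      · obtain ⟨v, hv⟩ := S.alpha_surj (Units.mk0 t ht)
        rw [Units.val_mk0] at hv
        rw [← hv, (hσeq v).2.2, h1, mul_zero]
    by_contra hne
    let a : F → F := fun x => x ^ 2 / S.th x ^ 3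
    have key : ∀ x : F, ν (a x) = x * ν 1 := fun x => by
      by_cases hx : x = 0
      · subst hx; simp [a, hν0]
      · exact (hσeq (Units.mk0 x hx)).2.2
    have hinj : ∀ x y, ν x = ν y → x = y := fun x y h => by
      have hsur : ∀ z : F, ∃ p : F, a p = z := fun z => by
        by_cases hz : z = 0
        · exact ⟨0, by simp [a, hz]⟩
        · obtain ⟨v, hv⟩ := S.alpha_surj (Units.mk0 z hz)
          exact ⟨v, hv⟩
      obtain ⟨p, rfl⟩ := hsur x
      obtain ⟨p', rfl⟩ := hsur y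
      rw [key, key] at h
      rw [mul_right_cancel₀ hne h]
    have ha : a ((l : F) + 1) = a l + a 1 := hinj _ _ (by rw [hνadd, key, key, key]; ring)
    have hl0 : (l : F) + 1 ≠ 0 := fun h => hl2 (Units.ext (by
      rw [Units.val_neg, Units.val_one]; exact eq_neg_of_add_eq_zero_left h))
    have d1 : S.th (l : F) ≠ 0 := S.th_ne l
    have d2 : S.th ((l : F) + 1) ≠ 0 := (map_ne_zero S.th).mpr hl0
    simp only [a, map_one, one_pow, div_one] at ha
    rw [div_eq_iff (pow_ne_zero _ d2)] at ha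
    rw [map_add, map_one] at ha
    have hT : S.th (l : F) ^ 3 = (l : F) := by
      set x := (l : F)
      set u := S.th x
      have : u ^ 3 * (u ^ 3 - x) ^ 2 = 0 := by
        have h' : (u ^ 3) * (x + 1) ^ 2 = (x ^ 2 + u ^ 3) * (u ^ 3 + 1) := by
          field_simp at ha
          linear_combination ha + (x ^ 2 + u ^ 3) * (u ^ 2 + u) * h3
        linear_combination -u ^ 3 * h' 
      exact sub_eq_zero.mp (pow_eq_zero_iff two_ne_zero |>.mp ((mul_eq_zero.mp this).resolve_left (pow_ne_zero _ d1)))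
    refine S.beta_ne_one hl1 hl2 ?_
    rw [beta, hT, div_self l.ne_zero]
  have hfixU : ∀ t u w, α (S.R t u w) = S.R t u w := fun t u w => by
    have e : S.R t u w = S.R t 0 0 * S.R 0 u 0 * S.R 0 0 w := by
      rw [S.R_mul, S.R_mul]; congr 1 <;> simp
    rw [e, map_mul, map_mul, hσ, hρ, hρid, hZ, hσid, hμ, hν]
  -- the monomial involution
  set X := α S.w₀ with hX
  have hXD : ∀ v, X * S.D v = S.D v⁻¹ * X := fun v => by
    rw [hX, ← hD v, ← map_mul, S.w₀_D hK, map_mul, hD]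

  have hXB : X ∉ S.BB := fun hB => by
    obtain ⟨t, u, w, v, e⟩ := S.mem_B.mp hB
    have : X = α (S.R t u w * S.D v) := by rw [map_mul, hfixU, hD, e]
    exact S.w₀_not_mem_B (α.injective this ▸ mul_mem (S.U_le_B (S.R_mem_U t u w)) (S.H_le_B (S.D_mem_H v)))
  obtain ⟨e₀, hXe⟩ : ∃ e₀ : Fˣ, X = S.D e₀ * S.w₀ := by
    rcases S.cases X with h | ⟨t, u, w, v, t', u', w', e⟩
    · exact absurd h hXB
    set R₁ := S.R t u w
    set R₂ := S.R t' u' w'
    have h := hXD l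
    rw [e] at h
    have h' : (R₁ * S.D v * S.D l⁻¹) * S.w₀ * (S.D l⁻¹ * R₂ * (S.D l⁻¹)⁻¹) = (S.D l⁻¹ * R₁ * S.D v) * S.w₀ * R₂ := by
      rw [show (R₁ * S.D v * S.D l⁻¹) * S.w₀ * (S.D l⁻¹ * R₂ * (S.D l⁻¹)⁻¹) =
        R₁ * S.D v * S.D l⁻¹ * (S.w₀ * S.D l⁻¹) * (R₂ * (S.D l⁻¹)⁻¹) by simp only [mul_assoc], S.w₀_D hK, inv_inv,
        ← map_inv, inv_inv, show R₁ * S.D v * S.D l⁻¹ * (S.D l * S.w₀) * (R₂ * S.D l) =
          R₁ * S.D v * (S.D l⁻¹ * S.D l) * S.w₀ * R₂ * S.D l by simp only [mul_assoc], ← map_mul, inv_mul_cancel,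
        map_one, mul_one, show S.D l⁻¹ * R₁ * S.D v * S.w₀ * R₂ = S.D l⁻¹ * (R₁ * S.D v * S.w₀ * R₂) by
          simp only [mul_assoc]]
      exact h
    obtain ⟨hb, hx⟩ := S.big_inj (mul_mem (mul_mem (S.U_le_B (S.R_mem_U _ _ _)) (S.H_le_B (S.D_mem_H _)))
        (S.H_le_B (S.D_mem_H _)))
      (mul_mem (mul_mem (S.H_le_B (S.D_mem_H _)) (S.U_le_B (S.R_mem_U _ _ _))) (S.H_le_B (S.D_mem_H _)))
      (S.conj_U (S.H_le_B (S.D_mem_H _)) (S.R_mem_U _ _ _)) (S.R_mem_U _ _ _) h'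
    have hl1' : l⁻¹ ≠ 1 := fun h => hl1 (inv_eq_one.mp h)
    have hl2' : l⁻¹ ≠ -1 := fun h => hl2 (by rw [← inv_inv l, h, inv_neg, inv_one])
    have x2 : R₂ = 1 := S.comm_D (S.R_mem_U _ _ _) hl1' hl2' hx
    have x1 : R₁ = 1 := S.comm_D (S.R_mem_U _ _ _) hl1' hl2' (by
      rw [mul_assoc R₁, ← map_mul, mul_comm v, map_mul, ← mul_assoc] at hb
      rw [mul_inv_eq_iff_eq_mul]
      exact (mul_right_cancel hb).symm)
    exact ⟨v, by rw [e, x1, x2, one_mul, mul_one]⟩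
  obtain ⟨L, hL, hword⟩ : ∃ L : ↥S.Gr, (∃ c, L = S.w₀ * S.R 0 c 0 * S.w₀) ∧
      S.w₀ = S.R 0 1 0 * L * S.R 0 1 0 := by
    refine ⟨S.Rl 1, ?_, ?_⟩
    · have hneg : ((S.Rl 1 : ↥S.Gr) : GL chevG2.Idx F) ∈ chevG2.negUnipotent F := coe_Wd_mem_neg _ _ _ _ _ _
      have hu : S.w₀ * S.Rl 1 * S.w₀ ∈ S.UU := by
        nth_rw 2 [← S.w₀_inv]
        exact S.n₀_conj_neg hneg
      obtain ⟨a, b, c, e⟩ := S.mem_U.mp hu
      have hw1 : S.w₀ * S.D (-1) = S.D (-1) * S.w₀ := by rw [S.w₀_D hK, inv_neg, inv_one]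
      have hc : S.D (-1) * (S.w₀ * S.Rl 1 * S.w₀) = (S.w₀ * S.Rl 1 * S.w₀) * S.D (-1) := by
        calc S.D (-1) * (S.w₀ * S.Rl 1 * S.w₀) = S.D (-1) * S.w₀ * S.Rl 1 * S.w₀ := by simp only [mul_assoc]
          _ = S.w₀ * (S.D (-1) * S.Rl 1) * S.w₀ := by rw [← hw1]; simp only [mul_assoc]
          _ = S.w₀ * S.Rl 1 * (S.D (-1) * S.w₀) := by rw [S.a_comm_Rl]; simp only [mul_assoc]
          _ = _ := by rw [← hw1]; simp only [mul_assoc]
      rw [e] at hc
      have e2 := hDc a b c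
      rw [hc, mul_inv_cancel_right] at e2
      obtain ⟨r1, -, r3⟩ := S.R_inj e2
      refine ⟨b, ?_⟩
      rw [← hzero r1.symm, ← hzero r3.symm] at *
      calc S.Rl 1 = S.w₀ * (S.w₀ * S.Rl 1 * S.w₀) * S.w₀ := by
            simp only [← mul_assoc, S.w₀_sq, one_mul]; rw [mul_assoc, S.w₀_sq, mul_one]
        _ = _ := by rw [e]
    · refine Subtype.ext ?_
      show ((S.n₀ : ↥(chevG2.group F)) : GL chevG2.Idx F) = _
      rw [n₀, nn_word, inv_one]
      rfl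
  obtain ⟨c, rfl⟩ := hL
  have hDw : S.D e₀ * S.w₀ = S.w₀ * (S.D e₀)⁻¹ := by rw [← map_inv, S.w₀_D hK, inv_inv]
  have hαw := congrArg α hword
  rw [map_mul, map_mul, map_mul, map_mul, hfixU, hfixU, ← hX, hXe] at hαw
  set L := S.w₀ * S.R 0 c 0 * S.w₀ with hLdef
  have hX' : S.D e₀ * S.w₀ = S.R 0 1 0 * (S.D e₀ * L * (S.D e₀)⁻¹) * S.R 0 1 0 := by
    refine hαw.trans ?_
    congr 2
    conv_lhs => arg 2; rw [hDw]
    simp only [hLdef, mul_assoc]
  set β := S.beta e₀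
  have hconj : S.D e₀ * S.R 0 1 0 * (S.D e₀)⁻¹ = S.R 0 β 0 := by
    rw [S.D_conj, mul_zero, mul_zero, mul_one]
  have hD2 : S.D (e₀ * e₀) * S.w₀ = S.R 0 β 0 * (S.D e₀ * L * (S.D e₀)⁻¹) * S.R 0 β 0 := by
    rw [map_mul, mul_assoc, hDw, ← mul_assoc]
    conv_lhs => rw [hword]
    rw [← hconj]
    simp [mul_assoc]
  have hBig : S.R 0 (-1) 0 * S.D e₀ * S.w₀ * S.R 0 (-1) 0 =
      S.R 0 (-β) 0 * S.D (e₀ * e₀) * S.w₀ * S.R 0 (-β) 0 := by
    rw [mul_assoc (S.R 0 (-1) 0), mul_assoc (S.R 0 (-β) 0) (S.D (e₀ * e₀)), hX', hD2]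
    have h0 : ∀ x : F, S.R 0 (-x) 0 * S.R 0 x 0 = 1 := fun x => by rw [S.R0_mul]; simp [S.R_zero]
    have h0' : ∀ x : F, S.R 0 x 0 * S.R 0 (-x) 0 = 1 := fun x => by rw [S.R0_mul]; simp [S.R_zero]
    simp only [← mul_assoc, h0, one_mul]
    simp only [mul_assoc, h0', mul_one]
  obtain ⟨hb, hx⟩ := S.big_inj (mul_mem (S.U_le_B (S.R_mem_U _ _ _)) (S.H_le_B (S.D_mem_H _)))
    (mul_mem (S.U_le_B (S.R_mem_U _ _ _)) (S.H_le_B (S.D_mem_H _))) (S.R_mem_U _ _ _) (S.R_mem_U _ _ _) hBig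
  have he : e₀ = 1 := by
    have := (S.RD_inj hb).2.2.2
    exact mul_eq_left.mp this.symm
  have hw : α S.w₀ = S.w₀ := by rw [← hX, hXe, he, map_one, one_mul]
  have htop := S.top_of hK (MonoidHom.eqLocus α.toMonoidHom (MonoidHom.id _))
    (fun x hx => by obtain ⟨t, u, w, rfl⟩ := S.mem_U.mp hx; exact hfixU t u w)
    (fun x hx => by
      obtain ⟨t, u, w, rfl⟩ := S.mem_U.mp hx
      show α (S.w₀ * S.R t u w * S.w₀) = S.w₀ * S.R t u w * S.w₀
      rw [map_mul, map_mul, hw, hfixU])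
  exact MulEquiv.ext fun g => (htop.symm ▸ Subgroup.mem_top g : g ∈ MonoidHom.eqLocus α.toMonoidHom (MonoidHom.id _))

/-- Every automorphism is inner times field. -/
theorem exists_field_inner (hK : Fintype.card F = 3 ^ (2 * m + 1)) (hm : 1 ≤ m)
    (hth : ∀ x : F, S.th x = x ^ 3 ^ m) (α : MulAut ↥S.Gr) :
    ∃ (φ : F ≃+* F) (g : ↥S.Gr), α = MulAut.conj g * S.fieldAut hth φ := by
  classical
  haveI : Fact (Nat.Prime 3) := ⟨Nat.prime_three⟩
  haveI : Fact (Nat.Prime 2) := ⟨Nat.prime_two⟩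
  -- the unipotent subgroup
  let PU := Sylow.ofCard S.UU (S.card_U_fact hK)
  have hcU : Nat.card ↥(S.UU.map α.toMonoidHom) = 3 ^ (Nat.card ↥S.Gr).factorization 3 := by
    rw [Subgroup.card_map_of_injective α.injective]; exact S.card_U_fact hK
  obtain ⟨g₁, hg₁⟩ := MulAction.exists_smul_eq ↥S.Gr PU (Sylow.ofCard _ hcU)
  set α₁ := (MulAut.conj g₁)⁻¹ * α with hα₁
  have hU1 : ∀ x ∈ S.UU, α₁ x ∈ S.UU := fun x hx => by
    have h : α x ∈ ((g₁ • PU : Sylow 3 ↥S.Gr) : Subgroup ↥S.Gr) := hg₁.symm ▸ ⟨x, hx, rfl⟩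
    rw [Sylow.coe_subgroup_smul, Subgroup.mem_pointwise_smul_iff_inv_smul_mem] at h
    exact h
  have hB1 : ∀ b ∈ S.BB, α₁ b ∈ S.BB := fun b hb => by
    obtain ⟨x, hx, hx1⟩ : ∃ x ∈ S.UU, x ≠ 1 := ⟨S.R 0 1 0, S.R_mem_U _ _ _, fun h => by
      rw [← S.R_zero] at h; exact one_ne_zero (S.R_inj h).2.1⟩
    refine S.mem_B_of_normalize (hU1 _ hx) (fun h => hx1 ((MulEquiv.map_eq_one_iff α₁).mp h)) ?_
    rw [← map_inv, ← map_mul, ← map_mul]
    refine hU1 _ ?_
    have := S.conj_U (inv_mem hb) hx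
    rwa [inv_inv] at this
  -- the central involution of the Borel subgroup
  set a := S.D (-1)
  have haa : a * a = 1 := by rw [← map_mul, neg_one_mul, neg_neg, map_one]
  have ha1 : a ≠ 1 := fun e => neg_one_ne_one (F := F)
    (by simpa using congrArg Units.val (S.D_inj (e.trans (map_one S.D).symm)))
  have hfac : (Nat.card ↥S.BB).factorization 2 = 1 := by
    have h8 : Fintype.card F % 8 = 3 := by
      rw [hK, pow_succ, pow_mul, Nat.mul_mod, Nat.pow_mod]; norm_num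
    rw [S.card_B]
    set q := Fintype.card F
    obtain ⟨k, hk, hk2⟩ : ∃ k, q - 1 = 2 * k ∧ ¬ 2 ∣ q ^ 3 * k := by
      refine ⟨(q - 1) / 2, by omega, fun h => ?_⟩
      rcases Nat.prime_two.dvd_mul.mp h with h | h
      · have := Nat.prime_two.dvd_of_dvd_pow h; omega
      · omega
    rw [hk, show q ^ 3 * (2 * k) = 2 * (q ^ 3 * k) by ring, Nat.factorization_mul (by norm_num)
      (fun e => hk2 (by rw [e]; exact dvd_zero 2)), Finsupp.add_apply, Nat.prime_two.factorization_self,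
      Nat.factorization_eq_zero_of_not_dvd hk2]
  have hsyl : ∀ z : ↥S.BB, orderOf z = 2 → Nat.card ↥(Subgroup.zpowers z) = 2 ^ (Nat.card ↥S.BB).factorization 2 :=
    fun z hz => by rw [Nat.card_zpowers, hz, hfac]; rfl
  let a' : ↥S.BB := ⟨a, S.H_le_B (S.D_mem_H _)⟩
  let b' : ↥S.BB := ⟨α₁ a, hB1 _ a'.2⟩
  have ha' : orderOf a' = 2 := orderOf_eq_prime (Subtype.ext (by rw [pow_two]; exact haa))
    (fun e => ha1 (congrArg Subtype.val e))
  have hb' : orderOf b' = 2 := orderOf_eq_prime (Subtype.ext (by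
    rw [pow_two, Subgroup.coe_mul]
    show α₁ a * α₁ a = 1
    rw [← map_mul, haa, map_one]))
    (fun e => ha1 ((MulEquiv.map_eq_one_iff α₁).mp (congrArg Subtype.val e)))
  obtain ⟨c, hc⟩ := MulAction.exists_smul_eq ↥S.BB (Sylow.ofCard _ (hsyl _ hb')) (Sylow.ofCard _ (hsyl _ ha'))
  have hca : (c : ↥S.Gr) * α₁ a * (c : ↥S.Gr)⁻¹ = a := by
    have h : MulAut.conj c b' ∈ Subgroup.zpowers a' := by
      have h2 : MulAut.conj c b' ∈ ((c • Sylow.ofCard _ (hsyl _ hb') : Sylow 2 ↥S.BB) : Subgroup ↥S.BB) := by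
        rw [Sylow.coe_subgroup_smul]
        exact Subgroup.smul_mem_pointwise_smul b' (MulAut.conj c) _ (Subgroup.mem_zpowers b')
      rw [hc] at h2
      exact h2
    obtain ⟨i, hi⟩ := Subgroup.mem_zpowers_iff.mp h
    have hi2 : a' ^ i = 1 ∨ a' ^ i = a' := by
      rw [← zpow_mod_orderOf, ha']
      rcases Int.emod_two_eq_zero_or_one i with h | h <;> simp [h]
    rcases hi2 with h2 | h2
    · rw [h2] at hi
      exact absurd ((MulEquiv.map_eq_one_iff (MulAut.conj c)).mp hi.symm) (fun e => by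
        rw [e, orderOf_one] at hb'; omega)
    · rw [h2] at hi
      exact (congrArg Subtype.val hi).symm
  set α₂ := MulAut.conj (c : ↥S.Gr) * α₁ with hα₂
  have hU2 : ∀ x ∈ S.UU, α₂ x ∈ S.UU := fun x hx => S.conj_U c.2 (hU1 x hx)
  have hB2 : ∀ b ∈ S.BB, α₂ b ∈ S.BB := fun b hb => mul_mem (mul_mem c.2 (hB1 b hb)) (inv_mem c.2)
  have ha2 : α₂ a = a := hca
  -- the torus
  obtain ⟨l, hgen⟩ := IsCyclic.exists_generator (α := Fˣ)
  obtain ⟨u₀, hu₀, s, hs1, hs2⟩ : ∃ u₀ : F, ∃ _ : True, ∃ s : Fˣ, (s ≠ 1 ∧ s ≠ -1) ∧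
      α₂ (S.D l) = S.R 0 u₀ 0 * S.D s := by
    have hcen : α₂ (S.D l) ∈ Subgroup.centralizer ({a} : Set ↥S.Gr) := by
      rw [Subgroup.mem_centralizer_singleton_iff]
      conv_lhs => rw [← ha2]
      conv_rhs => rw [← ha2]
      rw [← map_mul, ← map_mul, ← map_mul, ← map_mul, mul_comm l]
    rcases S.centralizer_cases hK hcen with ⟨u₀, s, e⟩ | ⟨u₀, s, u', e⟩
    · refine ⟨u₀, trivial, s, ?_, e⟩
      by_contra hs
      have hss : s * s = 1 := by
        rcases not_and_or.mp hs with h | h <;> rw [not_not.mp h] <;> simp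
      have h6 : α₂ (S.D l) ^ 6 = 1 := by
        have h2 : α₂ (S.D l) ^ 2 = S.R 0 (u₀ + S.beta s * u₀) 0 := by
          rw [e, pow_two, show S.R 0 u₀ 0 * S.D s * (S.R 0 u₀ 0 * S.D s) =
            S.R 0 u₀ 0 * (S.D s * S.R 0 u₀ 0 * (S.D s)⁻¹) * (S.D s * S.D s) by simp [mul_assoc], ← map_mul, hss,
            map_one, mul_one, S.D_conj, mul_zero, mul_zero, S.R0_mul, add_zero]
        rw [show 6 = 2 * 3 from rfl, pow_mul, h2]
        exact S.cube_eq_one.mpr rfl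
      rw [← map_pow, MulEquiv.map_eq_one_iff, ← map_pow] at h6
      have hord := orderOf_dvd_of_pow_eq_one (S.D_inj (h6.trans (map_one S.D).symm))
      rw [orderOf_eq_card_of_forall_mem_zpowers hgen, Nat.card_units, Nat.card_eq_fintype_card] at hord
      have := Nat.le_of_dvd (by norm_num) hord
      have h27 : 3 ^ 3 ≤ Fintype.card F := hK ▸ Nat.pow_le_pow_right (by norm_num) (by omega)
      omega
    · exfalso
      have h := hB2 _ (S.H_le_B (S.D_mem_H l))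
      rw [e] at h
      exact S.big_not_mem_B (mul_mem (S.U_le_B (S.R_mem_U _ _ _)) (S.H_le_B (S.D_mem_H _))) (S.U_le_B (S.R_mem_U _ _ _)) h
  have hb : 1 - S.beta s ≠ 0 := sub_ne_zero.mpr (Ne.symm (S.beta_ne_one hs1.1 hs1.2))
  set x₀ := -u₀ / (1 - S.beta s) with hx₀
  set d := S.R 0 x₀ 0
  set α₃ := MulAut.conj d * α₂ with hα₃
  have hD3 : α₃ (S.D l) = S.D s := by
    show d * α₂ (S.D l) * d⁻¹ = S.D s
    rw [hs2, show d * (S.R 0 u₀ 0 * S.D s) * d⁻¹ = d * S.R 0 u₀ 0 * (S.D s * d⁻¹ * (S.D s)⁻¹) * S.D s by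
      simp [mul_assoc], S.R_inv0, S.D_conj, mul_zero, neg_zero, mul_zero, S.R0_mul, S.R0_mul,
      show x₀ + u₀ + S.beta s * -x₀ = 0 by rw [hx₀]; field_simp; ring, add_zero, add_zero, S.R_zero, one_mul]
  have hU3 : ∀ x ∈ S.UU, α₃ x ∈ S.UU := fun x hx => S.conj_U (S.U_le_B (S.R_mem_U _ _ _)) (hU2 x hx)
  have hDall : ∀ v : Fˣ, ∃ v' : Fˣ, α₃ (S.D v) = S.D v' := fun v => by
    obtain ⟨n, rfl⟩ := Subgroup.mem_zpowers_iff.mp (hgen v)
    exact ⟨s ^ n, by rw [map_zpow, map_zpow, hD3, map_zpow]⟩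
  choose π hπ using hDall
  -- the centre of the unipotent subgroup
  have hsurjU : ∀ y ∈ S.UU, ∃ x ∈ S.UU, α₃ x = y := fun y hy => by
    have hinj : Function.Injective (fun x : ↥S.UU => (⟨α₃ x, hU3 x x.2⟩ : ↥S.UU)) := fun x x' h =>
      Subtype.ext (α₃.injective (congrArg Subtype.val h))
    obtain ⟨x, hx⟩ := Finite.injective_iff_surjective.mp hinj ⟨y, hy⟩
    exact ⟨x, x.2, congrArg Subtype.val hx⟩
  have hZ : ∀ w, ∃ w', α₃ (S.R 0 0 w) = S.R 0 0 w' := fun w => by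
    obtain ⟨a₁, b₁, c₁, e⟩ := S.mem_U.mp (hU3 _ (S.R_mem_U 0 0 w))
    have hc : ∀ y ∈ S.UU, S.R a₁ b₁ c₁ * y = y * S.R a₁ b₁ c₁ := fun y hy => by
      obtain ⟨x, hx, rfl⟩ := hsurjU y hy
      obtain ⟨t, u, z, rfl⟩ := S.mem_U.mp hx
      rw [← e, ← map_mul, ← map_mul, S.R_mul, S.R_mul]
      congr 2 <;> simp <;> ring
    have h1 := hc _ (S.R_mem_U 0 1 0)
    rw [S.R_mul, S.R_mul] at h1
    have r := (S.R_inj h1).2.2
    have ha : a₁ = 0 := by simp at r; linear_combination r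
    subst ha
    have h2 := hc _ (S.R_mem_U 1 0 0)
    rw [S.R_mul, S.R_mul] at h2
    have r := (S.R_inj h2).2.2
    have hb : b₁ = 0 := by simp at r; linear_combination r
    subst hb
    exact ⟨c₁, e⟩
  choose γ hγ using hZ
  have hγ1 : γ 1 ≠ 0 := fun e => by
    have := hγ 1
    rw [e, S.R_zero, MulEquiv.map_eq_one_iff, ← S.R_zero] at this
    exact one_ne_zero (S.R_inj this).2.2
  set n := (Units.mk0 (γ 1) hγ1)⁻¹ with hn
  set α₄ := MulAut.conj (S.D n) * α₃ with hα₄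
  set f : F → F := fun w => (γ 1)⁻¹ * γ w with hf
  have hZ4 : ∀ w, α₄ (S.R 0 0 w) = S.R 0 0 (f w) := fun w => by
    show S.D n * α₃ (S.R 0 0 w) * (S.D n)⁻¹ = _
    rw [hγ, S.D_conj, mul_zero, mul_zero, hf, hn, Units.val_inv_eq_inv_val, Units.val_mk0]
  have hD4 : ∀ v, α₄ (S.D v) = S.D (π v) := fun v => by
    show S.D n * α₃ (S.D v) * (S.D n)⁻¹ = _
    rw [hπ, ← map_inv, ← map_mul, ← map_mul, mul_comm n, mul_assoc, mul_inv_cancel, mul_one]
  have hU4 : ∀ x ∈ S.UU, α₄ x ∈ S.UU := fun x hx => S.conj_U (S.H_le_B (S.D_mem_H _)) (hU3 x hx)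
  have hf1 : f 1 = 1 := inv_mul_cancel₀ hγ1
  have hadd : ∀ x y, f (x + y) = f x + f y := fun x y => by
    have h := hZ4 (x + y)
    rw [show S.R 0 0 (x + y) = S.R 0 0 x * S.R 0 0 y by rw [S.R0_mul, add_zero], map_mul, hZ4, hZ4, S.R0_mul] at h
    exact (S.R_inj h).2.2.symm
  have hinj : Function.Injective f := fun x y h => by
    have : α₄ (S.R 0 0 x) = α₄ (S.R 0 0 y) := by rw [hZ4, hZ4, h]
    exact (S.R_inj (α₄.injective this)).2.2
  have hequiv : ∀ (v : Fˣ) (w : F), f ((v : F) * w) = (π v : F) * f w := fun v w => by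
    have h := congrArg α₄ (show S.D v * S.R 0 0 w * (S.D v)⁻¹ = S.R 0 0 ((v : F) * w) by
      rw [S.D_conj, mul_zero, mul_zero])
    rw [map_mul, map_mul, map_inv, hD4, hZ4, hZ4, S.D_conj] at h
    exact (S.R_inj h).2.2.symm
  have hπf : ∀ v : Fˣ, f (v : F) = (π v : F) := fun v => by
    have h := hequiv v 1
    rwa [mul_one, hf1, mul_one] at h
  have hmul : ∀ x y, f (x * y) = f x * f y := fun x y => by
    by_cases hx : x = 0
    · subst hx
      have h0 : f 0 = 0 := by have := hadd 0 0; rw [add_zero] at this; exact left_eq_add.mp this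
      rw [zero_mul, h0, zero_mul]
    · have h := hequiv (Units.mk0 x hx) y
      rwa [← hπf, Units.val_mk0] at h
  let φ : F ≃+* F :=
    { Equiv.ofBijective f ⟨hinj, Finite.surjective_of_injective hinj⟩ with map_mul' := hmul, map_add' := hadd }
  have hπφ : ∀ v, Units.map (φ : F →* F) v = π v := fun v => Units.ext (hπf v)
  set α₅ := (S.fieldAut hth φ)⁻¹ * α₄ with hα₅
  have hfa : ∀ x y, α₄ x = S.fieldAut hth φ y → α₅ x = y := fun x y e => by
    show (S.fieldAut hth φ)⁻¹ (α₄ x) = y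
    rw [e, MulAut.inv_apply, MulEquiv.symm_apply_apply]
  have hid := S.eq_id_of_fixed hK hm α₅ (fun x hx => by
      obtain ⟨t, u, w, e⟩ := S.mem_U.mp (hU4 x hx)
      rw [hfa x (S.R (φ.symm t) (φ.symm u) (φ.symm w)) (by
        rw [S.fieldAut_R, φ.apply_symm_apply, φ.apply_symm_apply, φ.apply_symm_apply, e])]
      exact S.R_mem_U _ _ _)
    (fun v => hfa _ _ (by rw [hD4, S.fieldAut_D, hπφ]))
    (fun w => hfa _ _ (by rw [hZ4, S.fieldAut_R, map_zero]; rfl))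
  rw [hα₅, inv_mul_eq_one] at hid
  refine ⟨φ, g₁ * (c : ↥S.Gr)⁻¹ * d⁻¹ * (S.D n)⁻¹, ?_⟩
  rw [hid, hα₄, hα₃, hα₂, hα₁]
  simp only [map_mul, map_inv]
  group

theorem fieldAut_inner (hth : ∀ x : F, S.th x = x ^ 3 ^ m) (φ : F ≃+* F) (g : ↥S.Gr)
    (h : S.fieldAut hth φ = MulAut.conj g) : φ = 1 := by
  have ht : ∀ t u w, S.R (φ t) (φ u) (φ w) = g * S.R t u w * g⁻¹ := fun t u w => by
    rw [← S.fieldAut_R hth, h]; rfl
  have hB : g⁻¹ ∈ S.BB := by
    refine S.mem_B_of_normalize (x := S.R 0 1 0) (S.R_mem_U _ _ _) (fun e => ?_) ?_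
    · rw [← S.R_zero] at e; exact one_ne_zero (S.R_inj e).2.1
    · rw [inv_inv, ← ht]; exact S.R_mem_U _ _ _
  obtain ⟨a, b, c, v, e⟩ := S.mem_B.mp (inv_mem_iff.mp hB)
  have hφ : ∀ t, φ t = S.alpha v * t := fun t => by
    obtain ⟨b', c', hi⟩ := S.R_inv a b c
    have := ht t 0 0
    rw [e, show S.R a b c * S.D v * S.R t 0 0 * (S.R a b c * S.D v)⁻¹ =
      S.R a b c * (S.D v * S.R t 0 0 * (S.D v)⁻¹) * (S.R a b c)⁻¹ by simp [mul_assoc], S.D_conj, hi, S.R_mul,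
      S.R_mul] at this
    rw [(S.R_inj this).1]
    ring
  have h1 : S.alpha v = 1 := by
    have := hφ 1; rw [map_one, mul_one] at this; exact this.symm
  exact RingEquiv.ext fun t => by rw [hφ, h1, one_mul]; rfl

omit [CharP F 3] in
theorem card_field_aut (hK : Fintype.card F = 3 ^ (2 * m + 1)) : Nat.card (F ≃+* F) = 2 * m + 1 := by
  haveI := Fact.mk Nat.prime_three
  haveI : CharP F 3 := by
    obtain ⟨p, hp⟩ := CharP.exists F
    haveI := hp
    obtain ⟨n, hpp, hn⟩ := FiniteField.card F p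
    rw [hK] at hn
    have : p = 3 := (Nat.prime_dvd_prime_iff_eq hpp Nat.prime_three).mp
      (hpp.dvd_of_dvd_pow (hn ▸ dvd_pow_self p n.ne_zero))
    subst this
    exact hp
  letI := ZMod.algebra F 3
  have e : (F ≃+* F) ≃ (F ≃ₐ[ZMod 3] F) :=
    { toFun := fun φ => AlgEquiv.ofRingEquiv (f := φ) fun x => by
        exact congrFun (congrArg DFunLike.coe
          (Subsingleton.elim ((φ : F →+* F).comp (algebraMap (ZMod 3) F)) (algebraMap (ZMod 3) F))) x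
      invFun := fun φ => φ.toRingEquiv
      left_inv := fun φ => RingEquiv.ext fun x => rfl
      right_inv := fun φ => AlgEquiv.ext fun x => rfl }
  rw [Nat.card_congr e, IsGalois.card_aut_eq_finrank]
  have h := Module.card_eq_pow_finrank (K := ZMod 3) (V := F)
  rw [hK, ZMod.card] at h
  exact (Nat.pow_right_injective (by norm_num) h).symm

theorem card_out (hK : Fintype.card F = 3 ^ (2 * m + 1)) (hm : 1 ≤ m) (hth : ∀ x : F, S.th x = x ^ 3 ^ m) :
    Nat.card (Cfsg.Out ↥S.Gr) = 2 * m + 1 := by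
  rw [← card_field_aut (F := F) hK]
  refine (Nat.card_congr (Equiv.ofBijective (fun φ : F ≃+* F =>
    (QuotientGroup.mk' (Cfsg.Inn ↥S.Gr)) (S.fieldAut hth φ)) ⟨fun φ ψ h => ?_, fun x => ?_⟩)).symm
  · have h1 : (S.fieldAut hth φ)⁻¹ * S.fieldAut hth ψ ∈ Cfsg.Inn ↥S.Gr := QuotientGroup.eq.mp h
    rw [← map_inv, ← map_mul] at h1
    obtain ⟨g, hg⟩ := h1
    exact inv_mul_eq_one.mp (S.fieldAut_inner hth _ g hg.symm)
  · obtain ⟨α, rfl⟩ := QuotientGroup.mk'_surjective _ x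
    obtain ⟨φ, g, rfl⟩ := S.exists_field_inner hK hm hth α
    refine ⟨φ, ?_⟩
    show _ = QuotientGroup.mk' _ (MulAut.conj g * S.fieldAut hth φ)
    rw [map_mul, show QuotientGroup.mk' (Cfsg.Inn ↥S.Gr) (MulAut.conj g) = 1 from
      (QuotientGroup.eq_one_iff _).mpr ⟨g, rfl⟩, one_mul]

end Tw

end Cfsg.Agent.SmallRee
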