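import Cfsg.Agent.Lib.SmallRee.Model

/-!
The small Ree group has a pair of subgroups satisfying the axioms of a (B,N)-pair of rank one.
-/

set_option autoImplicit false
set_option maxRecDepth 20000

namespace Cfsg.Agent.SmallRee

open Cfsg.Lie Cfsg.Agent.Chev

variable {F : Type*} [Field F]

/-- An intersection, seen inside the second subgroup. -/
noncomputable def infEquiv {G : Type*} [Group G] (A T : Subgroup G) : ↥(A ⊓ T) ≃* ↥(A.subgroupOf T) :=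
  (Subgroup.subgroupOfEquivOfLe (inf_le_right : A ⊓ T ≤ T)).symm.trans
    (MulEquiv.subgroupCongr (Subgroup.inf_subgroupOf_right A T))

namespace Tw

variable (S : Tw F) [CharP F 3] [Fintype F]

theorem BB_sup_NN : S.BB ⊔ S.NN = ⊤ := by
  refine eq_top_iff.mpr fun g _ => ?_
  rcases S.cases g with h | ⟨t, u, w, v, t', u', w', rfl⟩
  · exact Subgroup.mem_sup_left h
  · exact mul_mem (mul_mem (Subgroup.mem_sup_left (mul_mem (S.U_le_B (S.R_mem_U t u w)) (S.H_le_B (S.D_mem_H v))))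
      (Subgroup.mem_sup_right S.w₀_mem_N)) (Subgroup.mem_sup_left (S.U_le_B (S.R_mem_U t' u' w')))

theorem conj_mem_H {m : ℕ} (hK : Fintype.card F = 3 ^ (2 * m + 1)) {n h : ↥S.Gr} (hn : n ∈ S.NN) (hh : h ∈ S.HH) :
    n * h * n⁻¹ ∈ S.HH := by
  obtain ⟨v, rfl⟩ := S.mem_H.mp hh
  obtain ⟨c, rfl | rfl⟩ := S.mem_N.mp hn
  · rw [← map_mul, ← map_inv, ← map_mul]; exact S.D_mem_H _
  · have : S.D c * S.w₀ * S.D v * (S.D c * S.w₀)⁻¹ = S.D c * (S.w₀ * S.D v * S.w₀) * (S.D c)⁻¹ := by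
      rw [mul_inv_rev, S.w₀_inv]; simp only [mul_assoc]
    rw [this, S.w₀_conj_D hK, ← map_mul, ← map_inv, ← map_mul]
    exact S.D_mem_H _

theorem inDC_cases (g : ↥S.Gr) : g ∈ S.BB ∨ g ∈ DoubleCoset.doubleCoset S.w₀ (S.BB : Set ↥S.Gr) S.BB := by
  rcases S.cases g with h | ⟨t, u, w, v, t', u', w', rfl⟩
  · exact Or.inl h
  · exact Or.inr (DoubleCoset.mem_doubleCoset.mpr
      ⟨_, mul_mem (S.U_le_B (S.R_mem_U t u w)) (S.H_le_B (S.D_mem_H v)), _, S.U_le_B (S.R_mem_U t' u' w'), rfl⟩)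

/-- The pair of subgroups. -/
def pair {m : ℕ} (hK : Fintype.card F = 3 ^ (2 * m + 1)) : Cfsg.BNPair ↥S.Gr where
  B := S.BB
  N := S.NN
  S := {S.w₀}
  sup_eq_top := S.BB_sup_NN
  conj_mem := fun n hn t ht => S.H_le_B (S.conj_mem_H hK hn (S.B_inf_N ▸ ht))
  subset := Set.singleton_subset_iff.mpr S.w₀_mem_N
  sq_mem := fun s hs => by rw [Set.mem_singleton_iff.mp hs, S.w₀_sq]; exact one_mem _
  inj := fun s hs s' hs' _ => hs.trans hs'.symm
  closure_sup := by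
    rw [S.B_inf_N]
    refine le_antisymm (sup_le ((Subgroup.closure_le _).mpr (Set.singleton_subset_iff.mpr S.w₀_mem_N)) S.H_le_N) ?_
    intro g hg
    obtain ⟨v, rfl | rfl⟩ := S.mem_N.mp hg
    · exact Subgroup.mem_sup_right (S.D_mem_H v)
    · exact mul_mem (Subgroup.mem_sup_right (S.D_mem_H v))
        (Subgroup.mem_sup_left (Subgroup.subset_closure rfl))
  mul_mem_union := by
    intro s hs n hn b hb
    rw [Set.mem_singleton_iff.mp hs]
    obtain ⟨v, rfl | rfl⟩ := S.mem_N.mp hn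
    · refine Or.inl (DoubleCoset.mem_doubleCoset.mpr
        ⟨1, one_mem _, (S.D v)⁻¹ * b * S.D v, mul_mem (mul_mem (inv_mem (S.H_le_B (S.D_mem_H v))) hb)
          (S.H_le_B (S.D_mem_H v)), ?_⟩)
      simp [mul_assoc]
    · have e : S.w₀ * (S.D v * S.w₀) = S.D v⁻¹ := by rw [← mul_assoc, S.w₀_conj_D hK]
      rcases S.inDC_cases (S.w₀ * b * (S.D v * S.w₀)) with h | h
      · refine Or.inl (DoubleCoset.mem_doubleCoset.mpr
          ⟨S.w₀ * b * (S.D v * S.w₀) * (S.D v⁻¹)⁻¹, mul_mem h (inv_mem (S.H_le_B (S.D_mem_H _))), 1, one_mem _, ?_⟩)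
        rw [e]; simp [mul_assoc]
      · obtain ⟨a, ha, c, hc, e'⟩ := DoubleCoset.mem_doubleCoset.mp h
        refine Or.inr (DoubleCoset.mem_doubleCoset.mpr
          ⟨a * (S.D v)⁻¹, mul_mem ha (inv_mem (S.H_le_B (S.D_mem_H v))), c, hc, ?_⟩)
        rw [e']; simp [mul_assoc]
  conj_ne := fun s hs h => by
    rw [Set.mem_singleton_iff.mp hs] at h
    have h1 : S.w₀ * S.R 1 0 0 * S.w₀ ∈ (S.BB : Set ↥S.Gr) :=
      h ▸ Set.mem_image_of_mem (fun b => S.w₀ * b * S.w₀) (S.U_le_B (S.R_mem_U 1 0 0) : S.R 1 0 0 ∈ _)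
    have h2 := S.w₀_conj_U (S.R_mem_U 1 0 0) h1
    rw [← S.R_zero] at h2
    exact one_ne_zero (S.R_inj h2).1

theorem core_trivial : S.BB.normalCore = ⊥ := by
  refine (Subgroup.eq_bot_iff_forall _).mpr fun g hg => ?_
  have hB : g ∈ S.BB := Subgroup.normalCore_le _ hg
  have hconj : S.w₀ * g * S.w₀ ∈ S.BB := by
    nth_rw 2 [← S.w₀_inv]
    exact Subgroup.normalCore_le _ ((Subgroup.normalCore_normal _).conj_mem g hg S.w₀)
  obtain ⟨t, u, w, v, rfl⟩ := S.mem_B.mp hB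
  obtain ⟨w₁, -, -, -, hmon⟩ := S.exists_act_n₀
  have hd : S.w₀ * S.D v * S.w₀ ∈ S.HH := by
    nth_rw 2 [← S.w₀_inv]
    exact G2.okx.diag_normal_conj hmon (S.D_mem_H v)
  have hU : S.w₀ * S.R t u w * S.w₀ ∈ S.BB := by
    have : S.w₀ * S.R t u w * S.w₀ = S.w₀ * (S.R t u w * S.D v) * S.w₀ * (S.w₀ * S.D v * S.w₀)⁻¹ := by
      have hc : ∀ x : ↥S.Gr, S.w₀ * (S.w₀ * x) = x := fun x => by rw [← mul_assoc, S.w₀_sq, one_mul]
      rw [mul_inv_rev, mul_inv_rev, S.w₀_inv]; simp [mul_assoc, hc]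
    rw [this]
    exact mul_mem hconj (inv_mem (S.H_le_B hd))
  have hR := S.w₀_conj_U (S.R_mem_U t u w) hU
  rw [hR, one_mul] at hg hB ⊢
  -- a torus element in the core centralises the unipotent subgroup
  have hU' : S.D v * S.R 0 0 1 * (S.D v)⁻¹ * (S.R 0 0 1)⁻¹ ∈ S.BB.normalCore := by
    rw [mul_assoc (S.D v), mul_assoc (S.D v)]
    exact mul_mem hg ((Subgroup.normalCore_normal _).conj_mem _ (inv_mem hg) _)
  rw [S.D_conj] at hU'
  obtain ⟨u', w', e⟩ := S.R_inv 0 0 1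
  have hU'' : S.R (S.alpha v * 0) (S.beta v * 0) (↑v * 1) * (S.R 0 0 1)⁻¹ ∈ S.UU :=
    mul_mem (S.R_mem_U _ _ _) (inv_mem (S.R_mem_U _ _ _))
  have hk : S.w₀ * (S.R (S.alpha v * 0) (S.beta v * 0) (↑v * 1) * (S.R 0 0 1)⁻¹) * S.w₀ ∈ S.BB := by
    nth_rw 2 [← S.w₀_inv]
    exact Subgroup.normalCore_le _ ((Subgroup.normalCore_normal _).conj_mem _ hU' S.w₀)
  have h3 := S.R_inj (mul_inv_eq_one.mp (S.w₀_conj_U hU'' hk))
  rw [show v = 1 from Units.ext (by simpa using h3.2.2), map_one]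

/-- The sign of a monomial element. -/
theorem exists_weyl {m : ℕ} (hK : Fintype.card F = 3 ^ (2 * m + 1)) :
    ∃ φ : ↥S.NN →* Multiplicative (ZMod 2), Function.Surjective φ ∧ φ.ker = S.HH.subgroupOf S.NN := by
  classical
  have hnot : ∀ v : Fˣ, S.D v * S.w₀ ∉ S.HH := fun v h => S.w₀_not_mem_B (S.H_le_B (by
    have := mul_mem (inv_mem (S.D_mem_H v)) h
    rwa [inv_mul_cancel_left] at this))
  let f : ↥S.NN → Multiplicative (ZMod 2) := fun g =>
    if (g : ↥S.Gr) ∈ S.HH then 1 else Multiplicative.ofAdd (1 : ZMod 2)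
  have hH : ∀ g : ↥S.NN, (g : ↥S.Gr) ∈ S.HH → f g = 1 := fun g h => if_pos h
  have hW : ∀ g : ↥S.NN, (g : ↥S.Gr) ∉ S.HH → f g = Multiplicative.ofAdd (1 : ZMod 2) := fun g h => if_neg h
  let φ : ↥S.NN →* Multiplicative (ZMod 2) := MonoidHom.mk' f fun a b => by
    obtain ⟨x, hx | hx⟩ := S.mem_N.mp a.2 <;> obtain ⟨y, hy | hy⟩ := S.mem_N.mp b.2
    · rw [hH a (hx ▸ S.D_mem_H x), hH b (hy ▸ S.D_mem_H y),
        hH (a * b) (by rw [Subgroup.coe_mul, hx, hy, ← map_mul]; exact S.D_mem_H _), one_mul]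
    · rw [hH a (hx ▸ S.D_mem_H x), hW b (hy ▸ hnot y),
        hW (a * b) (by rw [Subgroup.coe_mul, hx, hy, ← mul_assoc, ← map_mul]; exact hnot _), one_mul]
    · rw [hW a (hx ▸ hnot x), hH b (hy ▸ S.D_mem_H y),
        hW (a * b) (by rw [Subgroup.coe_mul, hx, hy, mul_assoc, S.w₀_D hK, ← mul_assoc, ← map_mul]; exact hnot _),
        mul_one]
    · rw [hW a (hx ▸ hnot x), hW b (hy ▸ hnot y),
        hH (a * b) (by
          rw [Subgroup.coe_mul, hx, hy, mul_assoc, ← mul_assoc S.w₀, S.w₀_conj_D hK, ← map_mul]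
          exact S.D_mem_H _)]
      decide
  refine ⟨φ, fun z => ?_, ?_⟩
  · have : z = 1 ∨ z = Multiplicative.ofAdd (1 : ZMod 2) := by
      revert z; decide
    rcases this with rfl | rfl
    · exact ⟨1, map_one _⟩
    · exact ⟨⟨S.w₀, S.w₀_mem_N⟩, hW _ (by simpa using hnot 1)⟩
  · ext g
    rw [MonoidHom.mem_ker, Subgroup.mem_subgroupOf]
    refine ⟨fun h => by_contra fun hc => ?_, hH g⟩
    rw [show φ g = f g from rfl, hW g hc] at h
    exact absurd h (by decide)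

end Tw

end Cfsg.Agent.SmallRee
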