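import Cfsg.Agent.Lib.Chev.GraphExcData
import Cfsg.Agent.Lib.Chev.RootCent
import Cfsg.Prelude.Def_LieTwisted
import Mathlib.FieldTheory.Finite.Basic

/-!
The endomorphism defining the small Ree groups and its fixed unipotent elements.
-/

set_option autoImplicit false
set_option maxRecDepth 20000

namespace Cfsg.Agent.SmallRee

open Cfsg.Lie Cfsg.Agent.Chev

variable {F : Type*} [Field F]

/-- A root element inside the group of type G2. -/
def X (r : ℕ) (t : F) : ↥(chevG2.group F) := ⟨G2.okx.toOK.xG r t, G2.okx.toOK.xG_mem_group r t⟩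

theorem coe_X (r : ℕ) (t : F) : ((X r t : ↥(chevG2.group F)) : GL chevG2.Idx F) = G2.okx.toOK.xG r t := rfl

theorem X_add (r : ℕ) (a b : F) : X r a * X r b = X r (a + b) := Subtype.ext (G2.okx.toOK.xG_mul r a b)

theorem X_zero (r : ℕ) : X r (0 : F) = 1 := Subtype.ext (G2.okx.toOK.xG_zero r)

theorem X_inv (r : ℕ) (a : F) : (X r a)⁻¹ = X r (-a) := Subtype.ext (G2.okx.toOK.xG_inv r a)

theorem comm_X {r s : ℕ} (hr : r < chevG2.nroots) (hs : s < chevG2.nroots) (h1 : s ≠ r) (h2 : s ≠ G2.T.neg r)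
    {L : List (ℕ × ℤ × ℕ × ℕ)} (hL : G2.T.terms r s = L) (t u : F) :
    X s u * X r t = X r t * X s u *
      (L.map fun q => X q.1 ((q.2.1 : F) * (-t) ^ q.2.2.1 * u ^ q.2.2.2)).prod := by
  refine Subtype.ext (Units.ext ?_)
  have h : ((L.map fun q => X q.1 ((q.2.1 : F) * (-t) ^ q.2.2.1 * u ^ q.2.2.2)).prod : GL chevG2.Idx F) =
      G2.okx.toOK.wordG (chevG2.commWord F r s t u) := by
    rw [ChevalleyDatum.commWord, G2.okx.toOK.terms_eq hr hs, hL, Subgroup.val_list_prod, OK.wordG, List.map_map,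
      List.map_map]
    rfl
  rw [Subgroup.coe_mul, Subgroup.coe_mul, Subgroup.coe_mul, h, Units.val_mul, Units.val_mul, Units.val_mul,
    OK.coe_wordG]
  exact G2.okx.toOK.comm hr hs h1 (by rwa [G2.okx.toOK.neg_eq hr]) t u

theorem commute_X [CharP F 3] {r s : ℕ} (hr : r < chevG2.nroots) (hs : s < chevG2.nroots)
    (h : XTab.comB G2.T 3 r s = true) (a b : F) : Commute (X r a) (X s b) :=
  Subtype.ext (G2.okx.com_of_comB 3 hr hs h a b).eq

/-- Positive roots, or their images under negation with negated parameters. -/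
def Y (b : Bool) (r : ℕ) (c : F) : ↥(chevG2.group F) := if b then X r c else X (11 - r) (-c)

theorem Y_add (b : Bool) (r : ℕ) (c d : F) : Y b r c * Y b r d = Y b r (c + d) := by
  cases b <;> simp [Y, X_add, neg_add, add_comm]

theorem Y_inv (b : Bool) (r : ℕ) (c : F) : (Y b r c)⁻¹ = Y b r (-c) := by cases b <;> simp [Y, X_inv]

theorem Y_zero (b : Bool) (r : ℕ) : Y b r (0 : F) = 1 := by cases b <;> simp [Y, X_zero]

/-- The tail of a word: the four higher roots. -/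
def Tl (b : Bool) (c₈ c₉ c₁₀ c₁₁ : F) : ↥(chevG2.group F) := Y b 8 c₈ * Y b 9 c₉ * Y b 10 c₁₀ * Y b 11 c₁₁

/-- A word in the order of the definition. -/
def Wd (b : Bool) (p s c₈ c₉ c₁₀ c₁₁ : F) : ↥(chevG2.group F) := Y b 7 p * Y b 6 s * Tl b c₈ c₉ c₁₀ c₁₁

theorem com_pos : ∀ r ∈ [8, 9, 10, 11], ∀ s ∈ [8, 9, 10, 11], XTab.comB G2.T 3 r s = true ∧
    XTab.comB G2.T 3 (11 - r) (11 - s) = true ∧ r < chevG2.nroots ∧ 11 - r < chevG2.nroots := by decide +kernel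

theorem Y_commute [CharP F 3] (b : Bool) {r s : ℕ} (hr : r ∈ [8, 9, 10, 11]) (hs : s ∈ [8, 9, 10, 11]) (c d : F) :
    Commute (Y b r c) (Y b s d) := by
  obtain ⟨h1, h2, h3, h4⟩ := com_pos r hr s hs
  obtain ⟨-, -, h5, h6⟩ := com_pos s hs r hr
  cases b
  · exact commute_X h4 h6 h2 _ _
  · exact commute_X h3 h5 h1 _ _

theorem Tl_mul [CharP F 3] (b : Bool) (a₈ a₉ a₁₀ a₁₁ c₈ c₉ c₁₀ c₁₁ : F) :
    Tl b a₈ a₉ a₁₀ a₁₁ * Tl b c₈ c₉ c₁₀ c₁₁ = Tl b (a₈ + c₈) (a₉ + c₉) (a₁₀ + c₁₀) (a₁₁ + c₁₁) := by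
  have h8 : Commute (Y b 9 a₉ * Y b 10 a₁₀ * Y b 11 a₁₁) (Y b 8 c₈) :=
    ((Y_commute b (by simp) (by simp) _ _).mul_left (Y_commute b (by simp) (by simp) _ _)).mul_left
      (Y_commute b (by simp) (by simp) _ _)
  have h9 : Commute (Y b 10 a₁₀ * Y b 11 a₁₁) (Y b 9 c₉) :=
    (Y_commute b (by simp) (by simp) _ _).mul_left (Y_commute b (by simp) (by simp) _ _)
  have h10 : Commute (Y b 11 a₁₁) (Y b 10 c₁₀) := Y_commute b (by simp) (by simp) _ _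
  calc Tl b a₈ a₉ a₁₀ a₁₁ * Tl b c₈ c₉ c₁₀ c₁₁
      = Y b 8 a₈ * ((Y b 9 a₉ * Y b 10 a₁₀ * Y b 11 a₁₁) * Y b 8 c₈) * (Y b 9 c₉ * Y b 10 c₁₀ * Y b 11 c₁₁) := by
        simp only [Tl, mul_assoc]
    _ = (Y b 8 a₈ * Y b 8 c₈) * Y b 9 a₉ * ((Y b 10 a₁₀ * Y b 11 a₁₁) * Y b 9 c₉) * (Y b 10 c₁₀ * Y b 11 c₁₁) := by
        rw [h8.eq]; simp only [mul_assoc]
    _ = (Y b 8 a₈ * Y b 8 c₈) * (Y b 9 a₉ * Y b 9 c₉) * Y b 10 a₁₀ * (Y b 11 a₁₁ * Y b 10 c₁₀) * Y b 11 c₁₁ := by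
        rw [h9.eq]; simp only [mul_assoc]
    _ = (Y b 8 a₈ * Y b 8 c₈) * (Y b 9 a₉ * Y b 9 c₉) * (Y b 10 a₁₀ * Y b 10 c₁₀) *
        (Y b 11 a₁₁ * Y b 11 c₁₁) := by rw [h10.eq]; simp only [mul_assoc]
    _ = _ := by simp only [Tl, Y_add]

theorem terms76 : G2.T.terms 7 6 = [(8, -1, 1, 1), (9, 1, 2, 1), (10, 1, 3, 1), (11, 1, 3, 2)] := by decide +kernel

theorem terms45 : G2.T.terms 4 5 = [(3, 1, 1, 1), (2, 1, 2, 1), (1, -1, 3, 1), (0, 1, 3, 2)] := by decide +kernel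

theorem quad_congr {a b c d a' b' c' d' : F} (i j k l : ℕ) (g h : ↥(chevG2.group F)) (ha : a = a') (hb : b = b')
    (hc : c = c') (hd : d = d') : g * (h * (X i a * (X j b * (X k c * X l d)))) =
      g * (h * (X i a' * (X j b' * (X k c' * X l d')))) := by subst ha; subst hb; subst hc; subst hd; rfl

theorem swap (b : Bool) (P Q : F) : Y b 6 P * Y b 7 Q =
    Y b 7 Q * Y b 6 P * Tl b (Q * P) (Q ^ 2 * P) (-(Q ^ 3 * P)) (-(Q ^ 3 * P ^ 2)) := by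
  cases b
  · show X 5 (-P) * X 4 (-Q) = X 4 (-Q) * X 5 (-P) * _
    rw [comm_X (r := 4) (s := 5) (by decide +kernel) (by decide +kernel) (by decide) (by decide +kernel) terms45]
    simp only [Tl, Y, List.map_cons, List.map_nil, List.prod_cons, List.prod_nil, mul_one, mul_assoc]
    exact quad_congr _ _ _ _ _ _ (by push_cast; ring) (by push_cast; ring) (by push_cast; ring) (by push_cast; ring)
  · show X 6 P * X 7 Q = X 7 Q * X 6 P * _
    rw [comm_X (r := 7) (s := 6) (by decide +kernel) (by decide +kernel) (by decide) (by decide +kernel) terms76]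
    simp only [Tl, Y, List.map_cons, List.map_nil, List.prod_cons, List.prod_nil, mul_one, mul_assoc]
    exact quad_congr _ _ _ _ _ _ (by push_cast; ring) (by push_cast; ring) (by push_cast; ring) (by push_cast; ring)

/-- The data of the twist. -/
structure Tw (F : Type*) [Field F] where
  /-- the field map -/
  th : F →+* F
  /-- the endomorphism -/
  sg : ↥(chevG2.group F) →* ↥(chevG2.group F)
  th_cube : ∀ x, th (th x) ^ 3 = x
  sg_X : ∀ r < chevG2.nroots, ∀ t : F, sg (X r t) = X (G2.xtab.pi r) (th t ^ G2.xtab.e r)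

theorem exists_tw [CharP F 3] [Fintype F] {m : ℕ} (hK : Fintype.card F = 3 ^ (2 * m + 1)) :
    ∃ S : Tw F, ∀ x : F, S.th x = x ^ 3 ^ m := by
  haveI : Fact (Nat.Prime 3) := ⟨Nat.prime_three⟩
  have hperf : ∀ x : F, ∃ y : F, y ^ 3 = x :=
    fun x => (Finite.injective_iff_surjective.mp (frobenius F 3).injective) x
  obtain ⟨α, hα⟩ := G2.okx.exists_excAut 3 G2.xtab_ok G2.dn_ok G2.wit_ok G2.cow_ok hperf
  refine ⟨⟨iterateFrobenius F 3 m, α.toMonoidHom.comp (G2.okx.toOK.groupMap (iterateFrobenius F 3 m)), fun x => ?_,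
    fun r hr t => ?_⟩, fun x => iterateFrobenius_def 3 m x⟩
  · rw [iterateFrobenius_def, iterateFrobenius_def, ← pow_mul, ← pow_mul]
    conv_rhs => rw [← FiniteField.pow_card x, hK]
    congr 1
    rw [two_mul, pow_succ, pow_add]
    ring
  · refine Subtype.ext (Units.ext ?_)
    refine hα _ r _ hr ?_
    rw [OK.coe_groupMap, coe_X, G2.okx.toOK.mapG_xG]
    rfl

namespace Tw

variable (S : Tw F)

theorem th_inv3 (x : F) : S.th (S.th x ^ 3) = x := by rw [map_pow, S.th_cube]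

theorem tab_ok : ∀ r ∈ [6, 7, 8, 9, 10, 11], G2.xtab.pi r ∈ [6, 7, 8, 9, 10, 11] ∧
    G2.xtab.pi (11 - r) = 11 - G2.xtab.pi r ∧ G2.xtab.e (11 - r) = G2.xtab.e r ∧ Odd (G2.xtab.e r) ∧
    r < chevG2.nroots ∧ 11 - r < chevG2.nroots := by decide +kernel

theorem sg_Y (b : Bool) {r : ℕ} (hr : r ∈ [6, 7, 8, 9, 10, 11]) (c : F) :
    S.sg (Y b r c) = Y b (G2.xtab.pi r) (S.th c ^ G2.xtab.e r) := by
  obtain ⟨-, h1, h2, h3, h4, h5⟩ := tab_ok r hr
  cases b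
  · show S.sg (X (11 - r) (-c)) = X (11 - G2.xtab.pi r) (-(S.th c ^ G2.xtab.e r))
    rw [S.sg_X _ h5, h1, h2, map_neg, h3.neg_pow]
  · exact S.sg_X r h4 c

theorem sg_Wd [CharP F 3] (b : Bool) (p s c₈ c₉ c₁₀ c₁₁ : F) :
    S.sg (Wd b p s c₈ c₉ c₁₀ c₁₁) =
      Wd b (S.th s) (S.th p ^ 3) (S.th s * S.th p ^ 3 + S.th c₁₀) (S.th s ^ 2 * S.th p ^ 3 + S.th c₁₁)
        (-(S.th s ^ 3 * S.th p ^ 3) + S.th c₈ ^ 3) (-(S.th s ^ 3 * (S.th p ^ 3) ^ 2) + S.th c₉ ^ 3) := by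
  have e : ∀ r, ∀ (i k : ℕ), r ∈ [6, 7, 8, 9, 10, 11] → G2.xtab.pi r = i → G2.xtab.e r = k → ∀ c : F,
      S.sg (Y b r c) = Y b i (S.th c ^ k) := fun r i k hr hi hk c => by rw [S.sg_Y b hr, hi, hk]
  have key : Y b 10 (S.th c₈ ^ 3) * Y b 11 (S.th c₉ ^ 3) * Y b 8 (S.th c₁₀ ^ 1) * Y b 9 (S.th c₁₁ ^ 1) =
      Tl b (S.th c₁₀) (S.th c₁₁) (S.th c₈ ^ 3) (S.th c₉ ^ 3) := by
    have h : Commute (Y b 10 (S.th c₈ ^ 3) * Y b 11 (S.th c₉ ^ 3)) (Y b 8 (S.th c₁₀) * Y b 9 (S.th c₁₁)) :=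
      ((Y_commute b (by simp) (by simp) _ _).mul_left (Y_commute b (by simp) (by simp) _ _)).mul_right
        ((Y_commute b (by simp) (by simp) _ _).mul_left (Y_commute b (by simp) (by simp) _ _))
    rw [pow_one, pow_one, mul_assoc, h.eq, Tl]
    simp only [mul_assoc]
  rw [Wd, Tl, map_mul, map_mul, map_mul, map_mul, map_mul,
    e 7 6 3 (by simp) (by decide +kernel) (by decide +kernel), e 6 7 1 (by simp) (by decide +kernel) (by decide +kernel),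
    e 8 10 3 (by simp) (by decide +kernel) (by decide +kernel), e 9 11 3 (by simp) (by decide +kernel) (by decide +kernel),
    e 10 8 1 (by simp) (by decide +kernel) (by decide +kernel), e 11 9 1 (by simp) (by decide +kernel) (by decide +kernel),
    key, pow_one, swap, mul_assoc _ (Tl b _ _ _ _), Tl_mul]
  rfl

/-- The generators. -/
def Rw (b : Bool) (t u v : F) : ↥(chevG2.group F) :=
  Wd b (S.th t) t (S.th u + S.th t * t) (S.th v + S.th t ^ 2 * t) u v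

theorem sg_Rw [CharP F 3] (b : Bool) (t u v : F) : S.sg (S.Rw b t u v) = S.Rw b t u v := by
  rw [Rw, sg_Wd, S.th_cube]
  congr 1
  · ring
  · ring
  · simp only [map_add, map_mul, add_pow_char, mul_pow, S.th_cube]
    ring
  · simp only [map_add, map_mul, map_pow, add_pow_char, mul_pow, ← pow_mul, S.th_cube]
    rw [show 2 * 3 = 3 * 2 from rfl, pow_mul (S.th (S.th t)), S.th_cube]
    ring

end Tw

theorem Wd_inj {p s c₈ c₉ c₁₀ c₁₁ p' s' c₈' c₉' c₁₀' c₁₁' : F} [CharP F 3]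
    (h : Wd true p s c₈ c₉ c₁₀ c₁₁ = Wd true p' s' c₈' c₉' c₁₀' c₁₁') :
    p = p' ∧ s = s' ∧ c₈ = c₈' ∧ c₉ = c₉' ∧ c₁₀ = c₁₀' ∧ c₁₁ = c₁₁' := by
  have conv : ∀ a b d₈ d₉ d₁₀ d₁₁ : F, (Wd true a b d₈ d₉ d₁₀ d₁₁ : ↥(chevG2.group F)) =
      Y true 6 b * Y true 7 a * Tl true (d₈ - a * b) (d₉ - a ^ 2 * b) (d₁₀ + a ^ 3 * b) (d₁₁ + a ^ 3 * b ^ 2) := by
    intro a b d₈ d₉ d₁₀ d₁₁
    rw [Wd, swap, mul_assoc _ (Tl true _ _ _ _), Tl_mul]
    congr 2 <;> ring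
  have hw : ∀ f : ℕ → F, ((Y true 6 (f 6) * Y true 7 (f 7) * Tl true (f 8) (f 9) (f 10) (f 11) :
      ↥(chevG2.group F)) : GL chevG2.Idx F) =
      G2.okx.toOK.wordG ((List.range' 6 6).map fun r => (r, f r)) := by
    intro f
    simp [Tl, Y, OK.wordG, List.range', coe_X, mul_assoc]
  have mk : ∀ a b d₈ d₉ d₁₀ d₁₁ : F, ∃ f : ℕ → F, (∀ r, ¬ (6 ≤ r ∧ r < 12) → f r = 0) ∧
      f 6 = a ∧ f 7 = b ∧ f 8 = d₈ ∧ f 9 = d₉ ∧ f 10 = d₁₀ ∧ f 11 = d₁₁ := fun a b d₈ d₉ d₁₀ d₁₁ =>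
    ⟨fun r => if r = 6 then a else if r = 7 then b else if r = 8 then d₈ else if r = 9 then d₉
        else if r = 10 then d₁₀ else if r = 11 then d₁₁ else 0,
      fun r hr => by simp [show r ≠ 6 by omega, show r ≠ 7 by omega, show r ≠ 8 by omega, show r ≠ 9 by omega,
        show r ≠ 10 by omega, show r ≠ 11 by omega], by simp⟩
  obtain ⟨f, hf0, f6, f7, f8, f9, f10, f11⟩ :=
    mk s p (c₈ - p * s) (c₉ - p ^ 2 * s) (c₁₀ + p ^ 3 * s) (c₁₁ + p ^ 3 * s ^ 2)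
  obtain ⟨g, hg0, g6, g7, g8, g9, g10, g11⟩ :=
    mk s' p' (c₈' - p' * s') (c₉' - p' ^ 2 * s') (c₁₀' + p' ^ 3 * s') (c₁₁' + p' ^ 3 * s' ^ 2)
  rw [conv, conv, ← f8, ← f9, ← f10, ← f11, ← g8, ← g9, ← g10, ← g11, ← f6, ← f7, ← g6, ← g7] at h
  have h' := congrArg Subtype.val h
  rw [hw, hw] at h'
  have hn : chevG2.nroots = 12 := by decide +kernel
  have hh : Tabs.half chevG2 = 6 := by decide +kernel
  have hmem : G2.okx.toOK.wordG ((List.range' 6 6).map fun r => (r, f r)) ∈ G2.okx.K F 6 := by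
    refine list_prod_mem fun x hx => ?_
    simp only [List.map_map, List.mem_map, List.mem_range'_1, Function.comp_apply] at hx
    obtain ⟨r, hr, rfl⟩ := hx
    exact G2.okx.xG_mem_K (G2.okx.isPos_iff_half.mpr ⟨by omega, by omega⟩) hr.1 _
  obtain ⟨_, -, huniq⟩ := G2.okx.exists_unique_K 6 6 (by omega) (by omega) hmem
  have e1 := huniq f ⟨fun r hr => hf0 r (by omega), rfl⟩
  have e2 := huniq g ⟨fun r hr => hg0 r (by omega), h'⟩
  have e := e1.trans e2.symm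
  subst e
  obtain rfl : s = s' := f6.symm.trans g6
  obtain rfl : p = p' := f7.symm.trans g7
  exact ⟨rfl, rfl, sub_left_injective (f8.symm.trans g8), sub_left_injective (f9.symm.trans g9),
    add_right_cancel (f10.symm.trans g10), add_right_cancel (f11.symm.trans g11)⟩

theorem exists_Wd [CharP F 3] {u : ↥(chevG2.group F)} (hu : (u : GL chevG2.Idx F) ∈ chevG2.posUnipotent F) :
    ∃ p s c₈ c₉ c₁₀ c₁₁ : F, u = Wd true p s c₈ c₉ c₁₀ c₁₁ := by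
  have hn : chevG2.nroots = 12 := by decide +kernel
  have hh : Tabs.half chevG2 = 6 := by decide +kernel
  rw [← G2.okx.K_half, hh] at hu
  obtain ⟨f, ⟨-, hf⟩, -⟩ := G2.okx.exists_unique_K 6 6 (by omega) (by omega) hu
  have e : u = Y true 6 (f 6) * Y true 7 (f 7) * Tl true (f 8) (f 9) (f 10) (f 11) := by
    refine Subtype.ext (hf.trans ?_)
    simp [Tl, Y, OK.wordG, List.range', coe_X, mul_assoc]
  rw [swap, mul_assoc _ (Tl true _ _ _ _), Tl_mul] at e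
  exact ⟨_, _, _, _, _, _, e⟩

namespace Tw

variable (S : Tw F)

theorem fixed_pos [CharP F 3] {u : ↥(chevG2.group F)} (hu : (u : GL chevG2.Idx F) ∈ chevG2.posUnipotent F)
    (h : S.sg u = u) : ∃ t x y : F, u = S.Rw true t x y := by
  obtain ⟨p, s, c₈, c₉, c₁₀, c₁₁, rfl⟩ := exists_Wd hu
  rw [sg_Wd] at h
  obtain ⟨h1, h2, h3, h4, -, -⟩ := Wd_inj h
  refine ⟨s, c₁₀, c₁₁, ?_⟩
  rw [Rw, ← h1]
  congr 1
  · rw [← h3, h2, add_comm]
  · rw [← h4, h2, add_comm]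

theorem Rw_inj [CharP F 3] {t u v t' u' v' : F} (h : S.Rw true t u v = S.Rw true t' u' v') :
    t = t' ∧ u = u' ∧ v = v' := by
  obtain ⟨-, h2, -, -, h5, h6⟩ := Wd_inj h
  exact ⟨h2, h5, h6⟩

end Tw

end Cfsg.Agent.SmallRee
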