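import Cfsg.Agent.Lib.SmallRee.Kinds
import Cfsg.Agent.Lib.Classical.SL2

/-!
The number of elements of each order and the exact orders of the torus normalisers.
-/

set_option autoImplicit false
set_option maxRecDepth 20000

namespace Cfsg.Agent.SmallRee

open scoped Pointwise

theorem tight {q r n2 n3 n6 n9 a b c d G : ℕ} (hq : 27 ≤ q) (hr : r < q) (hrr : r * r = 3 * q)
    (hG : G = q ^ 3 * (q - 1) * (q ^ 3 + 1))
    (h2 : q ^ 2 * (q ^ 2 - q + 1) ≤ n2) (h3 : (q ^ 2 - 1) * (q ^ 3 + 1) ≤ n3)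
    (h6 : q ^ 2 * (q - 1) * (q ^ 3 + 1) ≤ n6) (h9 : q ^ 2 * (q - 1) * (q ^ 3 + 1) ≤ n9)
    (ha : q ^ 3 * (q ^ 3 + 1) ≤ 2 * a) (hb : q ^ 3 * (q - 1) * (q ^ 2 - q + 1) ≤ 6 * b)
    (hc : q ^ 3 * (q ^ 2 - 1) * (q + r + 1) ≤ 6 * c) (hd : q ^ 3 * (q ^ 2 - 1) * (q - r + 1) ≤ 6 * d)
    (hsum : 1 + n2 + n3 + n6 + n9 + a * (q - 3) + b * (q - 3) + c * (q - r) + d * (q + r) ≤ G) :
    n2 = q ^ 2 * (q ^ 2 - q + 1) ∧ n3 = (q ^ 2 - 1) * (q ^ 3 + 1) ∧ n6 = q ^ 2 * (q - 1) * (q ^ 3 + 1) ∧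
      n9 = q ^ 2 * (q - 1) * (q ^ 3 + 1) ∧ 2 * a = q ^ 3 * (q ^ 3 + 1) ∧
      6 * b = q ^ 3 * (q - 1) * (q ^ 2 - q + 1) ∧ 6 * c = q ^ 3 * (q ^ 2 - 1) * (q + r + 1) ∧
      6 * d = q ^ 3 * (q ^ 2 - 1) * (q - r + 1) := by
  subst hG
  have e1 : 1 ≤ q := by omega
  have e2 : q ≤ q ^ 2 := Nat.le_self_pow two_ne_zero q
  have e3 : 1 ≤ q ^ 2 := le_trans e1 e2
  zify [e1, e2, e3, hr.le, show 3 ≤ q by omega] at *
  set A := 2 * (a : ℤ) - q ^ 3 * (q ^ 3 + 1) with hA
  set B := 6 * (b : ℤ) - q ^ 3 * (q - 1) * (q ^ 2 - q + 1) with hB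
  set C := 6 * (c : ℤ) - q ^ 3 * (q ^ 2 - 1) * (q + r + 1) with hC
  set D := 6 * (d : ℤ) - q ^ 3 * (q ^ 2 - 1) * (q - r + 1) with hD
  have hA0 : 0 ≤ A := by omega
  have hB0 : 0 ≤ B := by omega
  have hC0 : 0 ≤ C := by omega
  have hD0 : 0 ≤ D := by omega
  have key : 6 * ((n2 : ℤ) - q ^ 2 * (q ^ 2 - q + 1)) + 6 * ((n3 : ℤ) - (q ^ 2 - 1) * (q ^ 3 + 1)) +
      6 * ((n6 : ℤ) - q ^ 2 * (q - 1) * (q ^ 3 + 1)) + 6 * ((n9 : ℤ) - q ^ 2 * (q - 1) * (q ^ 3 + 1)) +
      3 * A * (q - 3) + B * (q - 3) + C * (q - r) + D * (q + r) ≤ 0 := by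
    have hid : 6 * (1 + (q : ℤ) ^ 2 * (q ^ 2 - q + 1) + (q ^ 2 - 1) * (q ^ 3 + 1) +
        q ^ 2 * (q - 1) * (q ^ 3 + 1) + q ^ 2 * (q - 1) * (q ^ 3 + 1)) +
        3 * (q ^ 3 * (q ^ 3 + 1)) * (q - 3) + (q ^ 3 * (q - 1) * (q ^ 2 - q + 1)) * (q - 3) +
        (q ^ 3 * (q ^ 2 - 1) * (q + r + 1)) * (q - r) + (q ^ 3 * (q ^ 2 - 1) * (q - r + 1)) * (q + r) =
        6 * (q ^ 3 * (q - 1) * (q ^ 3 + 1)) := by
      linear_combination -2 * (q : ℤ) ^ 3 * (q ^ 2 - 1) * hrr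
    rw [hA, hB, hC, hD]
    linarith
  have w1 : 0 < (q : ℤ) - 3 := by omega
  have w3 : 0 < (q : ℤ) - r := by omega
  have w4 : 0 < (q : ℤ) + r := by omega
  have p1 := mul_nonneg (mul_nonneg (show (0 : ℤ) ≤ 3 by norm_num) hA0) w1.le
  have p2 := mul_nonneg hB0 w1.le
  have p3 := mul_nonneg hC0 w3.le
  have p4 := mul_nonneg hD0 w4.le
  have z1 : A = 0 := by
    have : 3 * A * (q - 3) = 0 := by linarith
    rcases mul_eq_zero.mp this with h | h <;> omega
  have z2 : B = 0 := (mul_eq_zero.mp (show B * ((q : ℤ) - 3) = 0 by linarith)).resolve_right w1.ne'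
  have z3 : C = 0 := (mul_eq_zero.mp (show C * ((q : ℤ) - r) = 0 by linarith)).resolve_right w3.ne'
  have z4 : D = 0 := (mul_eq_zero.mp (show D * ((q : ℤ) + r) = 0 by linarith)).resolve_right w4.ne'
  refine ⟨by linarith, by linarith, by linarith, by linarith, ?_, ?_, ?_, ?_⟩ <;> linarith

/-- The nine disjoint classes of element orders. -/
def cls (q r : ℕ) : List (ℕ → Prop) :=
  [(· = 1), (· = 2), (· = 3), (· = 6), (· = 9), pk ((q - 1) / 2), pk ((q + 1) / 4), pk (q - r + 1), pk (q + r + 1)]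

theorem sum_card_le {α : Type*} [Finite α] (L : List (α → Prop))
    (h : L.Pairwise fun p p' => ∀ x, p x → p' x → False) :
    (L.map fun p => Nat.card {x : α // p x}).sum ≤ Nat.card α := by
  suffices H : (L.map fun p => Nat.card {x : α // p x}).sum ≤ {x : α | ∃ p ∈ L, p x}.ncard from
    H.trans (Set.ncard_le_card _)
  induction L with
  | nil => simp
  | cons p L ih =>
    rw [List.pairwise_cons] at h
    have hd : Disjoint {x | p x} {x | ∃ p' ∈ L, p' x} :=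
      Set.disjoint_left.mpr fun x hx ⟨p', hp', hx'⟩ => h.1 p' hp' x hx hx'
    have hu : {x | ∃ p' ∈ p :: L, p' x} = {x | p x} ∪ {x | ∃ p' ∈ L, p' x} := by ext x; simp
    rw [hu, Set.ncard_union_eq hd (Set.toFinite _) (Set.toFinite _), List.map_cons, List.sum_cons,
      ← Nat.card_coe_set_eq {x | p x}]
    exact Nat.add_le_add le_rfl (ih h.2)

namespace Tw

variable {F : Type*} [Field F] (S : Tw F) [CharP F 3] [Fintype F] {m : ℕ}

theorem beta_neg_one : S.beta (-1) = 1 := by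
  rw [beta, Units.val_neg, Units.val_one, map_neg, map_one, Odd.neg_one_pow (show Odd 3 by decide),
    div_self (neg_ne_zero.mpr one_ne_zero)]

theorem alpha_neg_one : S.alpha (-1) = -1 := by
  rw [alpha, Units.val_neg, Units.val_one, map_neg, map_one, Odd.neg_one_pow (show Odd 3 by decide)]
  ring

theorem card_cent_inv (hK : Fintype.card F = 3 ^ (2 * m + 1)) :
    Nat.card ↥(Subgroup.centralizer ({S.D (-1)} : Set ↥S.Gr)) = Fintype.card F * (Fintype.card F ^ 2 - 1) := by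
  obtain ⟨e⟩ := S.exists_centralizer_equiv hK
  rw [Nat.card_congr e.toEquiv, Nat.card_prod, Nat.card_congr Multiplicative.toAdd, Nat.card_zmod,
    ← Classical.SL2.card_PSL2_mul]
  have : Fintype.card F % 2 = 1 := Nat.odd_iff.mp (hK ▸ Odd.pow (by decide))
  congr 1
  rw [Nat.gcd_eq_left]
  omega

theorem inv_lower (hK : Fintype.card F = 3 ^ (2 * m + 1)) :
    Fintype.card F ^ 2 * (Fintype.card F ^ 2 - Fintype.card F + 1) ≤ Nat.card {x : ↥S.Gr // orderOf x = 2} := by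
  haveI : Fact (Nat.Prime 2) := ⟨Nat.prime_two⟩
  set a := S.D (-1)
  have ha : orderOf a = 2 := orderOf_eq_prime (by rw [pow_two, ← map_mul, neg_one_mul, neg_neg, map_one])
    (fun e => neg_one_ne_one (F := F) (by simpa using congrArg Units.val (S.D_inj (e.trans (map_one S.D).symm))))
  set C := Subgroup.centralizer ({a} : Set ↥S.Gr)
  have hidx : C.index = Fintype.card F ^ 2 * (Fintype.card F ^ 2 - Fintype.card F + 1) := by
    have h := C.index_mul_card
    rw [S.card_cent_inv hK, S.card_Gr] at h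
    have hq : 1 < Fintype.card F := Fintype.one_lt_card
    refine Nat.eq_of_mul_eq_mul_right ?_ (h.trans ?_)
    · exact Nat.mul_pos (by omega) (Nat.sub_pos_of_lt (Nat.one_lt_pow two_ne_zero hq))
    · generalize Fintype.card F = q at hq
      zify [hq.le, show q ≤ q ^ 2 from Nat.le_self_pow two_ne_zero q, show 1 ≤ q ^ 2 from Nat.one_le_pow _ _ (by omega)]
      ring
  rw [← hidx, Subgroup.index_eq_card]
  refine Nat.card_le_card_of_injective (fun z : ↥S.Gr ⧸ C => (⟨z.out * a * z.out⁻¹, by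
    rw [← MulAut.conj_apply, MulEquiv.orderOf_eq, ha]⟩ : {x : ↥S.Gr // orderOf x = 2})) ?_
  intro z z' h
  have e : z.out * a * z.out⁻¹ = z'.out * a * z'.out⁻¹ := congrArg Subtype.val h
  rw [← z.out_eq', ← z'.out_eq', QuotientGroup.eq, Subgroup.mem_centralizer_singleton_iff]
  calc z.out⁻¹ * z'.out * a = z.out⁻¹ * (z'.out * a * z'.out⁻¹) * z'.out := by simp [mul_assoc]
    _ = _ := by rw [← e]; simp [mul_assoc]

theorem spread {T : Type*} (f : T → ↥S.Gr) (hf : Function.Injective f) {o e : ℕ} (ho : ∀ t, orderOf (f t) = o)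
    (hU : ∀ t, f t ^ e ∈ S.UU) (hne : ∀ t, f t ^ e ≠ 1) :
    (Fintype.card F ^ 3 + 1) * Nat.card T ≤ Nat.card {x : ↥S.Gr // orderOf x = o} := by
  have hidx : S.BB.index = Fintype.card F ^ 3 + 1 := by
    have h := S.BB.index_mul_card
    rw [S.card_B, S.card_Gr, mul_comm (Fintype.card F ^ 3 * (Fintype.card F - 1))] at h
    exact Nat.eq_of_mul_eq_mul_right
      (Nat.mul_pos (pow_pos Fintype.card_pos _) (Nat.sub_pos_of_lt Fintype.one_lt_card)) h
  rw [← hidx, Subgroup.index_eq_card, ← Nat.card_prod]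
  refine Nat.card_le_card_of_injective (fun p : (↥S.Gr ⧸ S.BB) × T => (⟨p.1.out * f p.2 * p.1.out⁻¹, by
    rw [← MulAut.conj_apply, MulEquiv.orderOf_eq, ho]⟩ : {x : ↥S.Gr // orderOf x = o})) ?_
  rintro ⟨z, t⟩ ⟨z', t'⟩ h
  have e1 : z.out * f t * z.out⁻¹ = z'.out * f t' * z'.out⁻¹ := congrArg Subtype.val h
  set w := z.out⁻¹ * z'.out with hw
  have hwt : w⁻¹ * f t * w = f t' := by
    rw [hw]
    calc (z.out⁻¹ * z'.out)⁻¹ * f t * (z.out⁻¹ * z'.out) = z'.out⁻¹ * (z.out * f t * z.out⁻¹) * z'.out := by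
          simp [mul_assoc]
      _ = _ := by rw [e1]; simp [mul_assoc]
  have hwB : w ∈ S.BB := by
    by_contra hc
    refine hne t (S.inter_conj hc (hU t) ?_)
    have : w⁻¹ * f t ^ e * w = f t' ^ e := by
      rw [← hwt]
      nth_rw 2 [← inv_inv w]
      rw [show w⁻¹ * f t * w = w⁻¹ * f t * w⁻¹⁻¹ by rw [inv_inv], conj_pow, inv_inv]
    rw [this]
    exact hU t'
  have hzz : z = z' := by
    rw [← z.out_eq', ← z'.out_eq', QuotientGroup.eq]
    exact hwB
  subst hzz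
  rw [hw, inv_mul_cancel, inv_one, one_mul, mul_one] at hwt
  exact Prod.ext rfl (hf hwt)

theorem three_lower :
    (Fintype.card F ^ 2 - 1) * (Fintype.card F ^ 3 + 1) ≤ Nat.card {x : ↥S.Gr // orderOf x = 3} := by
  classical
  haveI : Fact (Nat.Prime 3) := ⟨Nat.prime_three⟩
  have hcard : Nat.card {p : F × F // ¬ p = (0, 0)} = Fintype.card F ^ 2 - 1 := by
    rw [Nat.card_eq_fintype_card, Fintype.card_subtype_compl, Fintype.card_subtype_eq, Fintype.card_prod, pow_two]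
  rw [← hcard, mul_comm]
  have hne : ∀ p : {p : F × F // ¬ p = (0, 0)}, S.R 0 p.1.1 p.1.2 ≠ 1 := fun p h => by
    rw [← S.R_zero] at h
    obtain ⟨-, h1, h2⟩ := S.R_inj h
    exact p.2 (Prod.ext h1 h2)
  exact S.spread (fun p : {p : F × F // ¬ p = (0, 0)} => S.R 0 p.1.1 p.1.2)
    (fun p p' h => Subtype.ext (Prod.ext (S.R_inj h).2.1 (S.R_inj h).2.2))
    (e := 1) (fun p => orderOf_eq_prime (S.cube_eq_one.mpr rfl) (hne p))
    (fun p => by rw [pow_one]; exact S.R_mem_U _ _ _) (fun p => by rw [pow_one]; exact hne p)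

theorem nine_lower :
    Fintype.card F ^ 2 * (Fintype.card F - 1) * (Fintype.card F ^ 3 + 1) ≤
      Nat.card {x : ↥S.Gr // orderOf x = 9} := by
  classical
  haveI : Fact (Nat.Prime 3) := ⟨Nat.prime_three⟩
  have hcard : Nat.card (Fˣ × F × F) = Fintype.card F ^ 2 * (Fintype.card F - 1) := by
    rw [Nat.card_prod, Nat.card_prod, Nat.card_units, Nat.card_eq_fintype_card]; ring
  rw [← hcard, mul_comm]
  have ho : ∀ p : Fˣ × F × F, orderOf (S.R p.1 p.2.1 p.2.2) = 9 := fun p =>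
    orderOf_eq_prime_pow (p := 3) (n := 1)
      (fun h => p.1.ne_zero (S.cube_eq_one.mp (by simpa using h))) (S.U_nine (S.R_mem_U _ _ _))
  exact S.spread (fun p : Fˣ × F × F => S.R p.1 p.2.1 p.2.2)
    (fun p p' h => Prod.ext (Units.ext (S.R_inj h).1) (Prod.ext (S.R_inj h).2.1 (S.R_inj h).2.2))
    (e := 1) ho (fun p => by rw [pow_one]; exact S.R_mem_U _ _ _)
    (fun p h => by
      rw [pow_one] at h
      have := ho p
      rw [h, orderOf_one] at this
      omega)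

theorem six_lower (hK : Fintype.card F = 3 ^ (2 * m + 1)) :
    Fintype.card F ^ 2 * (Fintype.card F - 1) * (Fintype.card F ^ 3 + 1) ≤
      Nat.card {x : ↥S.Gr // orderOf x = 6} := by
  classical
  have h3 : (3 : F) = 0 := three_zero
  have hcard : Nat.card (F × Fˣ × F) = Fintype.card F ^ 2 * (Fintype.card F - 1) := by
    rw [Nat.card_prod, Nat.card_prod, Nat.card_units, Nat.card_eq_fintype_card]; ring
  rw [← hcard, mul_comm]
  set a := S.D (-1)
  have hDR : ∀ t u w : F, a * S.R t u w = S.R (-t) u (-w) * a := by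
    intro t u w
    have e := S.D_conj (-1) t u w
    rw [S.alpha_neg_one, S.beta_neg_one, one_mul, neg_one_mul, Units.val_neg, Units.val_one, neg_one_mul] at e
    exact mul_inv_eq_iff_eq_mul.mp e
  have haa : a * a = 1 := by rw [← map_mul, neg_one_mul, neg_neg, map_one]
  have ha1 : a ≠ 1 := fun e => neg_one_ne_one (F := F)
    (by simpa using congrArg Units.val (S.D_inj (e.trans (map_one S.D).symm)))
  let x : Fˣ → F → ↥S.Gr := fun u w => S.R 0 u w * a
  have hx2 : ∀ u w, x u w * x u w = S.R 0 (2 * u) 0 := by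
    intro u w
    show S.R 0 u w * a * (S.R 0 u w * a) = _
    rw [mul_assoc, ← mul_assoc a, hDR, mul_assoc (S.R (-0) u (-w)), haa, mul_one, neg_zero, S.R0_mul,
      add_neg_cancel, two_mul]
  have h2 : ∀ u : Fˣ, S.R 0 (2 * (u : F)) 0 ≠ 1 := fun u h => by
    rw [← S.R_zero] at h
    exact u.ne_zero (by linear_combination (u : F) * h3 - (S.R_inj h).2.1)
  have ho : ∀ u w, orderOf (x u w) = 6 := by
    intro u w
    have e6 : x u w ^ 6 = 1 := by
      rw [show 6 = 2 * 3 from rfl, pow_mul, pow_two, hx2]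
      exact S.cube_eq_one.mpr rfl
    have e2 : x u w ^ 2 ≠ 1 := by rw [pow_two, hx2]; exact h2 u
    have e3 : x u w ^ 3 ≠ 1 := by
      rw [pow_succ, pow_two, hx2]
      show S.R 0 (2 * u) 0 * (S.R 0 u w * a) ≠ 1
      rw [← mul_assoc, S.R0_mul]
      intro h
      exact ha1 (by
        have := S.RD_inj (t' := 0) (u' := 0) (w' := 0) (v' := 1) (h.trans (by rw [map_one, mul_one, S.R_zero]))
        show S.D (-1) = 1
        rw [this.2.2.2, map_one])
    have hd := orderOf_dvd_of_pow_eq_one e6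
    have := Nat.le_of_dvd (by norm_num) hd
    interval_cases h : orderOf (x u w)
    · norm_num at hd
    · exact absurd (by rw [orderOf_eq_one_iff.mp h, one_pow]) e2
    · exact absurd (h ▸ pow_orderOf_eq_one _) e2
    · exact absurd (h ▸ pow_orderOf_eq_one _) e3
    · norm_num at hd
    · norm_num at hd
    · rfl
  have hB : ∀ t u w : F, S.R t u w ∈ S.BB := fun t u w => S.U_le_B (S.R_mem_U t u w)
  refine S.spread (fun p : F × Fˣ × F => S.R p.1 0 0 * x p.2.1 p.2.2 * (S.R p.1 0 0)⁻¹) ?_ (e := 2)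
    (fun p => by rw [← MulAut.conj_apply, MulEquiv.orderOf_eq, ho]) ?_ ?_
  · rintro ⟨t, u, w⟩ ⟨t', u', w'⟩ h
    simp only [x] at h
    obtain ⟨u₁, w₁, e⟩ := S.R_inv t 0 0
    obtain ⟨u₂, w₂, e'⟩ := S.R_inv t' 0 0
    have htt : t = t' := by
      have h' := h
      rw [e, e'] at h'
      rw [show S.R t 0 0 * (S.R 0 u w * a) * S.R (-t) u₁ w₁ = S.R t 0 0 * S.R 0 u w * (a * S.R (-t) u₁ w₁) by
          simp [mul_assoc],
        show S.R t' 0 0 * (S.R 0 u' w' * a) * S.R (-t') u₂ w₂ =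
          S.R t' 0 0 * S.R 0 u' w' * (a * S.R (-t') u₂ w₂) by simp [mul_assoc],
        hDR, hDR, ← mul_assoc, ← mul_assoc, S.R_mul, S.R_mul, S.R_mul, S.R_mul] at h'
      have h1 := (S.RD_inj h').1
      linear_combination (t - t') * h3 - h1
    subst htt
    have h1 := mul_left_cancel (mul_right_cancel h)
    obtain ⟨-, r2, r3, -⟩ := S.RD_inj h1
    rw [Units.ext r2, r3]
  · intro p
    rw [conj_pow, pow_two, hx2]
    exact S.conj_U (hB _ _ _) (S.R_mem_U _ _ _)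
  · intro p h
    rw [conj_pow, pow_two, hx2, conj_eq_one_iff] at h
    exact h2 _ h

theorem pk_excl (hm : 1 ≤ m) (hK : Fintype.card F = 3 ^ (2 * m + 1)) (hth : ∀ x, S.th x = x ^ 3 ^ m) {k k' : ℕ}
    (hk : k ∈ oddOrders (Fintype.card F) (3 ^ (m + 1))) (hk' : k' ∈ oddOrders (Fintype.card F) (3 ^ (m + 1)))
    {x : ↥S.Gr} (h : pk k (orderOf x)) (h' : pk k' (orderOf x)) : k = k' := by
  obtain ⟨l, hl, h5, hlo, hlk⟩ := h
  obtain ⟨l', hl', h5', hlo', hlk'⟩ := h'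
  obtain ⟨a1, a2, a3, a4, a5, o1, o2, o3, o4, b1, b2, b3, b4⟩ := arith' (F := F) hm hK
  obtain ⟨-, -, -, kb, kt⟩ := oddOrders_spec hm hK hk
  obtain ⟨-, -, -, kb', kt'⟩ := oddOrders_spec hm hK hk'
  have hz : orderOf (x ^ (orderOf x / l)) = l := orderOf_pow_orderOf_div (orderOf_pos x).ne' hlo
  have hxC : x ∈ Subgroup.centralizer ({x ^ (orderOf x / l)} : Set ↥S.Gr) :=
    Subgroup.mem_centralizer_singleton_iff.mpr (Commute.self_pow x _).eq
  have h0 := orderOf_dvd_natCard (⟨x, hxC⟩ : ↥(Subgroup.centralizer ({x ^ (orderOf x / l)} : Set ↥S.Gr)))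
  rw [← Subgroup.orderOf_coe] at h0
  have hd := hlo'.trans h0
  rw [S.card_cent hm hK hth hl h5 hz kt (hlk.trans kb)] at hd
  refine bigOf_inj a1 a2 a5 (pow_pos (by norm_num) _) b2 hk hk'
    (orders_unique (by omega) ?_ hl' h5' ?_ kt kt' hd (hlk'.trans kb'))
  · rw [hK, ← pow_add, ← pow_succ']; congr 1; omega
  · intro h
    have := (Nat.prime_dvd_prime_iff_eq hl' Nat.prime_three).mp (hl'.dvd_of_dvd_pow (hK ▸ h))
    omega

theorem class_sum (hm : 1 ≤ m) (hK : Fintype.card F = 3 ^ (2 * m + 1)) (hth : ∀ x, S.th x = x ^ 3 ^ m) :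
    Nat.card {x : ↥S.Gr // orderOf x = 1} + Nat.card {x : ↥S.Gr // orderOf x = 2} +
      Nat.card {x : ↥S.Gr // orderOf x = 3} + Nat.card {x : ↥S.Gr // orderOf x = 6} +
      Nat.card {x : ↥S.Gr // orderOf x = 9} +
      Nat.card {x : ↥S.Gr // pk ((Fintype.card F - 1) / 2) (orderOf x)} +
      Nat.card {x : ↥S.Gr // pk ((Fintype.card F + 1) / 4) (orderOf x)} +
      Nat.card {x : ↥S.Gr // pk (Fintype.card F - 3 ^ (m + 1) + 1) (orderOf x)} +
      Nat.card {x : ↥S.Gr // pk (Fintype.card F + 3 ^ (m + 1) + 1) (orderOf x)} ≤ Nat.card ↥S.Gr := by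
  classical
  set q := Fintype.card F
  set r := 3 ^ (m + 1)
  obtain ⟨a1, a2, a3, a4, a5, o1, o2, o3, o4, b1, b2, b3, b4⟩ := arith' (F := F) hm hK
  have hr : 0 < r := pow_pos (by norm_num) _
  have hne : (q - 1) / 2 ≠ (q + 1) / 4 ∧ (q - 1) / 2 ≠ q - r + 1 ∧ (q - 1) / 2 ≠ q + r + 1 ∧
      (q + 1) / 4 ≠ q - r + 1 ∧ (q + 1) / 4 ≠ q + r + 1 ∧ q - r + 1 ≠ q + r + 1 := by omega
  obtain ⟨d1, d2, d3, d4, d5, d6⟩ := hne
  have m1 : (q - 1) / 2 ∈ oddOrders q r := by simp [oddOrders]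
  have m2 : (q + 1) / 4 ∈ oddOrders q r := by simp [oddOrders]
  have m3 : q - r + 1 ∈ oddOrders q r := by simp [oddOrders]
  have m4 : q + r + 1 ∈ oddOrders q r := by simp [oddOrders]
  have hs : ∀ {a b : ℕ}, a ≠ b → ∀ x : ↥S.Gr, orderOf x = a → orderOf x = b → False :=
    fun h _ e e' => h (e.symm.trans e')
  have hb : ∀ {a k : ℕ}, a ∈ [1, 2, 3, 6, 9] → ∀ x : ↥S.Gr, orderOf x = a → pk k (orderOf x) → False := by
    rintro a k ha x e ⟨l, hl, h5, hlo, -⟩
    rw [e] at hlo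
    simp only [List.mem_cons, List.not_mem_nil, or_false] at ha
    rcases ha with rfl | rfl | rfl | rfl | rfl <;>
      (have := Nat.le_of_dvd (by norm_num) hlo; interval_cases l <;> norm_num at *)
  have hx : ∀ {k k' : ℕ}, k ∈ oddOrders q r → k' ∈ oddOrders q r → k ≠ k' →
      ∀ x : ↥S.Gr, pk k (orderOf x) → pk k' (orderOf x) → False :=
    fun hk hk' h x e e' => h (S.pk_excl hm hK hth hk hk' e e')
  have hpw : ((cls q r).map fun p => fun x : ↥S.Gr => p (orderOf x)).Pairwise fun p p' => ∀ x, p x → p' x → False := by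
    simp only [cls, List.map_cons, List.map_nil, List.pairwise_cons, List.mem_cons, List.not_mem_nil, or_false,
      forall_eq_or_imp, forall_eq, List.Pairwise.nil, and_true, false_implies, implies_true]
    exact ⟨⟨hs (by omega), hs (by omega), hs (by omega), hs (by omega), hb (by simp), hb (by simp), hb (by simp), hb (by simp)⟩,
      ⟨hs (by omega), hs (by omega), hs (by omega), hb (by simp), hb (by simp), hb (by simp), hb (by simp)⟩,
      ⟨hs (by omega), hs (by omega), hb (by simp), hb (by simp), hb (by simp), hb (by simp)⟩,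
      ⟨hs (by omega), hb (by simp), hb (by simp), hb (by simp), hb (by simp)⟩,
      ⟨hb (by simp), hb (by simp), hb (by simp), hb (by simp)⟩,
      ⟨hx m1 m2 d1, hx m1 m3 d2, hx m1 m4 d3⟩, ⟨hx m2 m3 d4, hx m2 m4 d5⟩, hx m3 m4 d6⟩
  have h := sum_card_le _ hpw
  simp only [cls, List.map_cons, List.map_nil, List.sum_cons, List.sum_nil, add_zero] at h
  omega

/-- The exact normaliser orders and the numbers of elements of orders two, three, six and nine. -/
theorem main_counts (hm : 1 ≤ m) (hK : Fintype.card F = 3 ^ (2 * m + 1)) (hth : ∀ x, S.th x = x ^ 3 ^ m) :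
    Nat.card {x : ↥S.Gr // orderOf x = 2} =
        Fintype.card F ^ 2 * (Fintype.card F ^ 2 - Fintype.card F + 1) ∧
      Nat.card {x : ↥S.Gr // orderOf x = 3} = (Fintype.card F ^ 2 - 1) * (Fintype.card F ^ 3 + 1) ∧
      Nat.card {x : ↥S.Gr // orderOf x = 6} =
        Fintype.card F ^ 2 * (Fintype.card F - 1) * (Fintype.card F ^ 3 + 1) ∧
      Nat.card {x : ↥S.Gr // orderOf x = 9} =
        Fintype.card F ^ 2 * (Fintype.card F - 1) * (Fintype.card F ^ 3 + 1) ∧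
      ∀ k ∈ oddOrders (Fintype.card F) (3 ^ (m + 1)), ∀ A : Subgroup ↥S.Gr, IsCyclic ↥A → Nat.card ↥A = k →
        Nat.card ↥(Subgroup.normalizer (A : Set ↥S.Gr)) =
          cOf (Fintype.card F) k * bigOf (Fintype.card F) (3 ^ (m + 1)) k := by
  obtain ⟨a1, a2, a3, a4, a5, o1, o2, o3, o4, b1, b2, b3, b4⟩ := arith' (F := F) hm hK
  have hrr : 3 ^ (m + 1) * 3 ^ (m + 1) = 3 * Fintype.card F := by
    rw [hK, ← pow_add, ← pow_succ']; congr 1; omega
  have hr : 0 < 3 ^ (m + 1) := pow_pos (by norm_num) _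
  set q := Fintype.card F with hq
  set r := 3 ^ (m + 1) with hrdef
  have hG := S.card_Gr
  rw [← hq] at hG
  have w1 : bigOf q r ((q - 1) / 2) = q - 1 := if_pos rfl
  have w2 : bigOf q r ((q + 1) / 4) = q + 1 := by rw [bigOf, if_neg (by omega), if_pos rfl]
  have w3 : bigOf q r (q - r + 1) = q - r + 1 := by rw [bigOf, if_neg (by omega), if_neg (by omega)]
  have w4 : bigOf q r (q + r + 1) = q + r + 1 := by rw [bigOf, if_neg (by omega), if_neg (by omega)]
  have v1 : dOf q ((q - 1) / 2) = 2 := if_pos rfl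
  have v2 : dOf q ((q + 1) / 4) = 4 := by rw [dOf, if_neg (by omega), if_pos rfl]
  have v3 : dOf q (q - r + 1) = 1 := by rw [dOf, if_neg (by omega), if_neg (by omega)]
  have v4 : dOf q (q + r + 1) = 1 := by rw [dOf, if_neg (by omega), if_neg (by omega)]
  have m1 : (q - 1) / 2 ∈ oddOrders q r := by simp [oddOrders]
  have m2 : (q + 1) / 4 ∈ oddOrders q r := by simp [oddOrders]
  have m3 : q - r + 1 ∈ oddOrders q r := by simp [oddOrders]
  have m4 : q + r + 1 ∈ oddOrders q r := by simp [oddOrders]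
  -- the data of one kind
  have hkind : ∀ k ∈ oddOrders q r, ∀ A : Subgroup ↥S.Gr, IsCyclic ↥A → Nat.card ↥A = k →
      Nat.card {x : ↥S.Gr // pk k (orderOf x)} =
          (Subgroup.normalizer (A : Set ↥S.Gr)).index * (bigOf q r k - dOf q k) ∧
        Nat.card ↥S.Gr ≤ (Subgroup.normalizer (A : Set ↥S.Gr)).index * (cOf q k * bigOf q r k) := by
    intro k hk A hA hAk
    refine ⟨?_, ?_⟩
    · rw [S.kind_count hm hK hth hk hA hAk (pk k) (fun n h => h)]
      have := (S.torus_counts hm hK hth hk hA hAk).1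
      rw [← hq, ← hrdef] at this
      rw [show Nat.card {c : ↥(Subgroup.centralizer (A : Set ↥S.Gr)) // pk k (orderOf c)} = bigOf q r k - dOf q k by omega]
    · rw [← Subgroup.index_mul_card (Subgroup.normalizer (A : Set ↥S.Gr))]
      exact Nat.mul_le_mul_left _ (S.norm_le hm hK hth hk hA hAk)
  obtain ⟨A1, hA1, hk1, -⟩ := S.exists_kind hm hK hth m1
  obtain ⟨A2, hA2, hk2, -⟩ := S.exists_kind hm hK hth m2
  obtain ⟨A3, hA3, hk3, -⟩ := S.exists_kind hm hK hth m3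
  obtain ⟨A4, hA4, hk4, -⟩ := S.exists_kind hm hK hth m4
  obtain ⟨c1, l1⟩ := hkind _ m1 A1 hA1 hk1
  obtain ⟨c2, l2⟩ := hkind _ m2 A2 hA2 hk2
  obtain ⟨c3, l3⟩ := hkind _ m3 A3 hA3 hk3
  obtain ⟨c4, l4⟩ := hkind _ m4 A4 hA4 hk4
  have u1 : cOf q ((q - 1) / 2) = 2 := if_pos rfl
  have u2 : cOf q ((q + 1) / 4) = 6 := if_neg (by omega)
  have u3 : cOf q (q - r + 1) = 6 := if_neg (by omega)
  have u4 : cOf q (q + r + 1) = 6 := if_neg (by omega)
  rw [w1, v1] at c1; rw [w2, v2] at c2; rw [w3, v3] at c3; rw [w4, v4] at c4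
  rw [w1, u1, hG] at l1; rw [w2, u2, hG] at l2; rw [w3, u3, hG] at l3; rw [w4, u4, hG] at l4
  have hone : Nat.card {x : ↥S.Gr // orderOf x = 1} = 1 := by
    haveI : Unique {x : ↥S.Gr // orderOf x = 1} :=
      { default := ⟨1, orderOf_one⟩
        uniq := fun w => Subtype.ext (orderOf_eq_one_iff.mp w.2) }
    exact Nat.card_unique
  have hsum := S.class_sum hm hK hth
  rw [← hq, ← hrdef, hone, c1, c2, c3, c4, show q - 1 - 2 = q - 3 by omega, show q + 1 - 4 = q - 3 by omega,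
    show q - r + 1 - 1 = q - r by omega, show q + r + 1 - 1 = q + r by omega, hG] at hsum
  have hlift : ∀ {T c D I : ℕ}, 0 < D → q ^ 3 * (q - 1) * (q ^ 3 + 1) = T * D →
      q ^ 3 * (q - 1) * (q ^ 3 + 1) ≤ I * (c * D) → T ≤ c * I := by
    intro T c D I hD hT hle
    rw [hT, ← mul_assoc, mul_comm I c] at hle
    exact Nat.le_of_mul_le_mul_right hle hD
  have t1 : q ^ 3 * (q - 1) * (q ^ 3 + 1) = q ^ 3 * (q ^ 3 + 1) * (q - 1) := by ring
  have hqq : q ≤ q ^ 2 := Nat.le_self_pow two_ne_zero q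
  have t2 : q ^ 3 * (q - 1) * (q ^ 3 + 1) = q ^ 3 * (q - 1) * (q ^ 2 - q + 1) * (q + 1) := by
    zify [show 1 ≤ q by omega, hqq]; ring
  have hq1 : 1 ≤ q ^ 2 := by omega
  have hrz : (r : ℤ) * r = 3 * q := by exact_mod_cast hrr
  have t3 : q ^ 3 * (q - 1) * (q ^ 3 + 1) = q ^ 3 * (q ^ 2 - 1) * (q + r + 1) * (q - r + 1) := by
    zify [show 1 ≤ q by omega, hq1, show r ≤ q by omega]
    linear_combination (q : ℤ) ^ 3 * (q ^ 2 - 1) * hrz
  have t4 : q ^ 3 * (q - 1) * (q ^ 3 + 1) = q ^ 3 * (q ^ 2 - 1) * (q - r + 1) * (q + r + 1) := by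
    rw [t3]; ring
  obtain ⟨n2, n3, n6, n9, e1, e2, e3, e4⟩ := tight (by omega) (by omega) hrr rfl (S.inv_lower hK) S.three_lower
    (S.six_lower hK) S.nine_lower (hlift (by omega) t1 l1) (hlift (by omega) t2 l2) (hlift (by omega) t3 l3)
    (hlift (by omega) t4 l4) hsum
  refine ⟨n2, n3, n6, n9, fun k hk A hA hAk => ?_⟩
  obtain ⟨-, -, k1, -, kt⟩ := oddOrders_spec hm hK hk
  have hfin : ∀ {T : ℕ} (B : Subgroup ↥S.Gr), cOf q k * (Subgroup.normalizer (B : Set ↥S.Gr)).index = T →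
      q ^ 3 * (q - 1) * (q ^ 3 + 1) = T * bigOf q r k → IsCyclic ↥B → Nat.card ↥B = k →
      Nat.card ↥(Subgroup.normalizer (A : Set ↥S.Gr)) = cOf q k * bigOf q r k := by
    intro T B hB hT hBc hBk
    obtain ⟨g, hg⟩ := S.cyclic_conj hm hK hth hk dvd_rfl hBc hA hBk hAk
    have h2 : Nat.card ↥(Subgroup.normalizer (A : Set ↥S.Gr)) = Nat.card ↥(Subgroup.normalizer (B : Set ↥S.Gr)) := by
      rw [hg, ← Subgroup.map_equiv_normalizer_eq, Subgroup.card_map_of_injective (MulAut.conj g).injective]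
    rw [h2]
    have h := Subgroup.index_mul_card (Subgroup.normalizer (B : Set ↥S.Gr))
    rw [hG, hT, ← hB] at h
    have hi : 0 < (Subgroup.normalizer (B : Set ↥S.Gr)).index := Nat.pos_of_ne_zero Subgroup.index_ne_zero_of_finite
    refine Nat.eq_of_mul_eq_mul_left hi (h.trans ?_)
    ring
  simp only [oddOrders, List.mem_cons, List.not_mem_nil, or_false] at hk
  rcases hk with rfl | rfl | rfl | rfl
  · exact hfin A1 (u1 ▸ e1) (by rw [w1]; exact t1) hA1 hk1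
  · exact hfin A2 (u2 ▸ e2) (by rw [w2]; exact t2) hA2 hk2
  · exact hfin A3 (u3 ▸ e3) (by rw [w3]; exact t3) hA3 hk3
  · exact hfin A4 (u4 ▸ e4) (by rw [w4]; exact t4) hA4 hk4

end Tw

end Cfsg.Agent.SmallRee
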