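import Cfsg.Agent.Lib.SmallRee.Group

/-!
The small Ree group inside the general linear group, with its Borel subgroup, torus and normal form.
-/

set_option autoImplicit false
set_option maxRecDepth 20000

namespace Cfsg.Agent.SmallRee

open Cfsg.Lie Cfsg.Agent.Chev

variable {F : Type*} [Field F]

theorem exists_setup {K : Type*} [Field K] [Fintype K] {m : ℕ} (hK : Fintype.card K = 3 ^ (2 * m + 1)) :
    ∃ _ : CharP K 3, ∃ S : Tw K, ∀ x : K, S.th x = x ^ 3 ^ m := by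
  haveI : CharP K 3 := by
    obtain ⟨p, hp⟩ := CharP.exists K
    obtain ⟨n, hprime, hc⟩ := FiniteField.card K p
    have hdvd : p ∣ 3 := by
      have h1 : p ∣ 3 ^ (2 * m + 1) := hK ▸ hc ▸ dvd_pow_self p n.pos.ne'
      exact hprime.dvd_of_dvd_pow h1
    rcases (Nat.dvd_prime Nat.prime_three).mp hdvd with h | h
    · exact absurd h hprime.one_lt.ne'
    · subst h; exact hp
  exact ⟨inferInstance, exists_tw hK⟩

namespace Tw

variable (S : Tw F)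

/-- The fixed group, as matrices. -/
def Gr : Subgroup (GL chevG2.Idx F) := S.Fx.map (chevG2.group F).subtype

theorem mem_Gr {g : GL chevG2.Idx F} :
    g ∈ S.Gr ↔ ∃ h : ↥(chevG2.group F), S.sg h = h ∧ (h : GL chevG2.Idx F) = g := Iff.rfl

theorem mem_Gr' {h : ↥(chevG2.group F)} : (h : GL chevG2.Idx F) ∈ S.Gr ↔ S.sg h = h :=
  ⟨fun ⟨_, hk, e⟩ => (Subtype.ext e : _ = h) ▸ hk, fun e => ⟨h, e, rfl⟩⟩

theorem coe_Rw {e : ℕ} (he : ∀ x : F, S.th x = x ^ e) (b : Bool) (t u v : F) :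
    ((S.Rw b t u v : ↥(chevG2.group F)) : GL chevG2.Idx F) =
      G2.okx.toOK.wordG (if b then reeWordU e t u v else reeWordV e t u v) := by
  have hn : ∀ r ∈ [6, 7, 8, 9, 10, 11], chevG2.negIdx.getD r 0 = 11 - r := by decide +kernel
  have h1 : S.th t * t = t ^ (e + 1) := by rw [he, pow_succ]
  have h2 : S.th t ^ 2 * t = t ^ (2 * e + 1) := by rw [he, ← pow_mul, ← pow_succ, mul_comm 2 e]
  cases b
  · simp only [Rw, Wd, Tl, Y, Bool.false_eq_true, if_false, OK.wordG, reeWordV, reeWordU, ChevalleyDatum.negWord,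
      g2a, g2b, g2ab, g2aab, g2aaab, g2aaabb, List.map_cons, List.map_nil, List.prod_cons, List.prod_nil, mul_one,
      Subgroup.coe_mul, coe_X, h1, h2, mul_assoc]
    rw [hn 7 (by simp), hn 6 (by simp), hn 8 (by simp), hn 9 (by simp), hn 10 (by simp), hn 11 (by simp), ← he,
      ← he, ← he, add_comm (S.th u), add_comm (S.th v)]
  · simp only [Rw, Wd, Tl, Y, if_true, OK.wordG, reeWordU,
      g2a, g2b, g2ab, g2aab, g2aaab, g2aaabb, List.map_cons, List.map_nil, List.prod_cons, List.prod_nil, mul_one,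
      Subgroup.coe_mul, coe_X, h1, h2, mul_assoc]
    rw [← he, ← he, ← he, add_comm (S.th u), add_comm (S.th v)]

theorem Gr_eq [CharP F 3] [Fintype F] {m : ℕ} (hK : Fintype.card F = 3 ^ (2 * m + 1))
    (hth : ∀ x : F, S.th x = x ^ 3 ^ m) : S.Gr = twistedG2 F (3 ^ m) := by
  rw [Gr, S.Fx_eq hK, G1, MonoidHom.map_closure]
  show _ = Subgroup.closure _
  congr 1
  ext g
  constructor
  · rintro ⟨h, ⟨b, t, u, v, rfl⟩, rfl⟩
    refine ⟨_, ⟨t, u, v, ?_⟩, (congrArg Units.val (S.coe_Rw hth b t u v)).trans (G2.okx.toOK.coe_wordG _)⟩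
    cases b
    · exact Or.inr rfl
    · exact Or.inl rfl
  · rintro ⟨w, ⟨t, u, v, rfl | rfl⟩, hg⟩
    · exact ⟨_, ⟨true, t, u, v, rfl⟩, Units.ext (((congrArg Units.val (S.coe_Rw hth true t u v)).trans
        (G2.okx.toOK.coe_wordG _)).trans hg.symm)⟩
    · exact ⟨_, ⟨false, t, u, v, rfl⟩, Units.ext (((congrArg Units.val (S.coe_Rw hth false t u v)).trans
        (G2.okx.toOK.coe_wordG _)).trans hg.symm)⟩

variable [CharP F 3]

/-- The unipotent element. -/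
def R (t u w : F) : ↥S.Gr := ⟨_, S.mem_Gr'.mpr (S.sg_Rw true t u w)⟩

theorem coe_R (t u w : F) : (S.R t u w : GL chevG2.Idx F) = ((S.Rw true t u w : ↥(chevG2.group F)) : GL _ F) := rfl

/-- The torus. -/
def D : Fˣ →* ↥S.Gr where
  toFun v := ⟨_, S.mem_Gr'.mpr (S.sg_Ht v)⟩
  map_one' := Subtype.ext (by
    show ((S.Ht 1 : ↥(chevG2.group F)) : GL chevG2.Idx F) = 1
    rw [map_one]; rfl)
  map_mul' v w := Subtype.ext (by
    show ((S.Ht (v * w) : ↥(chevG2.group F)) : GL chevG2.Idx F) = _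
    rw [map_mul]; rfl)

theorem coe_D (v : Fˣ) : (S.D v : GL chevG2.Idx F) = ((S.Ht v : ↥(chevG2.group F)) : GL _ F) := rfl

/-- The monomial involution. -/
def w₀ : ↥S.Gr := ⟨_, S.mem_Gr'.mpr (S.G1_le_Fx S.n₀_mem)⟩

theorem coe_w₀ : (S.w₀ : GL chevG2.Idx F) = ((S.n₀ : ↥(chevG2.group F)) : GL _ F) := rfl

/-- The Borel subgroup. -/
def BB : Subgroup ↥S.Gr := (chevG2.borelSubgroup F).subgroupOf S.Gr

/-- The unipotent subgroup. -/
def UU : Subgroup ↥S.Gr := (chevG2.posUnipotent F).subgroupOf S.Gr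

/-- The diagonal subgroup. -/
def HH : Subgroup ↥S.Gr := (chevG2.diagonalSubgroup F).subgroupOf S.Gr

/-- The monomial subgroup. -/
def NN : Subgroup ↥S.Gr := (chevG2.monomialSubgroup F).subgroupOf S.Gr

theorem exists_lift (g : ↥S.Gr) : ∃ h : ↥(chevG2.group F), S.sg h = h ∧ (h : GL chevG2.Idx F) = (g : GL _ F) :=
  S.mem_Gr.mp g.2

theorem R_mul (t u w t' u' w' : F) : S.R t u w * S.R t' u' w' =
    S.R (t + t') (u + u' - S.th t' ^ 3 * t) (w + w' - S.th t' ^ 3 * t ^ 2 - t' * u + t' * t * S.th t' ^ 3) :=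
  Subtype.ext (congrArg (fun z : ↥(chevG2.group F) => (z : GL chevG2.Idx F)) (S.Rw_mul t u w t' u' w'))

theorem R_zero : S.R 0 0 0 = 1 := Subtype.ext (by rw [coe_R, S.Rw_zero]; rfl)

theorem R_inv (t u w : F) : ∃ u' w' : F, (S.R t u w)⁻¹ = S.R (-t) u' w' := by
  obtain ⟨t', u', w', e, rfl⟩ := S.Rw_inv t u w
  exact ⟨u', w', Subtype.ext (congrArg (fun z : ↥(chevG2.group F) => (z : GL chevG2.Idx F)) e)⟩

theorem R_inj {t u w t' u' w' : F} (h : S.R t u w = S.R t' u' w') : t = t' ∧ u = u' ∧ w = w' :=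
  S.Rw_inj (Subtype.ext (congrArg (fun z : ↥S.Gr => (z : GL chevG2.Idx F)) h))

theorem D_conj (v : Fˣ) (t u w : F) :
    S.D v * S.R t u w * (S.D v)⁻¹ = S.R (S.alpha v * t) (S.beta v * u) ((v : F) * w) :=
  Subtype.ext (congrArg (fun z : ↥(chevG2.group F) => (z : GL chevG2.Idx F)) (S.Ht_conj_Rw v t u w))

theorem w₀_sq : S.w₀ * S.w₀ = 1 := Subtype.ext (congrArg (fun z : ↥(chevG2.group F) => (z : GL chevG2.Idx F)) S.n₀_sq)

theorem w₀_inv : S.w₀⁻¹ = S.w₀ := inv_eq_of_mul_eq_one_right S.w₀_sq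

theorem R_mem_U (t u w : F) : S.R t u w ∈ S.UU := coe_Wd_mem_pos _ _ _ _ _ _

theorem D_mem_H (v : Fˣ) : S.D v ∈ S.HH := tor_mem (S.th_ne v) v.ne_zero

theorem mem_U {g : ↥S.Gr} : g ∈ S.UU ↔ ∃ t u w : F, g = S.R t u w := by
  refine ⟨fun hg => ?_, fun ⟨t, u, w, e⟩ => e ▸ S.R_mem_U t u w⟩
  obtain ⟨h, hh, e⟩ := S.exists_lift g
  obtain ⟨t, u, w, e'⟩ := S.fixed_pos (u := h) (by rw [e]; exact hg) hh
  exact ⟨t, u, w, Subtype.ext (by rw [← e, e']; rfl)⟩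

theorem U_le_B : S.UU ≤ S.BB := fun _ h => Subgroup.mem_sup_left (show _ ∈ chevG2.posUnipotent F from h)

theorem H_le_B : S.HH ≤ S.BB := fun _ h => Subgroup.mem_sup_right (show _ ∈ chevG2.diagonalSubgroup F from h)

theorem H_le_N : S.HH ≤ S.NN := fun g h =>
  (inf_le_right : chevG2.borelSubgroup F ⊓ chevG2.monomialSubgroup F ≤ chevG2.monomialSubgroup F)
    ((G2.okx.toOK.borel_inf_monomial (F := F)).symm ▸ (show (g : GL chevG2.Idx F) ∈ chevG2.diagonalSubgroup F from h))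

theorem B_inf_N : S.BB ⊓ S.NN = S.HH := by
  rw [BB, NN, HH, Subgroup.subgroupOf, Subgroup.subgroupOf, ← Subgroup.comap_inf, G2.okx.toOK.borel_inf_monomial]
  rfl

theorem U_inf_H {g : ↥S.Gr} (h1 : g ∈ S.UU) (h2 : g ∈ S.HH) : g = 1 :=
  Subtype.ext (Subgroup.mem_bot.mp (G2.okx.toOK.pos_inf_diag (F := F) ▸ Subgroup.mem_inf.mpr ⟨h1, h2⟩))

theorem w₀_mem_N : S.w₀ ∈ S.NN := by
  obtain ⟨w, -, -, -, h⟩ := S.exists_act_n₀
  exact h

theorem w₀_not_mem_B : S.w₀ ∉ S.BB := S.n₀_not_borel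

theorem w₀_conj_U {g : ↥S.Gr} (hg : g ∈ S.UU) (h : S.w₀ * g * S.w₀ ∈ S.BB) : g = 1 := by
  have h1 : ((S.w₀ * g * S.w₀ : ↥S.Gr) : GL chevG2.Idx F) ∈ chevG2.negUnipotent F := by
    nth_rw 2 [← S.w₀_inv]
    exact S.n₀_conj_pos hg
  have h2 : S.w₀ * g * S.w₀ = 1 :=
    Subtype.ext (Subgroup.mem_bot.mp (G2.okx.toOK.borel_inf_neg (F := F) ▸ Subgroup.mem_inf.mpr ⟨h, h1⟩))
  calc g = S.w₀ * (S.w₀ * g * S.w₀) * S.w₀ := by
        simp only [← mul_assoc, S.w₀_sq, one_mul]; rw [mul_assoc, S.w₀_sq, mul_one]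
    _ = 1 := by rw [h2, mul_one, S.w₀_sq]

theorem mem_B [Finite F] {g : ↥S.Gr} : g ∈ S.BB ↔ ∃ (t u w : F) (v : Fˣ), g = S.R t u w * S.D v := by
  refine ⟨fun hg => ?_, fun ⟨t, u, w, v, e⟩ => e ▸ mul_mem (S.U_le_B (S.R_mem_U t u w)) (S.H_le_B (S.D_mem_H v))⟩
  obtain ⟨h, hh, e⟩ := S.exists_lift g
  obtain ⟨t, u, w, v, e'⟩ := S.fixed_borel (g := h) (by rw [e]; exact hg) hh
  exact ⟨t, u, w, v, Subtype.ext (by rw [← e, e']; rfl)⟩

theorem mem_H [Finite F] {g : ↥S.Gr} : g ∈ S.HH ↔ ∃ v : Fˣ, g = S.D v := by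
  refine ⟨fun hg => ?_, fun ⟨v, e⟩ => e ▸ S.D_mem_H v⟩
  obtain ⟨h, hh, e⟩ := S.exists_lift g
  obtain ⟨v, e'⟩ := S.fixed_diag (g := h) (by rw [e]; exact hg) hh
  exact ⟨v, Subtype.ext (by rw [← e, e']; rfl)⟩

theorem D_inj [Finite F] : Function.Injective S.D := fun _ _ h =>
  S.Ht_inj (Subtype.ext (congrArg (fun z : ↥S.Gr => (z : GL chevG2.Idx F)) h))

theorem RD_inj [Finite F] {t u w t' u' w' : F} {v v' : Fˣ} (h : S.R t u w * S.D v = S.R t' u' w' * S.D v') :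
    t = t' ∧ u = u' ∧ w = w' ∧ v = v' := by
  have e : (S.R t' u' w')⁻¹ * S.R t u w = S.D v' * (S.D v)⁻¹ := by
    rw [eq_mul_inv_iff_mul_eq, mul_assoc, h, inv_mul_cancel_left]
  have h1 := S.U_inf_H (mul_mem (inv_mem (S.R_mem_U t' u' w')) (S.R_mem_U t u w))
    (e ▸ mul_mem (S.D_mem_H v') (inv_mem (S.D_mem_H v)))
  have h2 : S.R t u w = S.R t' u' w' := (inv_mul_eq_one.mp h1).symm
  obtain ⟨r1, r2, r3⟩ := S.R_inj h2
  rw [h2, mul_right_inj] at h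
  exact ⟨r1, r2, r3, S.D_inj h⟩

theorem cases [Finite F] (g : ↥S.Gr) : g ∈ S.BB ∨
    ∃ (t u w : F) (v : Fˣ) (t' u' w' : F), g = S.R t u w * S.D v * S.w₀ * S.R t' u' w' := by
  obtain ⟨h, hh, e⟩ := S.exists_lift g
  rcases S.fixed_cases hh with ⟨t, u, w, v, e'⟩ | ⟨t, u, w, v, t', u', w', e'⟩
  · exact Or.inl (S.mem_B.mpr ⟨t, u, w, v, Subtype.ext (by rw [← e, e']; rfl)⟩)
  · exact Or.inr ⟨t, u, w, v, t', u', w', Subtype.ext (by rw [← e, e']; rfl)⟩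

theorem big_not_mem_B {a c : ↥S.Gr} (ha : a ∈ S.BB) (hc : c ∈ S.BB) : a * S.w₀ * c ∉ S.BB := by
  intro h
  have := mul_mem (mul_mem (inv_mem ha) h) (inv_mem hc)
  rw [mul_assoc a, inv_mul_cancel_left, mul_inv_cancel_right] at this
  exact S.w₀_not_mem_B this

theorem big_inj {b b' x x' : ↥S.Gr} (hb : b ∈ S.BB) (hb' : b' ∈ S.BB) (hx : x ∈ S.UU) (hx' : x' ∈ S.UU)
    (h : b * S.w₀ * x = b' * S.w₀ * x') : b = b' ∧ x = x' := by
  have e : b'⁻¹ * b = S.w₀ * (x' * x⁻¹) * S.w₀ := by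
    calc b'⁻¹ * b = b'⁻¹ * (b * S.w₀ * x) * x⁻¹ * S.w₀ := by
          simp only [mul_assoc, mul_inv_cancel_left, S.w₀_sq, mul_one]
      _ = _ := by rw [h]; simp only [mul_assoc, inv_mul_cancel_left]
  have h1 := S.w₀_conj_U (mul_mem hx' (inv_mem hx)) (e ▸ mul_mem (inv_mem hb') hb)
  rw [h1, mul_one, S.w₀_sq] at e
  exact ⟨(inv_mul_eq_one.mp e).symm, (mul_inv_eq_one.mp h1).symm⟩

section Counting

variable [Fintype F]

/-- The parameters of the two cells. -/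
def param : ((F × F × F) × Fˣ) ⊕ ((F × F × F) × Fˣ × (F × F × F)) → ↥S.Gr
  | .inl (r, v) => S.R r.1 r.2.1 r.2.2 * S.D v
  | .inr (r, v, r') => S.R r.1 r.2.1 r.2.2 * S.D v * S.w₀ * S.R r'.1 r'.2.1 r'.2.2

theorem param_bij : Function.Bijective S.param := by
  constructor
  · have hB : ∀ (r : F × F × F) (v : Fˣ), S.R r.1 r.2.1 r.2.2 * S.D v ∈ S.BB := fun r v =>
      S.mem_B.mpr ⟨_, _, _, _, rfl⟩
    rintro (⟨⟨t, u, w⟩, v⟩ | ⟨⟨t, u, w⟩, v, ⟨t', u', w'⟩⟩) (⟨⟨a, b, c⟩, d⟩ | ⟨⟨a, b, c⟩, d, ⟨a', b', c'⟩⟩) h <;>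
      simp only [param] at h
    · obtain ⟨rfl, rfl, rfl, rfl⟩ := S.RD_inj h; rfl
    · exact absurd (h ▸ hB (t, u, w) v) (S.big_not_mem_B (hB (a, b, c) d) (S.U_le_B (S.R_mem_U _ _ _)))
    · exact absurd (h.symm ▸ hB (a, b, c) d) (S.big_not_mem_B (hB (t, u, w) v) (S.U_le_B (S.R_mem_U _ _ _)))
    · obtain ⟨h1, h2⟩ := S.big_inj (hB (t, u, w) v) (hB (a, b, c) d) (S.R_mem_U _ _ _) (S.R_mem_U _ _ _) h
      obtain ⟨rfl, rfl, rfl, rfl⟩ := S.RD_inj h1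
      obtain ⟨rfl, rfl, rfl⟩ := S.R_inj h2
      rfl
  · intro g
    rcases S.cases g with h | ⟨t, u, w, v, t', u', w', rfl⟩
    · obtain ⟨t, u, w, v, rfl⟩ := S.mem_B.mp h
      exact ⟨.inl ((t, u, w), v), rfl⟩
    · exact ⟨.inr ((t, u, w), v, (t', u', w')), rfl⟩

theorem card_Gr : Nat.card ↥S.Gr =
    Fintype.card F ^ 3 * (Fintype.card F - 1) * (Fintype.card F ^ 3 + 1) := by
  classical
  rw [← Nat.card_eq_of_bijective _ S.param_bij]
  simp only [Nat.card_eq_fintype_card, Fintype.card_sum, Fintype.card_prod, Fintype.card_units]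
  ring

theorem card_U : Nat.card ↥S.UU = Fintype.card F ^ 3 := by
  classical
  let f : F × F × F → ↥S.UU := fun r => ⟨_, S.R_mem_U r.1 r.2.1 r.2.2⟩
  have hf : Function.Bijective f := by
    refine ⟨fun r r' h => ?_, fun ⟨g, hg⟩ => ?_⟩
    · obtain ⟨h1, h2, h3⟩ := S.R_inj (congrArg Subtype.val h)
      exact Prod.ext h1 (Prod.ext h2 h3)
    · obtain ⟨t, u, w, rfl⟩ := S.mem_U.mp hg
      exact ⟨(t, u, w), rfl⟩
  rw [← Nat.card_eq_of_bijective f hf, Nat.card_eq_fintype_card, Fintype.card_prod, Fintype.card_prod]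
  ring

/-- The torus, as an equivalence. -/
noncomputable def Dequiv : Fˣ ≃* ↥S.HH :=
  MulEquiv.ofBijective (S.D.codRestrict S.HH S.D_mem_H)
    ⟨fun _ _ h => S.D_inj (congrArg Subtype.val h), fun ⟨g, hg⟩ => by
      obtain ⟨v, rfl⟩ := S.mem_H.mp hg
      exact ⟨v, rfl⟩⟩

end Counting

theorem w₀_conj_D [Fintype F] {m : ℕ} (hK : Fintype.card F = 3 ^ (2 * m + 1)) (v : Fˣ) :
    S.w₀ * S.D v * S.w₀ = S.D v⁻¹ :=
  Subtype.ext (congrArg (fun z : ↥(chevG2.group F) => (z : GL chevG2.Idx F)) (S.n₀_conj_Ht hK v))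

theorem w₀_D [Fintype F] {m : ℕ} (hK : Fintype.card F = 3 ^ (2 * m + 1)) (v : Fˣ) :
    S.w₀ * S.D v = S.D v⁻¹ * S.w₀ := by
  rw [← S.w₀_conj_D hK, mul_assoc, S.w₀_sq, mul_one]

theorem mem_N [Finite F] {g : ↥S.Gr} : g ∈ S.NN ↔ ∃ v : Fˣ, g = S.D v ∨ g = S.D v * S.w₀ := by
  constructor
  · intro hg
    rcases S.cases g with h | ⟨t, u, w, v, t', u', w', e⟩
    · obtain ⟨v, e⟩ := S.mem_H.mp (S.B_inf_N ▸ Subgroup.mem_inf.mpr ⟨h, hg⟩)
      exact ⟨v, Or.inl e⟩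
    · obtain ⟨w₁, hw₁, hA, hneg, hmon⟩ := S.exists_act_n₀
      set b := S.R t u w * S.D v with hb
      set x := S.R t' u' w'
      set n0 := ((S.n₀ : ↥(chevG2.group F)) : GL chevG2.Idx F) with hn0
      have hbB : (b : GL chevG2.Idx F) ∈ chevG2.borelSubgroup F :=
        (mul_mem (S.U_le_B (S.R_mem_U t u w)) (S.H_le_B (S.D_mem_H v)) :)
      have he : (g : GL chevG2.Idx F) = (b : GL chevG2.Idx F) * n0 * (x : GL chevG2.Idx F) := by rw [e]; rfl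
      -- compare with the trivial decomposition of a monomial element
      obtain ⟨hd, -⟩ := G2.okx.bruhat_unique (F := F) (b := 1) (u := 1) (n := (g : GL chevG2.Idx F)) (Subgroup.one_mem _) hbB hg hmon (Subgroup.one_mem _)
        (u' := (x : GL chevG2.Idx F)) (by rw [S.um_n₀]; exact S.R_mem_U t' u' w')
        (by rw [one_mul, mul_one]; exact he)
      have hd' : (g * S.w₀ : ↥S.Gr) ∈ S.HH := by
        have h1 := inv_mem hd
        rw [mul_inv_rev, inv_inv] at h1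
        have h2 := G2.okx.diag_normal_conj hmon h1
        show ((g : GL chevG2.Idx F) * n0) ∈ chevG2.diagonalSubgroup F
        have h3 : n0⁻¹ = n0 := congrArg (fun z : ↥S.Gr => (z : GL chevG2.Idx F)) S.w₀_inv
        rw [h3] at h2
        have h4 : n0 * n0 = 1 := congrArg (fun z : ↥S.Gr => (z : GL chevG2.Idx F)) S.w₀_sq
        rwa [← mul_assoc, h4, one_mul] at h2
      obtain ⟨c, hc⟩ := S.mem_H.mp hd'
      exact ⟨c, Or.inr (by rw [← hc, mul_assoc, S.w₀_sq, mul_one])⟩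
  · rintro ⟨v, rfl | rfl⟩
    · exact S.H_le_N (S.D_mem_H v)
    · exact mul_mem (S.H_le_N (S.D_mem_H v)) S.w₀_mem_N

end Tw

end Cfsg.Agent.SmallRee
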