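import Cfsg.Agent.Lib.SmallRee.Reg
import Cfsg.Agent.Lib.SmallRee.Model
import Cfsg.Agent.Lib.Chev.Fixed
import Mathlib.FieldTheory.Finite.Extension
import Mathlib.GroupTheory.Sylow

/-!
The small Ree group inside the group of type G2 over the extension of degree six: elements of prime order at least
five are conjugate to regular elements of the split torus.
-/

set_option autoImplicit false
set_option maxRecDepth 20000

namespace Cfsg.Agent.SmallRee

open Cfsg.Lie Cfsg.Agent.Chev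

variable {F : Type*} [Field F] {E : Type*} [Field E]

theorem group_top (H : Subgroup ↥(chevG2.group E)) (h : ∀ r < chevG2.nroots, ∀ t : E, X r t ∈ H) : H = ⊤ := by
  refine eq_top_iff.mpr fun g _ => ?_
  have h1 : chevG2.group E ≤ H.map (chevG2.group E).subtype := G2.okx.toOK.group_le fun r hr t =>
    ⟨_, h r hr t, rfl⟩
  obtain ⟨g', hg', e⟩ := h1 g.2
  exact (Subtype.ext e : g' = g) ▸ hg'

theorem coe_dg_entries (v : Eˣ × Eˣ) :
    (((dg v : ↥(chevG2.group E)) : GL chevG2.Idx E) : Matrix chevG2.Idx chevG2.Idx E) =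
      Matrix.diagonal (Sum.elim (fun _ => (1 : E)) fun s : Fin chevG2.nroots => (val s.val v : E)) := by
  have hl : (v.1 : E) ^ 2 * (v.2 : E) ≠ 0 := mul_ne_zero (pow_ne_zero _ v.1.ne_zero) v.2.ne_zero
  have hm : (v.1 : E) ^ 3 * (v.2 : E) ^ 2 ≠ 0 :=
    mul_ne_zero (pow_ne_zero _ v.1.ne_zero) (pow_ne_zero _ v.2.ne_zero)
  show ((tor ((v.1 : E) ^ 2 * (v.2 : E)) ((v.1 : E) ^ 3 * (v.2 : E) ^ 2) : ↥(chevG2.group E)) :
    GL chevG2.Idx E).val = _
  rw [coe_tor, G2.okx.toOK.coe_torG fun i _ => cpar_ne hl hm i]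
  congr 1
  funext a
  rcases a with a | s
  · rfl
  · simp only [Sum.elim_inr, prod_two, cpar, if_true, one_ne_zero, if_false]
    obtain ⟨h1, h2⟩ := cA_cr ⟨s.val, nroots_eq ▸ s.isLt⟩
    rw [val, h1, h2, Units.val_mul, Units.val_zpow_eq_zpow_val, Units.val_zpow_eq_zpow_val, mul_zpow, mul_zpow,
      ← zpow_natCast, ← zpow_natCast, ← zpow_natCast, ← zpow_mul, ← zpow_mul, ← zpow_mul, zpow_add₀ v.1.ne_zero,
      zpow_add₀ v.2.ne_zero]
    push_cast
    ac_rfl

/-- Root values of conjugate torus elements agree as sets, apart from one. -/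
theorem spectrum {v v' : Eˣ × Eˣ} {n : ↥(chevG2.group E)} (h : n * dg v * n⁻¹ = dg v') {r : ℕ}
    (hr : r < chevG2.nroots) (hne : val r v ≠ 1) : ∃ s < chevG2.nroots, val s v' = val r v := by
  set N : Matrix chevG2.Idx chevG2.Idx E := ((n : GL chevG2.Idx E) : Matrix chevG2.Idx chevG2.Idx E)
  have e1 : n * dg v = dg v' * n := mul_inv_eq_iff_eq_mul.mp h
  have e : N * Matrix.diagonal (Sum.elim (fun _ => (1 : E)) fun s : Fin chevG2.nroots => (val s.val v : E)) =
      Matrix.diagonal (Sum.elim (fun _ => (1 : E)) fun s : Fin chevG2.nroots => (val s.val v' : E)) * N := by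
    rw [← coe_dg_entries, ← coe_dg_entries]
    exact congrArg (fun z : ↥(chevG2.group E) => ((z : GL chevG2.Idx E) : Matrix chevG2.Idx chevG2.Idx E)) e1
  obtain ⟨i, hi⟩ : ∃ i, N i (Sum.inr ⟨r, hr⟩) ≠ 0 := by
    by_contra hc
    push Not at hc
    have h2 := congrFun (congrFun (Units.inv_mul (n : GL chevG2.Idx E)) (Sum.inr ⟨r, hr⟩)) (Sum.inr ⟨r, hr⟩)
    rw [Matrix.mul_apply, Matrix.one_apply_eq, Finset.sum_eq_zero (fun c _ => by
      show _ * N c _ = 0
      rw [hc c, mul_zero])] at h2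
    exact zero_ne_one h2
  have h3 := congrFun (congrFun e i) (Sum.inr ⟨r, hr⟩)
  rw [Matrix.mul_diagonal, Matrix.diagonal_mul, Sum.elim_inr, mul_comm] at h3
  have h4 := mul_right_cancel₀ hi h3
  rcases i with i | s
  · exact absurd (Units.ext h4) hne
  · exact ⟨s.val, s.isLt, Units.ext h4.symm⟩

theorem short_long : ∀ r : Fin 12, G2.xtab.pi r.val < 12 ∧ (G2.xtab.e r.val = 3 ∨ G2.xtab.e r.val = 1) ∧
    G2.xtab.pi (G2.xtab.pi r.val) = r.val ∧ G2.xtab.e r.val * G2.xtab.e (G2.xtab.pi r.val) = 3 := by decide +kernel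

/-- For every root another one generates all roots modulo it, with small coefficients. -/
theorem mod_root_cert : ∀ r : Fin 12, ∃ b : Fin 12, ∀ s : Fin 12,
    ∃ k ∈ (if G2.xtab.e r.val = 1 then [-3, -2, -1, 0, 1, 2, (3 : ℤ)] else [-2, -1, 0, 1, (2 : ℤ)]),
    ∃ i ∈ [-3, -2, -1, 0, 1, 2, (3 : ℤ)],
      (cr s.val).1 = i * (cr r.val).1 + k * (cr b.val).1 ∧ (cr s.val).2 = i * (cr r.val).2 + k * (cr b.val).2 := by
  decide +kernel

/-- With a long root in the kernel all six small powers occur. -/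
theorem long_cert : ∀ r : Fin 12, G2.xtab.e r.val = 1 → ∃ b : Fin 12, (∀ k ∈ [-3, -2, -1, 1, 2, (3 : ℤ)],
    ∃ s : Fin 12, ∃ i ∈ [-3, -2, -1, 0, 1, 2, (3 : ℤ)],
      (cr s.val).1 = i * (cr r.val).1 + k * (cr b.val).1 ∧ (cr s.val).2 = i * (cr r.val).2 + k * (cr b.val).2) ∧
    ∀ s : Fin 12, ∃ k ∈ [-3, -2, -1, 0, 1, 2, (3 : ℤ)], ∃ i ∈ [-3, -2, -1, 0, 1, 2, (3 : ℤ)],
      (cr s.val).1 = i * (cr r.val).1 + k * (cr b.val).1 ∧ (cr s.val).2 = i * (cr r.val).2 + k * (cr b.val).2 := by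
  decide +kernel

theorem val_comb {s r b : ℕ} {i k : ℤ} (h1 : (cr s).1 = i * (cr r).1 + k * (cr b).1)
    (h2 : (cr s).2 = i * (cr r).2 + k * (cr b).2) (v : Eˣ × Eˣ) : val s v = val r v ^ i * val b v ^ k := by
  simp only [val, h1, h2, zpow_add, mul_zpow, ← zpow_mul, mul_comm _ i, mul_comm _ k]
  ac_rfl

theorem val_pow (r : ℕ) (v : Eˣ × Eˣ) (n : ℕ) : val r (v ^ n) = val r v ^ n := by
  induction n with
  | zero => simp [val_one]
  | succ n ih => rw [pow_succ, pow_succ, val_mul, ih]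

/-- A long and a short root kernel give different spectra. -/
theorem not_long_short {v v' : Eˣ × Eˣ} {l : ℕ} (hl : l.Prime) (h7 : 7 ≤ l) (hv : v ^ l = 1) (hv1 : v ≠ 1)
    {n : ↥(chevG2.group E)} (h : n * dg v * n⁻¹ = dg v') {r r' : ℕ} (hr : r < 12) (hr' : r' < 12)
    (he : G2.xtab.e r = 1) (he' : G2.xtab.e r' = 3) (h1 : val r v = 1) (h1' : val r' v' = 1) : False := by
  classical
  haveI : Fact l.Prime := ⟨hl⟩
  obtain ⟨b, hb, hall⟩ := long_cert ⟨r, hr⟩ he
  obtain ⟨b', hb'⟩ := mod_root_cert ⟨r', hr'⟩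
  simp only [he', show (3 : ℕ) ≠ 1 by decide, if_false] at hb'
  set ζ := val b.val v
  have hζl : ζ ^ l = 1 := by rw [← val_pow, hv, val_one]
  have hζ1 : ζ ≠ 1 := by
    intro hc
    refine hv1 ?_
    have key : ∀ s : Fin 12, val s.val v = 1 := fun s => by
      obtain ⟨k, -, i, -, g1, g2⟩ := hall s
      rw [val_comb g1 g2, show val r v = 1 from h1, show val b.val v = 1 from hc, one_zpow, one_zpow, one_mul]
    have k7 := key 7
    have k6 := key 6
    rw [show ((7 : Fin 12) : ℕ) = 7 from rfl, val_seven] at k7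
    rw [show ((6 : Fin 12) : ℕ) = 6 from rfl, val_six] at k6
    exact Prod.ext k7 k6
  have ho : orderOf ζ = l := orderOf_eq_prime hζl hζ1
  let A : Finset Eˣ := [-3, -2, -1, 1, 2, (3 : ℤ)].toFinset.image (ζ ^ ·)
  let η := val b'.val v'
  let B : Finset Eˣ := [-2, -1, 0, 1, (2 : ℤ)].toFinset.image (η ^ ·)
  have hA : A.card = 6 := by
    rw [Finset.card_image_of_injOn]
    · rfl
    · intro a ha c hc hac
      simp only [List.coe_toFinset, List.mem_cons, List.not_mem_nil, or_false, Set.mem_setOf_eq] at ha hc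
      have hd : (l : ℤ) ∣ a - c := by
        rw [← ho, orderOf_dvd_iff_zpow_eq_one, zpow_sub, show ζ ^ a = ζ ^ c from hac, mul_inv_cancel]
      refine sub_eq_zero.mp (Int.eq_zero_of_abs_lt_dvd hd ?_)
      rcases ha with rfl | rfl | rfl | rfl | rfl | rfl <;> rcases hc with rfl | rfl | rfl | rfl | rfl | rfl <;>
        norm_num <;> omega
  have hsub : A ⊆ B := by
    intro x hx
    simp only [A, Finset.mem_image, List.mem_toFinset] at hx
    obtain ⟨k, hk, rfl⟩ := hx
    obtain ⟨s, i, -, e1, e2⟩ := hb k hk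
    have es : val s.val v = ζ ^ k := by rw [val_comb e1 e2, h1, one_zpow, one_mul]
    have hne : val s.val v ≠ 1 := by
      rw [es]
      intro hc
      have hd : (l : ℤ) ∣ k := by rw [← ho, orderOf_dvd_iff_zpow_eq_one]; exact hc
      have hk0 : k = 0 := by
        refine Int.eq_zero_of_abs_lt_dvd hd ?_
        simp only [List.mem_cons, List.not_mem_nil, or_false] at hk
        rcases hk with rfl | rfl | rfl | rfl | rfl | rfl <;> norm_num <;> omega
      subst hk0
      simp at hk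
    obtain ⟨s', hs', e'⟩ := spectrum h (nroots_eq.symm ▸ s.isLt) hne
    obtain ⟨k', hk', i', -, g1, g2⟩ := hb' ⟨s', nroots_eq ▸ hs'⟩
    simp only [B, Finset.mem_image, List.mem_toFinset]
    refine ⟨k', hk', ?_⟩
    rw [← es, ← e', val_comb g1 g2, show val r' v' = 1 from h1', one_zpow, one_mul]
  have := Finset.card_le_card hsub
  have hB : B.card ≤ 5 := Finset.card_image_le.trans (le_of_eq rfl)
  omega

namespace Tw

variable (S : Tw F) [CharP F 3] [Fintype F]

/-- The Frobenius-twisted setting over the big field. -/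
structure Big (E : Type*) [Field E] where
  /-- the parameter -/
  m : ℕ
  card_F : Fintype.card F = 3 ^ (2 * m + 1)
  th_eq : ∀ x, S.th x = x ^ 3 ^ m
  /-- the embedding -/
  f : F →+* E
  /-- the endomorphism -/
  sE : ↥(chevG2.group E) →* ↥(chevG2.group E)
  sE_X : ∀ r < chevG2.nroots, ∀ t : E, sE (X r t) = X (G2.xtab.pi r) ((t ^ 3 ^ m) ^ G2.xtab.e r)
  finE : Finite E
  card_E : Nat.card E = Fintype.card F ^ 6

theorem exists_big {m : ℕ} (hK : Fintype.card F = 3 ^ (2 * m + 1)) (hth : ∀ x, S.th x = x ^ 3 ^ m) :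
    ∃ (E : Type) (_ : Field E) (_ : CharP E 3), Nonempty (S.Big E) := by
  haveI : Fact (Nat.Prime 3) := ⟨Nat.prime_three⟩
  let E := FiniteField.Extension F 3 6
  haveI : CharP E 3 := charP_of_injective_algebraMap (algebraMap F E).injective 3
  haveI : Fintype E := Fintype.ofFinite E
  have hperf : ∀ x : E, ∃ y : E, y ^ 3 = x :=
    fun x => (Finite.injective_iff_surjective.mp (frobenius E 3).injective) x
  obtain ⟨α, hα⟩ := G2.okx.exists_excAut 3 G2.xtab_ok G2.dn_ok G2.wit_ok G2.cow_ok hperf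
  refine ⟨E, inferInstance, inferInstance, ⟨{
    m := m
    card_F := hK
    th_eq := hth
    f := algebraMap F E
    sE := α.toMonoidHom.comp (G2.okx.toOK.groupMap (iterateFrobenius E 3 m))
    finE := inferInstance
    sE_X := fun r hr t => ?_
    card_E := ?_ }⟩⟩
  · refine Subtype.ext (Units.ext ?_)
    refine hα _ r _ hr ?_
    rw [OK.coe_groupMap, coe_X, G2.okx.toOK.mapG_xG, iterateFrobenius_def]
    rfl
  · rw [FiniteField.natCard_extension, Nat.card_eq_fintype_card]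

namespace Big

variable {S} (B : S.Big E)

/-- The inclusion. -/
noncomputable def inc : ↥(chevG2.group F) →* ↥(chevG2.group E) := G2.okx.toOK.groupMap B.f

theorem inc_injective : Function.Injective B.inc := fun a b h =>
  Subtype.ext (mapG_injective B.f chevG2 (congrArg (fun z : ↥(chevG2.group E) => (z : GL chevG2.Idx E)) h))

theorem inc_X (r : ℕ) (t : F) : B.inc (X r t) = X r (B.f t) :=
  Subtype.ext (G2.okx.toOK.mapG_xG B.f r t)

theorem sE_inc (y : ↥(chevG2.group F)) : B.sE (B.inc y) = B.inc (S.sg y) := by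
  have h : (B.sE.comp B.inc).eqLocus (B.inc.comp S.sg) = ⊤ := group_top _ fun r hr t => by
    show B.sE (B.inc (X r t)) = B.inc (S.sg (X r t))
    rw [B.inc_X, B.sE_X r hr, S.sg_X r hr, B.inc_X, B.th_eq, map_pow, map_pow]
  exact (h.symm ▸ Subgroup.mem_top y : y ∈ (B.sE.comp B.inc).eqLocus (B.inc.comp S.sg))

/-- The map of torus parameters. -/
def tw (v : Eˣ × Eˣ) : Eˣ × Eˣ := (v.2 ^ 3 ^ B.m, v.1 ^ (3 * 3 ^ B.m))

theorem sE_N {r : ℕ} (hr : r < chevG2.nroots) (t : E) :
    B.sE (N r t) = N (G2.xtab.pi r) ((t ^ 3 ^ B.m) ^ G2.xtab.e r) := by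
  obtain ⟨h1, h2, h3, h4⟩ := root_ok ⟨r, nroots_eq ▸ hr⟩
  simp only at h1 h2 h3 h4
  rw [N_eq hr rfl, N_eq h1 rfl, map_mul, map_mul, B.sE_X r hr, B.sE_X _ (G2.okx.toOK.neg_lt hr), h2, h3,
    Odd.neg_pow (Odd.pow (by decide)), inv_pow, h4.neg_pow, inv_pow]

theorem sE_H {r : ℕ} (hr : r < chevG2.nroots) (t : E) :
    B.sE (H r t) = H (G2.xtab.pi r) ((t ^ 3 ^ B.m) ^ G2.xtab.e r) := by
  obtain ⟨-, -, -, h4⟩ := root_ok ⟨r, nroots_eq ▸ hr⟩
  rw [H_eq, H_eq, map_mul, B.sE_N hr, B.sE_N hr, (Odd.pow (by decide : Odd 3)).neg_one_pow, h4.neg_one_pow]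

theorem sE_dg (v : Eˣ × Eˣ) : B.sE (dg v) = dg (B.tw v) := by
  have hmem : ((B.sE (dg v) : ↥(chevG2.group E)) : GL chevG2.Idx E) ∈ chevG2.diagonalSubgroup E := by
    have hl : (v.1 : E) ^ 2 * (v.2 : E) ≠ 0 := mul_ne_zero (pow_ne_zero _ v.1.ne_zero) v.2.ne_zero
    have hm : (v.1 : E) ^ 3 * (v.2 : E) ^ 2 ≠ 0 :=
      mul_ne_zero (pow_ne_zero _ v.1.ne_zero) (pow_ne_zero _ v.2.ne_zero)
    have h1 : G2.xtab.pi 7 = 6 ∧ G2.xtab.pi 6 = 7 := by decide +kernel
    show ((B.sE (tor _ _) : ↥(chevG2.group E)) : GL chevG2.Idx E) ∈ _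
    rw [tor_eq_H hl hm, map_mul, B.sE_H (by decide +kernel), B.sE_H (by decide +kernel), h1.1, h1.2,
      H_tor (r := 6) (A := 0) (B := 1) (by decide +kernel) (pow_ne_zero _ (pow_ne_zero _ hl)) (by decide +kernel)
        (by decide +kernel),
      H_tor (r := 7) (A := 1) (B := 0) (by decide +kernel) (pow_ne_zero _ (pow_ne_zero _ hm)) (by decide +kernel)
        (by decide +kernel), Subgroup.coe_mul]
    exact mul_mem (tor_mem (zpow_ne_zero _ (pow_ne_zero _ (pow_ne_zero _ hl)))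
      (zpow_ne_zero _ (pow_ne_zero _ (pow_ne_zero _ hl))))
      (tor_mem (zpow_ne_zero _ (pow_ne_zero _ (pow_ne_zero _ hm)))
      (zpow_ne_zero _ (pow_ne_zero _ (pow_ne_zero _ hm))))
  obtain ⟨v', hv'⟩ := exists_dg hmem
  rw [hv']
  have key : ∀ r (hr : r < chevG2.nroots) (s k : ℕ), G2.xtab.pi r = s → G2.xtab.e r = k → s < chevG2.nroots →
      val s v' = (val r v ^ 3 ^ B.m) ^ k := by
    intro r hr s k hs hk hsn
    have e := congrArg B.sE (dg_conj v hr (1 : E))
    rw [map_mul, map_mul, map_inv, B.sE_X r hr, B.sE_X r hr, hv', hs, hk, one_pow, one_pow, mul_one,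
      dg_conj v' hsn, mul_one] at e
    exact Units.ext ((xG_param hsn e).trans (by simp))
  have k7 := key 7 (by decide +kernel) 6 3 (by decide +kernel) (by decide +kernel) (by decide +kernel)
  have k6 := key 6 (by decide +kernel) 7 1 (by decide +kernel) (by decide +kernel) (by decide +kernel)
  rw [val_six, val_seven, ← pow_mul, mul_comm] at k7
  rw [val_seven, val_six, pow_one] at k6
  exact congrArg dg (Prod.ext k6 k7)

/-- The Frobenius map of the small field. -/
noncomputable def frob [CharP E 3] : E →+* E := iterateFrobenius E 3 (2 * B.m + 1)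

theorem sE_sE [CharP E 3] (h : ↥(chevG2.group E)) :
    B.sE (B.sE h) = G2.okx.toOK.groupMap B.frob h := by
  have e : (B.sE.comp B.sE).eqLocus (G2.okx.toOK.groupMap B.frob) = ⊤ := group_top _ fun r hr t => by
    obtain ⟨h1, -, h3, h4⟩ := short_long ⟨r, nroots_eq ▸ hr⟩
    simp only at h1 h3 h4
    show B.sE (B.sE (X r t)) = G2.okx.toOK.groupMap B.frob (X r t)
    rw [B.sE_X r hr, B.sE_X _ (nroots_eq.symm ▸ h1), h3]
    refine Subtype.ext ?_
    rw [OK.coe_groupMap, coe_X, coe_X, G2.okx.toOK.mapG_xG]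
    congr 1
    show _ = iterateFrobenius E 3 (2 * B.m + 1) t
    rw [iterateFrobenius_def, ← pow_mul, ← pow_mul, ← pow_mul]
    congr 1
    calc 3 ^ B.m * (G2.xtab.e r * (3 ^ B.m * G2.xtab.e (G2.xtab.pi r)))
        = 3 ^ B.m * 3 ^ B.m * (G2.xtab.e r * G2.xtab.e (G2.xtab.pi r)) := by ring
      _ = _ := by rw [h4, ← pow_add, ← pow_succ, two_mul]
  exact (e.symm ▸ Subgroup.mem_top h : h ∈ (B.sE.comp B.sE).eqLocus (G2.okx.toOK.groupMap B.frob))

theorem frob_fixed [CharP E 3] {x : E} (hx : B.frob x = x) : ∃ y, B.f y = x := by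
  classical
  haveI := B.finE
  haveI : Fintype E := Fintype.ofFinite E
  set q := Fintype.card F
  have hfr : ∀ z : E, B.frob z = z ^ q := fun z => by
    show iterateFrobenius E 3 (2 * B.m + 1) z = z ^ Fintype.card F
    rw [iterateFrobenius_def, B.card_F]
  have hfix : ∀ y : F, B.frob (B.f y) = B.f y := fun y => by rw [hfr, ← map_pow, FiniteField.pow_card]
  have hq : 1 < q := Fintype.one_lt_card
  let A := Finset.univ.filter fun z : E => z ^ q = z
  have hA : A.card ≤ q := by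
    have hne : (Polynomial.X ^ q - Polynomial.X : Polynomial E) ≠ 0 := FiniteField.X_pow_card_sub_X_ne_zero E hq
    have h1 : A.val ≤ (Polynomial.X ^ q - Polynomial.X : Polynomial E).roots := by
      refine Multiset.le_iff_count.mpr fun z => ?_
      by_cases hz : z ∈ A
      · rw [Multiset.count_eq_one_of_mem A.nodup hz, Nat.one_le_iff_ne_zero, Multiset.count_ne_zero,
          Polynomial.mem_roots hne]
        simp only [A, Finset.mem_filter, Finset.mem_univ, true_and] at hz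
        simp [hz]
      · rw [Multiset.count_eq_zero.mpr hz]; exact Nat.zero_le _
    calc A.card ≤ (Polynomial.X ^ q - Polynomial.X : Polynomial E).roots.card := Multiset.card_le_card h1
      _ ≤ _ := Polynomial.card_roots' _
      _ = q := FiniteField.X_pow_card_sub_X_natDegree_eq E hq
  have hsub : Finset.univ.image B.f ⊆ A := fun z hz => by
    obtain ⟨y, -, rfl⟩ := Finset.mem_image.mp hz
    simp only [A, Finset.mem_filter, Finset.mem_univ, true_and]
    rw [← hfr]; exact hfix y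
  have heq := Finset.eq_of_subset_of_card_le hsub
    (by rw [Finset.card_image_of_injective _ B.f.injective, Finset.card_univ]; exact hA)
  have hxA : x ∈ A := by simp only [A, Finset.mem_filter, Finset.mem_univ, true_and]; rw [← hfr]; exact hx
  rw [← heq] at hxA
  obtain ⟨y, -, hy⟩ := Finset.mem_image.mp hxA
  exact ⟨y, hy⟩

theorem descend [CharP E 3] {h : ↥(chevG2.group E)} (hh : B.sE h = h) :
    ∃ y : ↥(chevG2.group F), S.sg y = y ∧ B.inc y = h := by
  haveI := B.finE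
  have hfr : mapG B.frob chevG2 (h : GL chevG2.Idx E) = (h : GL chevG2.Idx E) := by
    rw [← G2.okx.toOK.coe_groupMap, ← B.sE_sE, hh, hh]
  have hff : ∀ y, B.frob (B.f y) = B.f y := fun y => by
    show iterateFrobenius E 3 (2 * B.m + 1) (B.f y) = B.f y
    rw [iterateFrobenius_def, ← map_pow, ← B.card_F, FiniteField.pow_card]
  obtain ⟨t, ht, htf, y, hy, he⟩ := G2.okx.fixed_split B.frob B.f (fun x => B.frob_fixed) hff h.2 hfr
  obtain ⟨t', ht', e'⟩ := G2.okx.fixed_torus B.frob B.f (fun x => B.frob_fixed) (G2.torus_ker E) ht htf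
  let z : ↥(chevG2.group F) := ⟨t' * y, mul_mem ht' hy⟩
  have hz : B.inc z = h := Subtype.ext (by
    show mapG B.f chevG2 (t' * y) = _
    rw [map_mul, e', ← he])
  exact ⟨z, B.inc_injective (by rw [← B.sE_inc, hz, hh]), hz⟩

theorem card_group [Fintype E] : Nat.card ↥(chevG2.group E) =
    Fintype.card E ^ 6 * ((Fintype.card E ^ 2 - 1) * (Fintype.card E ^ 6 - 1)) := by
  have h := G2.card_chev E
  simpa [G2.torE, Fin.prod_univ_two] using h

/-- An element of prime order at least five is conjugate to a regular torus element. -/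
theorem exists_position [CharP E 3] {y : ↥(chevG2.group F)} (hy : S.sg y = y) {l : ℕ} (hl : l.Prime)
    (h7 : 7 ≤ l) (hdvd : l ∣ Fintype.card F ^ 6 - 1) (hord : orderOf y = l) :
    ∃ (g : ↥(chevG2.group E)) (v : Eˣ × Eˣ), Reg v ∧ v ^ l = 1 ∧ g * dg v * g⁻¹ = B.inc y ∧
      (g⁻¹ * B.sE g) * dg (B.tw v) * (g⁻¹ * B.sE g)⁻¹ = dg v := by
  classical
  haveI : Fact l.Prime := ⟨hl⟩
  haveI := B.finE
  haveI : Fintype E := Fintype.ofFinite E
  haveI : Finite ↥(chevG2.group E) := inferInstance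
  set Q := Fintype.card E
  have hQ : Q = Fintype.card F ^ 6 := by rw [← B.card_E, Nat.card_eq_fintype_card]
  rw [← hQ] at hdvd
  have hQ2 : 2 ≤ Q := Fintype.one_lt_card
  let T : Subgroup ↥(chevG2.group E) := (dg : Eˣ × Eˣ →* _).range
  have hT : Nat.card ↥T = (Q - 1) * (Q - 1) := by
    rw [← Nat.card_congr (MonoidHom.ofInjective dg_injective).toEquiv, Nat.card_prod, Nat.card_units,
      Nat.card_eq_fintype_card]
  have hfac : (Nat.card ↥(chevG2.group E)).factorization l = (Nat.card ↥T).factorization l := by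
    rw [card_group, hT]
    have hmod : Q ≡ 1 [MOD l] := ((Nat.modEq_iff_dvd' (by omega)).mpr hdvd).symm
    have e2 : Q ^ 2 - 1 = (Q - 1) * (Q + 1) := by
      rw [show Q ^ 2 - 1 = Q ^ 2 - 1 ^ 2 by simp, Nat.sq_sub_sq]; ring
    obtain ⟨P, hP, hPl⟩ : ∃ P, Q ^ 6 - 1 = (Q - 1) * P ∧ ¬ l ∣ P := by
      refine ⟨Q ^ 5 + Q ^ 4 + Q ^ 3 + Q ^ 2 + Q + 1, ?_, fun hd => ?_⟩
      · obtain ⟨k, hk⟩ : ∃ k, Q = k + 1 := ⟨Q - 1, by omega⟩
        rw [hk, Nat.add_sub_cancel]
        refine Nat.sub_eq_of_eq_add ?_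
        ring
      · have h6 : Q ^ 5 + Q ^ 4 + Q ^ 3 + Q ^ 2 + Q + 1 ≡ 6 [MOD l] := by
          have := ((((hmod.pow 5).add (hmod.pow 4)).add (hmod.pow 3)).add (hmod.pow 2)).add hmod
          have := this.add_right 1
          simpa using this
        have h0 : 6 ≡ 0 [MOD l] := h6.symm.trans (Nat.modEq_zero_iff_dvd.mpr hd)
        have := Nat.le_of_dvd (by norm_num) (Nat.modEq_zero_iff_dvd.mp h0)
        omega
    have hl1 : ¬ l ∣ Q + 1 := fun hd => by
      have h0 : 1 + 1 ≡ 0 [MOD l] := (hmod.add_right 1).symm.trans (Nat.modEq_zero_iff_dvd.mpr hd)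
      have := Nat.le_of_dvd two_pos (Nat.modEq_zero_iff_dvd.mp h0)
      omega
    have hl0 : ¬ l ∣ Q := fun hd => by
      have h0 : 1 ≡ 0 [MOD l] := hmod.symm.trans (Nat.modEq_zero_iff_dvd.mpr hd)
      have := Nat.le_of_dvd one_pos (Nat.modEq_zero_iff_dvd.mp h0)
      omega
    have n0 : Q - 1 ≠ 0 := by omega
    have nP : P ≠ 0 := fun h => hPl (h ▸ dvd_zero l)
    rw [e2, hP, Nat.factorization_mul (pow_ne_zero _ (by omega))
        (mul_ne_zero (mul_ne_zero n0 (by omega)) (mul_ne_zero n0 nP)),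
      Nat.factorization_mul (mul_ne_zero n0 (by omega)) (mul_ne_zero n0 nP),
      Nat.factorization_mul n0 (by omega : Q + 1 ≠ 0), Nat.factorization_mul n0 nP,
      Nat.factorization_mul n0 n0, Nat.factorization_pow]
    simp only [Finsupp.add_apply, Finsupp.smul_apply, smul_eq_mul,
      Nat.factorization_eq_zero_of_not_dvd hl1, Nat.factorization_eq_zero_of_not_dvd hPl, add_zero]
    have := Nat.factorization_eq_zero_of_not_dvd hl0
    simp only [Q, Fintype.card_eq_nat_card] at this ⊢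
    omega
  obtain ⟨P0⟩ : Nonempty (Sylow l ↥T) := inferInstance
  let P1 : Sylow l ↥(chevG2.group E) := Sylow.ofCard ((P0 : Subgroup ↥T).map T.subtype) (by
    rw [Subgroup.card_map_of_injective T.subtype_injective, P0.card_eq_multiplicity, hfac])
  set z := B.inc y
  have hz : orderOf z = l := by rw [orderOf_injective B.inc B.inc_injective, hord]
  have hzp : IsPGroup l ↥(Subgroup.zpowers z) := IsPGroup.of_card (n := 1) (by rw [Nat.card_zpowers, hz, pow_one])
  obtain ⟨P2, hP2⟩ := hzp.exists_le_sylow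
  obtain ⟨g, hg⟩ := MulAction.exists_smul_eq ↥(chevG2.group E) P1 P2
  have hmem : z ∈ ((g • P1 : Sylow l ↥(chevG2.group E)) : Subgroup ↥(chevG2.group E)) :=
    hg.symm ▸ hP2 (Subgroup.mem_zpowers z)
  rw [Sylow.coe_subgroup_smul, Subgroup.mem_pointwise_smul_iff_inv_smul_mem] at hmem
  obtain ⟨⟨_, v, rfl⟩, -, hv⟩ : (MulAut.conj g)⁻¹ • z ∈ (P0 : Subgroup ↥T).map T.subtype := hmem
  have hv' : g * dg v * g⁻¹ = z := by
    simp only [Subgroup.coe_subtype] at hv
    rw [hv]; simp [mul_assoc]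
  have hvl : v ^ l = 1 := by
    refine dg_injective ?_
    rw [map_pow, map_one]
    have h1 : dg v = g⁻¹ * z * (g⁻¹)⁻¹ := by rw [← hv']; simp [mul_assoc]
    rw [h1, conj_pow, ← hz, pow_orderOf_eq_one, mul_one, mul_inv_cancel]
  have hv1 : v ≠ 1 := by
    rintro rfl
    rw [map_one, mul_one, mul_inv_cancel] at hv'
    rw [← hv', orderOf_one] at hz
    exact hl.one_lt.ne hz
  have hfix : B.sE z = z := by rw [B.sE_inc, hy]
  have hn : (g⁻¹ * B.sE g) * dg (B.tw v) * (g⁻¹ * B.sE g)⁻¹ = dg v := by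
    rw [← hv', map_mul, map_mul, map_inv, B.sE_dg] at hfix
    calc (g⁻¹ * B.sE g) * dg (B.tw v) * (g⁻¹ * B.sE g)⁻¹
        = g⁻¹ * (B.sE g * dg (B.tw v) * (B.sE g)⁻¹) * g := by simp [mul_assoc]
      _ = dg v := by rw [hfix]; simp [mul_assoc]
  refine ⟨g, v, ?_, hvl, hv', hn⟩
  intro r hr h1
  obtain ⟨hπ, he, -, hee⟩ := short_long ⟨r, nroots_eq ▸ hr⟩
  simp only at hπ he hee
  have hπ1 : val (G2.xtab.pi r) (B.tw v) = 1 := by
    have e := congrArg B.sE (dg_conj v hr (1 : E))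
    rw [map_mul, map_mul, map_inv, B.sE_X r hr, B.sE_dg, h1, Units.val_one, one_mul, one_pow, one_pow,
      B.sE_X r hr, one_pow, one_pow, dg_conj _ (nroots_eq.symm ▸ hπ), mul_one] at e
    exact Units.ext (xG_param (nroots_eq.symm ▸ hπ) e)
  have hσl : B.tw v ^ l = 1 := dg_injective (by rw [map_pow, map_one, ← B.sE_dg, ← map_pow, ← map_pow, hvl, map_one, map_one])
  have hσ1 : B.tw v ≠ 1 := by
    intro hc
    rw [hc, map_one, mul_one, mul_inv_cancel] at hn
    exact hv1 (dg_injective (hn.symm.trans (map_one dg).symm))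
  rcases he with he | he
  · have he' : G2.xtab.e (G2.xtab.pi r) = 1 := by rw [he] at hee; omega
    exact not_long_short hl h7 hσl hσ1 hn hπ (nroots_eq ▸ hr) he' he hπ1 h1
  · have he' : G2.xtab.e (G2.xtab.pi r) = 3 := by rw [he, one_mul] at hee; exact hee
    refine not_long_short hl h7 hvl hv1 (n := (g⁻¹ * B.sE g)⁻¹) ?_ (nroots_eq ▸ hr) hπ he he' h1 hπ1
    rw [← hn]; simp [mul_assoc]

end Big

end Tw

end Cfsg.Agent.SmallRee
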