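import Cfsg.Agent.Lib.SmallRee.Structure

/-!
The small Ree group as a subgroup of the general linear group: its generators, the product rule in the unipotent
subgroup, the torus action, and the monomial involution.
-/

set_option autoImplicit false
set_option maxRecDepth 20000

namespace Cfsg.Agent.SmallRee

open Cfsg.Lie Cfsg.Agent.Chev

variable {F : Type*} [Field F]

theorem commute_Tl7 [CharP F 3] (p c8 c9 c10 c11 : F) :
    Tl true c8 c9 c10 c11 * Y true 7 p = Y true 7 p * Tl true c8 (c9 - p * c8) c10 c11 := by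
  have h8 : Y true 8 c8 * Y true 7 p = Y true 7 p * Y true 8 c8 * Y true 9 (-(p * c8)) := by
    show X 8 c8 * X 7 p = X 7 p * X 8 c8 * X 9 _
    rw [comm_X (r := 7) (s := 8) (by decide +kernel) (by decide +kernel) (by decide) (by decide +kernel)
      (L := [(9, -2, 1, 1), (10, -3, 2, 1), (11, 3, 1, 2)]) (by decide +kernel)]
    have h3 : (3 : F) = 0 := by exact_mod_cast CharP.cast_eq_zero F 3
    simp only [List.map_cons, List.map_nil, List.prod_cons, List.prod_nil, mul_one, pow_one, Int.cast_neg,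
      Int.cast_ofNat, h3, neg_zero, zero_mul, X_zero]
    congr 2
    linear_combination p * c8 * h3
  have h9 : Commute (Y true 9 c9) (Y true 7 p) := by
    show Commute (X 9 c9) (X 7 p)
    exact commute_X (by decide +kernel) (by decide +kernel) (by decide +kernel) _ _
  have h10 : Commute (Y true 10 c10) (Y true 7 p) := by
    show Commute (X 10 c10) (X 7 p)
    exact commute_X (by decide +kernel) (by decide +kernel) (by decide +kernel) _ _
  have h11 : Commute (Y true 11 c11) (Y true 7 p) := by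
    show Commute (X 11 c11) (X 7 p)
    exact commute_X (by decide +kernel) (by decide +kernel) (by decide +kernel) _ _
  have hz : Tl true c8 (c9 - p * c8) c10 c11 = Tl true c8 c9 c10 c11 * Tl true 0 (-(p * c8)) 0 0 := by
    rw [Tl_mul]; congr 1 <;> ring
  calc Tl true c8 c9 c10 c11 * Y true 7 p
      = Y true 8 c8 * (Y true 9 c9 * Y true 10 c10 * Y true 11 c11 * Y true 7 p) := by simp only [Tl, mul_assoc]
    _ = Y true 8 c8 * Y true 7 p * (Y true 9 c9 * Y true 10 c10 * Y true 11 c11) := by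
      rw [((h9.mul_left h10).mul_left h11).eq]; simp only [mul_assoc]
    _ = Y true 7 p * (Tl true c8 0 0 0 * Tl true 0 (-(p * c8)) 0 0 * Tl true 0 c9 c10 c11) := by
      rw [h8]; simp only [Tl, Y_zero, mul_one, one_mul, mul_assoc]
    _ = _ := by rw [hz, Tl_mul, Tl_mul, Tl_mul]; congr 2 <;> ring

theorem commute_Tl6 [CharP F 3] (s c8 c9 c10 c11 : F) :
    Tl true c8 c9 c10 c11 * Y true 6 s = Y true 6 s * Tl true c8 c9 c10 (c11 - s * c10) := by
  have h10 : Y true 10 c10 * Y true 6 s = Y true 6 s * Y true 10 c10 * Y true 11 (-(s * c10)) := by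
    show X 10 c10 * X 6 s = X 6 s * X 10 c10 * X 11 _
    rw [comm_X (r := 6) (s := 10) (by decide +kernel) (by decide +kernel) (by decide) (by decide +kernel)
      (L := [(11, 1, 1, 1)]) (by decide +kernel)]
    simp only [List.map_cons, List.map_nil, List.prod_cons, List.prod_nil, mul_one, pow_one, Int.cast_one]
    congr 2
    ring
  have h8 : Commute (Y true 8 c8) (Y true 6 s) := by
    show Commute (X 8 c8) (X 6 s)
    exact commute_X (by decide +kernel) (by decide +kernel) (by decide +kernel) _ _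
  have h9 : Commute (Y true 9 c9) (Y true 6 s) := by
    show Commute (X 9 c9) (X 6 s)
    exact commute_X (by decide +kernel) (by decide +kernel) (by decide +kernel) _ _
  have h11 : Commute (Y true 11 c11) (Y true 6 s) := by
    show Commute (X 11 c11) (X 6 s)
    exact commute_X (by decide +kernel) (by decide +kernel) (by decide +kernel) _ _
  have hz : Tl true c8 c9 c10 (c11 - s * c10) =
      Tl true c8 c9 0 0 * (Tl true 0 0 c10 0 * Tl true 0 0 0 (-(s * c10))) * Tl true 0 0 0 c11 := by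
    rw [Tl_mul, Tl_mul, Tl_mul]; congr 1 <;> ring
  calc Tl true c8 c9 c10 c11 * Y true 6 s
      = Y true 8 c8 * Y true 9 c9 * (Y true 10 c10 * (Y true 11 c11 * Y true 6 s)) := by simp only [Tl, mul_assoc]
    _ = Y true 8 c8 * Y true 9 c9 * (Y true 10 c10 * Y true 6 s) * Y true 11 c11 := by
      rw [h11.eq]; simp only [mul_assoc]
    _ = (Y true 8 c8 * Y true 9 c9 * Y true 6 s) * Y true 10 c10 * Y true 11 (-(s * c10)) * Y true 11 c11 := by
      rw [h10]; simp only [mul_assoc]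
    _ = _ := by
      rw [(h8.mul_left h9).eq, hz]
      simp only [Tl, Y_zero, mul_one, one_mul, mul_assoc]

theorem Wd_mul [CharP F 3] (p s c8 c9 c10 c11 p' s' d8 d9 d10 d11 : F) :
    Wd true p s c8 c9 c10 c11 * Wd true p' s' d8 d9 d10 d11 =
      Wd true (p + p') (s + s') (p' * s + c8 + d8) (p' ^ 2 * s + c9 - p' * c8 + d9)
        (-(p' ^ 3 * s) + c10 + d10) (-(p' ^ 3 * s ^ 2) + c11 - s' * (c10 - p' ^ 3 * s) + d11) := by
  calc Wd true p s c8 c9 c10 c11 * Wd true p' s' d8 d9 d10 d11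
      = Y true 7 p * Y true 6 s * (Tl true c8 c9 c10 c11 * Y true 7 p') * Y true 6 s' * Tl true d8 d9 d10 d11 := by
        simp only [Wd, mul_assoc]
    _ = Y true 7 p * (Y true 6 s * Y true 7 p') * (Tl true c8 (c9 - p' * c8) c10 c11) * Y true 6 s' *
          Tl true d8 d9 d10 d11 := by rw [commute_Tl7]; simp only [mul_assoc]
    _ = (Y true 7 p * Y true 7 p') * Y true 6 s *
          ((Tl true (p' * s) (p' ^ 2 * s) (-(p' ^ 3 * s)) (-(p' ^ 3 * s ^ 2)) * Tl true c8 (c9 - p' * c8) c10 c11) *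
            Y true 6 s') * Tl true d8 d9 d10 d11 := by rw [swap]; simp only [mul_assoc]
    _ = _ := by
      rw [Tl_mul, commute_Tl6, Y_add, ← mul_assoc, mul_assoc _ (Y true 6 s) (Y true 6 s'), Y_add,
        mul_assoc _ (Tl true _ _ _ _), Tl_mul, Wd]
      congr 2 <;> ring

theorem tor_conj_Wd {lam mu : F} (hl : lam ≠ 0) (hm : mu ≠ 0) (p s c8 c9 c10 c11 : F) :
    tor lam mu * Wd true p s c8 c9 c10 c11 * (tor lam mu)⁻¹ =
      Wd true (lam ^ (2 : ℤ) * mu ^ (-1 : ℤ) * p) (lam ^ (-3 : ℤ) * mu ^ (2 : ℤ) * s)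
        (lam ^ (-1 : ℤ) * mu ^ (1 : ℤ) * c8) (lam ^ (1 : ℤ) * mu ^ (0 : ℤ) * c9)
        (lam ^ (3 : ℤ) * mu ^ (-1 : ℤ) * c10) (lam ^ (0 : ℤ) * mu ^ (1 : ℤ) * c11) := by
  simp only [Wd, Tl, Y, if_true]
  rw [← tor_conj hl hm (r := 7) (A := 2) (B := -1) (by decide +kernel) (by decide +kernel) (by decide +kernel),
    ← tor_conj hl hm (r := 6) (A := -3) (B := 2) (by decide +kernel) (by decide +kernel) (by decide +kernel),
    ← tor_conj hl hm (r := 8) (A := -1) (B := 1) (by decide +kernel) (by decide +kernel) (by decide +kernel),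
    ← tor_conj hl hm (r := 9) (A := 1) (B := 0) (by decide +kernel) (by decide +kernel) (by decide +kernel),
    ← tor_conj hl hm (r := 10) (A := 3) (B := -1) (by decide +kernel) (by decide +kernel) (by decide +kernel),
    ← tor_conj hl hm (r := 11) (A := 0) (B := 1) (by decide +kernel) (by decide +kernel) (by decide +kernel)]
  simp [mul_assoc]

theorem coe_Y_mem_pos {r : ℕ} (hr : r ∈ [6, 7, 8, 9, 10, 11]) (c : F) :
    ((Y true r c : ↥(chevG2.group F)) : GL chevG2.Idx F) ∈ chevG2.posUnipotent F := by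
  have h : ∀ r ∈ [6, 7, 8, 9, 10, 11], r < chevG2.nroots ∧ 6 ≤ r := by decide +kernel
  exact G2.okx.toOK.xG_mem_pos
    (G2.okx.toOK.isPos_iff.mpr ⟨(h r hr).1, (Tw.htf_pos (h r hr).1).mpr (h r hr).2⟩) _

theorem coe_Y_mem_neg {r : ℕ} (hr : r ∈ [6, 7, 8, 9, 10, 11]) (c : F) :
    ((Y false r c : ↥(chevG2.group F)) : GL chevG2.Idx F) ∈ chevG2.negUnipotent F := by
  have h : ∀ r ∈ [6, 7, 8, 9, 10, 11], 11 - r < chevG2.nroots ∧ ¬ 6 ≤ 11 - r := by decide +kernel
  refine G2.okx.toOK.xG_mem_neg (G2.okx.toOK.isNeg_iff.mpr ⟨(h r hr).1, ?_⟩) _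
  have := G2.okx.toOK.ht_ne (h r hr).1
  have := (Tw.htf_pos (h r hr).1).not.mpr (h r hr).2
  omega

theorem coe_Wd_mem_pos (p s c8 c9 c10 c11 : F) :
    ((Wd true p s c8 c9 c10 c11 : ↥(chevG2.group F)) : GL chevG2.Idx F) ∈ chevG2.posUnipotent F := by
  simp only [Wd, Tl, Subgroup.coe_mul]
  refine mul_mem (mul_mem ?_ ?_) (mul_mem (mul_mem (mul_mem ?_ ?_) ?_) ?_) <;> exact coe_Y_mem_pos (by simp) _

theorem coe_Wd_mem_neg (p s c8 c9 c10 c11 : F) :
    ((Wd false p s c8 c9 c10 c11 : ↥(chevG2.group F)) : GL chevG2.Idx F) ∈ chevG2.negUnipotent F := by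
  simp only [Wd, Tl, Subgroup.coe_mul]
  refine mul_mem (mul_mem ?_ ?_) (mul_mem (mul_mem (mul_mem ?_ ?_) ?_) ?_) <;> exact coe_Y_mem_neg (by simp) _

namespace Tw

variable (S : Tw F)

theorem th_cube' (x : F) : S.th (S.th x) ^ 3 = x := S.th_cube x

/-- The product rule in the unipotent subgroup. -/
theorem Rw_mul [CharP F 3] (t u w t' u' w' : F) :
    S.Rw true t u w * S.Rw true t' u' w' =
      S.Rw true (t + t') (u + u' - S.th t' ^ 3 * t)
        (w + w' - S.th t' ^ 3 * t ^ 2 - t' * u + t' * t * S.th t' ^ 3) := by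
  have hfix : S.sg (S.Rw true t u w * S.Rw true t' u' w') = S.Rw true t u w * S.Rw true t' u' w' := by
    rw [map_mul, S.sg_Rw, S.sg_Rw]
  obtain ⟨a, b, c, e⟩ := S.fixed_pos (mul_mem (coe_Wd_mem_pos _ _ _ _ _ _) (coe_Wd_mem_pos _ _ _ _ _ _)) hfix
  have e' := e
  rw [Rw, Rw, Rw, Wd_mul] at e'
  obtain ⟨-, h2, -, -, h5, h6⟩ := Wd_inj e'
  rw [e, ← h2, ← h5, ← h6]
  congr 1 <;> ring

theorem Rw_zero (b : Bool) : S.Rw b 0 0 0 = 1 := by
  simp [Rw, Wd, Tl, Y_zero]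

theorem Rw_inv [CharP F 3] (t u w : F) : ∃ t' u' w' : F, (S.Rw true t u w)⁻¹ = S.Rw true t' u' w' ∧ t' = -t := by
  refine ⟨-t, -u - S.th t ^ 3 * t, -w - 2 * (S.th t ^ 3 * t ^ 2) - t * u, ?_, rfl⟩
  refine inv_eq_of_mul_eq_one_right ?_
  rw [S.Rw_mul, ← S.Rw_zero true]
  congr 1 <;> (try simp only [map_neg, Odd.neg_pow (show Odd 3 by decide)]) <;> ring

/-- The scalar of the torus on the first coordinate. -/
def alpha (v : Fˣ) : F := (v : F) ^ 2 / S.th (v : F) ^ 3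

/-- The scalar of the torus on the second coordinate. -/
def beta (v : Fˣ) : F := S.th (v : F) ^ 3 / (v : F)

theorem Ht_conj_Rw [CharP F 3] (v : Fˣ) (t u w : F) :
    S.Ht v * S.Rw true t u w * (S.Ht v)⁻¹ = S.Rw true (S.alpha v * t) (S.beta v * u) ((v : F) * w) := by
  have hfix : S.sg (S.Ht v * S.Rw true t u w * (S.Ht v)⁻¹) = S.Ht v * S.Rw true t u w * (S.Ht v)⁻¹ := by
    rw [map_mul, map_mul, map_inv, S.sg_Rw, S.sg_Ht]
  have hpos : ((S.Ht v * S.Rw true t u w * (S.Ht v)⁻¹ : ↥(chevG2.group F)) : GL chevG2.Idx F) ∈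
      chevG2.posUnipotent F := by
    rw [Rw, S.Ht_def, tor_conj_Wd (S.th_ne v) v.ne_zero]
    exact coe_Wd_mem_pos _ _ _ _ _ _
  obtain ⟨a, b, c, e⟩ := S.fixed_pos hpos hfix
  have e' := e
  rw [Rw, Rw, S.Ht_def, tor_conj_Wd (S.th_ne v) v.ne_zero] at e'
  obtain ⟨-, h2, -, -, h5, h6⟩ := Wd_inj e'
  rw [e, ← h2, ← h5, ← h6]
  have := S.th_ne v
  have := v.ne_zero
  congr 1 <;> simp only [alpha, beta, zpow_neg, zpow_ofNat, zpow_zero, zpow_one, one_mul] <;> field_simp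

theorem beta_ne_one {v : Fˣ} (h1 : v ≠ 1) (h2 : v ≠ -1) : S.beta v ≠ 1 := by
  intro h
  have e : S.th (v : F) ^ 3 = (v : F) := by
    rw [beta, div_eq_one_iff_eq v.ne_zero] at h
    exact h
  have e1 : S.th (v : F) = (v : F) := by
    have := congrArg S.th e
    rw [S.th_inv3] at this
    exact this.symm
  rw [e1] at e
  have : ((v : F) - 1) * ((v : F) + 1) = 0 := by
    have h3 : (v : F) * (((v : F) - 1) * ((v : F) + 1)) = 0 := by linear_combination e
    exact (mul_eq_zero.mp h3).resolve_left v.ne_zero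
  rcases mul_eq_zero.mp this with h | h
  · exact h1 (Units.ext (sub_eq_zero.mp h))
  · exact h2 (Units.ext (by rw [Units.val_neg, Units.val_one]; exact eq_neg_of_add_eq_zero_left h))

theorem alpha_eq_one {v : Fˣ} (h : S.alpha v = 1) : v = 1 := by
  have e : (v : F) ^ 2 = S.th (v : F) ^ 3 := by
    rwa [alpha, div_eq_one_iff_eq (pow_ne_zero _ (S.th_ne v))] at h
  have e1 : S.th (v : F) ^ 2 = (v : F) := by
    have := congrArg S.th e
    rwa [S.th_inv3, map_pow] at this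
  refine Units.ext ?_
  have h3 : (v : F) ^ 3 * ((v : F) - 1) = 0 := by
    have : ((v : F) ^ 2) ^ 2 = (S.th (v : F) ^ 2) ^ 3 := by rw [e, ← pow_mul, ← pow_mul]
    rw [e1] at this
    linear_combination this
  exact sub_eq_zero.mp ((mul_eq_zero.mp h3).resolve_left (pow_ne_zero _ v.ne_zero))

theorem alpha_mul (v w : Fˣ) : S.alpha (v * w) = S.alpha v * S.alpha w := by
  simp only [alpha, Units.val_mul, map_mul, mul_pow, div_mul_div_comm]

theorem nn_inv [CharP F 3] (u : F) : (S.nn u)⁻¹ = S.nn (-u) := by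
  have hinv : ∀ r, r < chevG2.nroots → ∀ a : F, (N r a)⁻¹ = N r (-a) := fun r hr a =>
    Subtype.ext (G2.okx.toOK.nG_inv hr a)
  rw [nn, nn, mul_inv_rev, hinv 8 (by decide +kernel), hinv 10 (by decide +kernel), map_neg]
  exact ((commute_N (-S.th u) (-u)).symm :)

theorem n₀_sq [CharP F 3] : S.n₀ * S.n₀ = 1 := by
  have h := S.nn_mul (u := -1) (neg_ne_zero.mpr one_ne_zero)
  have e : Units.mk0 (S.th (-1) ^ 3 * (-1)) (mul_ne_zero (pow_ne_zero _ ((map_ne_zero S.th).mpr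
      (neg_ne_zero.mpr (one_ne_zero (α := F))))) (neg_ne_zero.mpr one_ne_zero)) = 1 :=
    Units.ext (by simp [Odd.neg_one_pow (show Odd 3 by decide)])
  rw [e, map_one] at h
  have h2 : S.nn (-1) = S.n₀ := by
    have h3 := inv_eq_of_mul_eq_one_right h
    rw [S.nn_inv, neg_neg] at h3
    exact h3.symm
  rwa [h2] at h

theorem n₀_inv [CharP F 3] : S.n₀⁻¹ = S.n₀ := inv_eq_of_mul_eq_one_right S.n₀_sq

theorem nn_eq [CharP F 3] {u : F} (hu : u ≠ 0) : S.nn u =
    S.Ht (Units.mk0 (S.th u ^ 3 * u) (mul_ne_zero (pow_ne_zero _ ((map_ne_zero S.th).mpr hu)) hu)) * S.n₀ := by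
  rw [← S.nn_mul hu, show S.nn (-1) = S.n₀ by rw [← S.nn_inv]; exact S.n₀_inv, mul_assoc, S.n₀_sq, mul_one]

theorem n₀_conj_sq [CharP F 3] (w : Fˣ) : S.n₀ * S.Ht (w ^ 2) * S.n₀ = S.Ht (w ^ 2)⁻¹ := by
  have hu : S.th (w : F) ^ 3 / (w : F) ≠ 0 := div_ne_zero (pow_ne_zero _ (S.th_ne w)) w.ne_zero
  have e : ∀ u : F, ∀ hu : u ≠ 0, (u = S.th (w : F) ^ 3 / (w : F) ∨ u = -(S.th (w : F) ^ 3 / (w : F))) →
      (Units.mk0 (S.th u ^ 3 * u) (mul_ne_zero (pow_ne_zero _ ((map_ne_zero S.th).mpr hu)) hu) : Fˣ) = w ^ 2 := by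
    rintro u hu (rfl | rfl) <;> refine Units.ext ?_ <;> rw [Units.val_mk0, Units.val_pow_eq_pow_val]
    · exact S.sq_inv_formula w.ne_zero
    · rw [map_neg, Odd.neg_pow (show Odd 3 by decide), neg_mul_neg]
      exact S.sq_inv_formula w.ne_zero
  have h1 := S.nn_eq hu
  have h2 := S.nn_eq (neg_ne_zero.mpr hu)
  rw [e _ hu (Or.inl rfl)] at h1
  rw [e _ (neg_ne_zero.mpr hu) (Or.inr rfl), ← S.nn_inv, h1, mul_inv_rev, S.n₀_inv, ← map_inv] at h2
  calc S.n₀ * S.Ht (w ^ 2) * S.n₀ = S.n₀ * (S.Ht (w ^ 2) * S.n₀) := mul_assoc _ _ _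
    _ = S.n₀ * (S.n₀ * S.Ht (w ^ 2)⁻¹) := by rw [← h2]
    _ = _ := by rw [← mul_assoc, S.n₀_sq, one_mul]

theorem sq_or_neg_sq [CharP F 3] [Fintype F] {m : ℕ} (hK : Fintype.card F = 3 ^ (2 * m + 1)) (v : Fˣ) :
    ∃ w : Fˣ, v = w ^ 2 ∨ v = -1 * w ^ 2 := by
  have h34 : Fintype.card F % 4 = 3 := by
    rw [hK, pow_succ, pow_mul, Nat.mul_mod, Nat.pow_mod]
    norm_num
  have hF : ringChar F ≠ 2 := by rw [ringChar.eq F 3]; norm_num
  rcases FiniteField.pow_dichotomy hF v.ne_zero with h | h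
  · obtain ⟨c, hc⟩ := (FiniteField.isSquare_iff hF v.ne_zero).mpr h
    have hc0 : c ≠ 0 := fun e => v.ne_zero (by rw [hc, e, mul_zero])
    exact ⟨Units.mk0 c hc0, Or.inl (Units.ext (by rw [Units.val_pow_eq_pow_val, Units.val_mk0, pow_two]; exact hc))⟩
  · have hodd : Odd (Fintype.card F / 2) := Nat.odd_iff.mpr (by omega)
    have hneg : (-(v : F)) ^ (Fintype.card F / 2) = 1 := by rw [hodd.neg_pow, h, neg_neg]
    obtain ⟨c, hc⟩ := (FiniteField.isSquare_iff hF (neg_ne_zero.mpr v.ne_zero)).mpr hneg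
    have hc0 : c ≠ 0 := fun e => v.ne_zero (by rwa [e, mul_zero, neg_eq_zero] at hc)
    refine ⟨Units.mk0 c hc0, Or.inr (Units.ext ?_)⟩
    rw [Units.val_mul, Units.val_neg, Units.val_one, Units.val_pow_eq_pow_val, Units.val_mk0, pow_two, ← hc]
    ring

theorem n₀_conj_Ht [CharP F 3] [Fintype F] {m : ℕ} (hK : Fintype.card F = 3 ^ (2 * m + 1)) (v : Fˣ) :
    S.n₀ * S.Ht v * S.n₀ = S.Ht v⁻¹ := by
  have hmon := S.exists_act_n₀
  obtain ⟨w₀, -, -, -, hmon⟩ := hmon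
  have hfx : S.sg S.n₀ = S.n₀ := S.G1_le_Fx S.n₀_mem
  have hneg : S.n₀ * S.Ht (-1) * S.n₀ = S.Ht (-1) := by
    have hd : ((S.n₀ * S.Ht (-1) * S.n₀ : ↥(chevG2.group F)) : GL chevG2.Idx F) ∈ chevG2.diagonalSubgroup F := by
      nth_rw 2 [← S.n₀_inv]
      rw [Subgroup.coe_mul, Subgroup.coe_mul, Subgroup.coe_inv, S.Ht_def]
      exact G2.okx.diag_normal_conj hmon (tor_mem (S.th_ne _) (Units.ne_zero _))
    obtain ⟨c, hc⟩ := S.fixed_diag hd (by rw [map_mul, map_mul, hfx, S.sg_Ht])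
    have hsq : S.Ht (c * c) = S.Ht 1 := by
      rw [map_mul, ← hc, map_one]
      calc S.n₀ * S.Ht (-1) * S.n₀ * (S.n₀ * S.Ht (-1) * S.n₀)
          = S.n₀ * S.Ht (-1) * (S.n₀ * S.n₀) * (S.Ht (-1) * S.n₀) := by simp only [mul_assoc]
        _ = S.n₀ * (S.Ht (-1) * S.Ht (-1)) * S.n₀ := by rw [S.n₀_sq]; simp only [mul_one, mul_assoc]
        _ = 1 := by rw [← map_mul, neg_one_mul, neg_neg, map_one, mul_one, S.n₀_sq]
    have hc2 := congrArg Units.val (S.Ht_inj hsq)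
    rw [Units.val_mul, Units.val_one, mul_self_eq_one_iff] at hc2
    rcases hc2 with h | h
    · exfalso
      rw [show c = 1 from Units.ext h, map_one] at hc
      have e : S.Ht (-1) = S.Ht 1 := by
        rw [map_one]
        calc S.Ht (-1) = S.n₀ * (S.n₀ * S.Ht (-1) * S.n₀) * S.n₀ := by
              simp only [← mul_assoc, S.n₀_sq, one_mul]
              rw [mul_assoc, S.n₀_sq, mul_one]
          _ = 1 := by rw [hc, mul_one, S.n₀_sq]
      have h2 := congrArg Units.val (S.Ht_inj e)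
      rw [Units.val_neg, Units.val_one] at h2
      have h3 : (3 : F) = 0 := by exact_mod_cast CharP.cast_eq_zero F 3
      exact one_ne_zero (α := F) (by linear_combination h3 + h2)
    · rw [hc, show c = -1 from Units.ext (by rw [h, Units.val_neg, Units.val_one])]
  obtain ⟨w, rfl | rfl⟩ := sq_or_neg_sq hK v
  · exact S.n₀_conj_sq w
  · calc S.n₀ * S.Ht (-1 * w ^ 2) * S.n₀
        = (S.n₀ * S.Ht (-1) * S.n₀) * (S.n₀ * S.Ht (w ^ 2) * S.n₀) := by
          rw [map_mul]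
          simp only [mul_assoc]
          rw [← mul_assoc S.n₀ S.n₀, S.n₀_sq, one_mul]
      _ = _ := by rw [hneg, S.n₀_conj_sq, ← map_mul, mul_inv, inv_neg, inv_one]

theorem n₀_conj_pos [CharP F 3] {x : GL chevG2.Idx F} (hx : x ∈ chevG2.posUnipotent F) :
    ((S.n₀ : ↥(chevG2.group F)) : GL chevG2.Idx F) * x * ((S.n₀ : ↥(chevG2.group F)) : GL chevG2.Idx F)⁻¹ ∈
      chevG2.negUnipotent F := by
  obtain ⟨w, hw, hA, hneg, -⟩ := S.exists_act_n₀
  suffices h : chevG2.posUnipotent F ≤ (chevG2.negUnipotent F).comap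
      (MulAut.conj ((S.n₀ : ↥(chevG2.group F)) : GL chevG2.Idx F)).toMonoidHom from h hx
  refine (Subgroup.closure_le _).mpr fun y ⟨r, t, hr, hy⟩ => ?_
  obtain ⟨h1, h2⟩ := G2.okx.toOK.isPos_iff.mp hr
  obtain ⟨a, -, ha⟩ := hA.2.1 r h1
  rw [G2.okx.toOK.eq_xG hy, SetLike.mem_coe, Subgroup.mem_comap]
  rw [MulEquiv.coe_toMonoidHom, MulAut.conj_apply]
  rw [(ha t).1]
  exact G2.okx.toOK.xG_mem_neg (G2.okx.toOK.isNeg_iff.mpr ⟨(hA.1 r h1).1, hneg r h1 h2⟩) _

theorem n₀_conj_neg [CharP F 3] {x : GL chevG2.Idx F} (hx : x ∈ chevG2.negUnipotent F) :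
    ((S.n₀ : ↥(chevG2.group F)) : GL chevG2.Idx F) * x * ((S.n₀ : ↥(chevG2.group F)) : GL chevG2.Idx F)⁻¹ ∈
      chevG2.posUnipotent F := by
  obtain ⟨w, hw, hA, hneg, -⟩ := S.exists_act_n₀
  suffices h : chevG2.negUnipotent F ≤ (chevG2.posUnipotent F).comap
      (MulAut.conj ((S.n₀ : ↥(chevG2.group F)) : GL chevG2.Idx F)).toMonoidHom from h hx
  refine (Subgroup.closure_le _).mpr fun y ⟨r, t, hr, hy⟩ => ?_
  obtain ⟨h1, h2⟩ := G2.okx.toOK.isNeg_iff.mp hr
  have h3 := G2.okx.toOK.neg_lt h1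
  have h4 : 0 < G2.T.htf (G2.T.neg r) := by rw [G2.okx.toOK.ht_neg h1]; omega
  obtain ⟨a, -, ha⟩ := hA.2.1 _ h3
  have e := (ha t).2
  rw [G2.okx.toOK.neg_neg' h1] at e
  rw [G2.okx.toOK.eq_xG hy, SetLike.mem_coe, Subgroup.mem_comap]
  rw [MulEquiv.coe_toMonoidHom, MulAut.conj_apply]
  rw [e]
  refine G2.okx.toOK.xG_mem_pos (G2.okx.toOK.isPos_iff.mpr ⟨G2.okx.toOK.neg_lt (hA.1 _ h3).1, ?_⟩) _
  have := hneg _ h3 h4
  rw [G2.okx.toOK.ht_neg (hA.1 _ h3).1]
  omega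

theorem n₀_not_borel [CharP F 3] :
    ((S.n₀ : ↥(chevG2.group F)) : GL chevG2.Idx F) ∉ chevG2.borelSubgroup F := by
  intro hB
  obtain ⟨w, hw, hA, hneg, hmon⟩ := S.exists_act_n₀
  have hd : ((S.n₀ : ↥(chevG2.group F)) : GL chevG2.Idx F) ∈ chevG2.diagonalSubgroup F := by
    rw [← G2.okx.toOK.borel_inf_monomial]; exact Subgroup.mem_inf.mpr ⟨hB, hmon⟩
  have h8 : 8 < chevG2.nroots := by decide +kernel
  have h1 := (Subgroup.mem_normalizer_iff.mp (G2.okx.toOK.diag_normalizes_pos hd) _).mp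
    (coe_Y_mem_pos (F := F) (r := 8) (by simp) 1)
  have h2 := S.n₀_conj_pos (coe_Y_mem_pos (F := F) (r := 8) (by simp) 1)
  have h3 := Subgroup.mem_bot.mp (G2.okx.toOK.borel_inf_neg (F := F) ▸
    Subgroup.mem_inf.mpr ⟨Subgroup.mem_sup_left h1, h2⟩)
  have h4 : ((Y true 8 (1 : F) : ↥(chevG2.group F)) : GL chevG2.Idx F) = 1 := by
    simpa using h3
  exact one_ne_zero ((G2.okx.toOK.x_eq_one h8 (1 : F)).mp
    ((G2.okx.toOK.coe_xG 8 (1 : F)).symm.trans ((congrArg Units.val h4).trans Units.val_one)))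

end Tw

end Cfsg.Agent.SmallRee
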