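import Cfsg.Agent.Lib.SmallRee.SolvSub

/-!
An upper bound for the normalisers of the maximal tori: the Weyl group elements commuting with the twisted
Frobenius.
-/

set_option autoImplicit false
set_option maxRecDepth 20000

namespace Cfsg.Agent.SmallRee

open Cfsg.Lie Cfsg.Agent.Chev

/-- The Weyl elements commuting with a twist. -/
def okQ (P Q : ℕ × ℕ) : Bool :=
  (List.range 12).all fun r => perm Q (perm P (G2.xtab.pi r)) == perm P (G2.xtab.pi (perm Q r))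

theorem okQ_count : ∀ P ∈ Wl, (Wl.filter (okQ P)).length ≤ 6 ∧
    ((cr P.1).1 * (cr P.2).2 - (cr P.2).1 * (cr P.1).2 = 1 → (Wl.filter (okQ P)).length ≤ 2) ∧
    ((cr P.1).1 * (cr P.2).2 - (cr P.2).1 * (cr P.1).2, 3 * (cr P.1).2 + (cr P.2).1) ∈
      [((1 : ℤ), (0 : ℤ)), (-1, 3), (-1, -3), (-1, 0)] := by
  decide +kernel

theorem same_length_cert : ∀ a b : Fin 12, G2.xtab.e a.val = G2.xtab.e b.val → a ≠ b →
    ∃ β : Fin 12, ∃ k ∈ [1, 2, 3, (4 : ℕ)], (cr a.val).1 - (cr b.val).1 = (k : ℤ) * (cr β.val).1 ∧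
      (cr a.val).2 - (cr b.val).2 = (k : ℤ) * (cr β.val).2 := by
  decide +kernel

theorem length_cert : ∀ P ∈ Wl, ∀ r : Fin 12, G2.xtab.e (perm P r.val) = G2.xtab.e r.val := by decide +kernel

theorem length_pi : ∀ r s : Fin 12, G2.xtab.e r.val = G2.xtab.e s.val →
    G2.xtab.e (G2.xtab.pi r.val) = G2.xtab.e (G2.xtab.pi s.val) := by decide +kernel

section Values

variable {E : Type*} [Field E]

theorem val_zpow (r : ℕ) (v : Eˣ × Eˣ) (i : ℤ) : val r (v ^ i) = val r v ^ i :=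
  map_zpow (MonoidHom.mk' (val r) (val_mul r)) v i

theorem reg_zpow {v : Eˣ × Eˣ} {l : ℕ} (hl : l.Prime) (hv : v ^ l = 1) (hreg : Reg v) {i : ℤ} (hi : v ^ i ≠ 1) :
    Reg (v ^ i) := by
  intro r hr h1
  rw [val_zpow, ← orderOf_dvd_iff_zpow_eq_one] at h1
  have ho : orderOf (val r v) = l := by
    haveI : Fact l.Prime := ⟨hl⟩
    exact orderOf_eq_prime (by rw [← val_pow, hv, val_one]) (hreg r hr)
  rw [ho] at h1
  obtain ⟨c, rfl⟩ := h1
  refine hi ?_
  rw [zpow_mul, zpow_natCast, hv, one_zpow]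

/-- Two roots of the same length are separated by a regular element of prime order. -/
theorem root_sep {v : Eˣ × Eˣ} {l : ℕ} (hl : l.Prime) (h3 : 3 < l) (hv : v ^ l = 1) (hreg : Reg v) {a b : ℕ}
    (ha : a < 12) (hb : b < 12) (he : G2.xtab.e a = G2.xtab.e b) (h : val a v = val b v) : a = b := by
  by_contra hne
  obtain ⟨β, k, hk, e1, e2⟩ := same_length_cert ⟨a, ha⟩ ⟨b, hb⟩ he (fun e => hne (congrArg Fin.val e))
  simp only at e1 e2
  refine hreg β.val (nroots_eq.symm ▸ β.isLt) (eq_one_of_pow hl h3 hk (by rw [← val_pow, hv, val_one]) ?_)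
  have : val β.val v ^ (k : ℤ) = val a v * (val b v)⁻¹ := by
    simp only [val, mul_zpow, ← zpow_mul, mul_comm _ (k : ℤ), ← e1, ← e2, zpow_sub, mul_inv]
    ac_rfl
  rw [← zpow_natCast, this, h, mul_inv_cancel]

theorem sol_det {P : ℕ × ℕ} {e : ℕ} {v : Eˣ × Eˣ} (hv : v ∈ (Sol P e : Subgroup (Eˣ × Eˣ))) :
    v ^ ((cr P.1).1 * (cr P.2).2 - ((cr P.1).2 - e) * ((cr P.2).1 - 3 * e)) = 1 := by
  obtain ⟨h1, h2⟩ := mem_KK.mp hv
  set a := (cr P.1).1
  set b := (cr P.1).2 - (e : ℤ)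
  set c := (cr P.2).1 - 3 * (e : ℤ)
  set d := (cr P.2).2
  refine Prod.ext ?_ ?_
  · have h := congrArg₂ (· * ·) (congrArg (· ^ d) h1) (congrArg (· ^ (-b)) h2)
    simp only [mul_zpow, ← zpow_mul, one_zpow, mul_one] at h
    rw [mul_mul_mul_comm, ← zpow_add, ← zpow_add] at h
    show v.1 ^ (a * d - b * c) = 1
    rw [← h]
    rw [show b * d + d * -b = 0 by ring, zpow_zero, mul_one]
    congr 1
    ring
  · have h := congrArg₂ (· * ·) (congrArg (· ^ (-c)) h1) (congrArg (· ^ a) h2)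
    simp only [mul_zpow, ← zpow_mul, one_zpow, mul_one] at h
    rw [mul_mul_mul_comm, ← zpow_add, ← zpow_add] at h
    show v.2 ^ (a * d - b * c) = 1
    rw [← h]
    rw [show a * -c + c * a = 0 by ring, zpow_zero, one_mul]
    congr 1
    ring

end Values

namespace Tw

variable {F : Type*} [Field F] (S : Tw F) [CharP F 3] [Fintype F] {m : ℕ}

theorem Big.val_tw {E : Type*} [Field E] {S : Tw F} (B : S.Big E) (v : Eˣ × Eˣ) {r : ℕ} (hr : r < 12) :
    val (G2.xtab.pi r) (B.tw v) = val r v ^ (3 ^ B.m * G2.xtab.e r) := by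
  obtain ⟨hπ, -, -, -⟩ := short_long ⟨r, hr⟩
  simp only at hπ
  have hr' : r < chevG2.nroots := nroots_eq.symm ▸ hr
  have e := congrArg B.sE (dg_conj v hr' (1 : E))
  rw [map_mul, map_mul, map_inv, B.sE_X r hr', B.sE_dg, B.sE_X r hr', one_pow, one_pow, mul_one,
    dg_conj _ (nroots_eq.symm ▸ hπ), mul_one] at e
  exact Units.ext ((xG_param (nroots_eq.symm ▸ hπ) e).trans (by rw [Units.val_pow_eq_pow_val, pow_mul]))

/-- The normaliser of a cyclic subgroup of prime order at least five. -/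
theorem norm_bound (hm : 1 ≤ m) (hK : Fintype.card F = 3 ^ (2 * m + 1)) (hth : ∀ x, S.th x = x ^ 3 ^ m) {y : ↥S.Gr}
    {l : ℕ} (hl : l.Prime) (h5 : 5 ≤ l) (hord : orderOf y = l) :
    Nat.card ↥(Subgroup.normalizer (Subgroup.zpowers y : Set ↥S.Gr)) ≤
        6 * Nat.card ↥(Subgroup.centralizer ({y} : Set ↥S.Gr)) ∧
      (l ∣ Fintype.card F - 1 → Nat.card ↥(Subgroup.normalizer (Subgroup.zpowers y : Set ↥S.Gr)) ≤
        2 * Nat.card ↥(Subgroup.centralizer ({y} : Set ↥S.Gr))) := by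
  classical
  obtain ⟨h7, hdvd⟩ := S.prime_facts hK hl h5 (hord ▸ orderOf_dvd_natCard y)
  obtain ⟨E, iE, iC, ⟨B⟩⟩ := S.exists_big hK hth
  haveI := B.finE
  have hBm : B.m = m := by
    have := Nat.pow_right_injective (le_refl 2 |>.trans (by norm_num : 2 ≤ 3)) (B.card_F.symm.trans hK)
    omega
  have hordG : orderOf (S.toG y) = l := by rw [orderOf_injective S.toG S.toG_injective, hord]
  obtain ⟨g₀, v, hreg, hvl, hgv, hn⟩ := B.exists_position (S.sg_toG y) hl h7 hdvd hordG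
  have hreg' : Reg (B.tw v) := by
    intro r hr h1
    have hr12 : r < 12 := nroots_eq ▸ hr
    obtain ⟨hπ, -, hππ, -⟩ := short_long ⟨r, hr12⟩
    simp only at hπ hππ
    rw [← hππ, B.val_tw v hπ] at h1
    obtain ⟨-, hee, -, -⟩ := short_long ⟨_, hπ⟩
    simp only at hee
    refine hreg _ (nroots_eq.symm ▸ hπ) (orderOf_eq_one_iff.mp (Nat.eq_one_of_dvd_coprimes
      (k := orderOf (val (G2.xtab.pi r) v)) ?_
      (orderOf_dvd_of_pow_eq_one (by rw [← val_pow, hvl, val_one] : val (G2.xtab.pi r) v ^ l = 1))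
      (orderOf_dvd_of_pow_eq_one h1)))
    have h3 : Nat.Coprime l 3 := (Nat.coprime_primes hl Nat.prime_three).mpr (by omega)
    rcases hee with h | h <;> rw [h]
    · exact Nat.Coprime.mul_right (h3.pow_right _) h3
    · rw [mul_one]; exact h3.pow_right _
  obtain ⟨-, P, hP, -, hP1, hP2⟩ := mono_of_conj hreg hreg' hn
  set M := Subgroup.normalizer (Subgroup.zpowers y : Set ↥S.Gr)
  set C := Subgroup.centralizer ({y} : Set ↥S.Gr)
  let ι : ↥S.Gr →* ↥(chevG2.group E) := B.inc.comp S.toG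
  have hι : Function.Injective ι := B.inc_injective.comp S.toG_injective
  have hy : ι y = g₀ * dg v * g₀⁻¹ := hgv.symm
  let O := {y' : ↥S.Gr // ∃ g ∈ M, g * y * g⁻¹ = y'}
  have hlt : ∀ R ∈ Wl, ∀ r < 12, perm R r < 12 := fun R hR r hr => ((perm_ok R hR).2.2 ⟨r, hr⟩).1
  have hQ : ∀ o : O, ∃ Q, Q ∈ Wl.filter (okQ P) ∧ ∃ v' : Eˣ × Eˣ, ι o.1 = g₀ * dg v' * g₀⁻¹ ∧
      ∀ r < 12, val (perm Q r) v' = val r v := by
    rintro ⟨y', g, hg, rfl⟩
    obtain ⟨i, hi⟩ := Subgroup.mem_zpowers_iff.mp ((Subgroup.mem_normalizer_iff.mp hg y).mp (Subgroup.mem_zpowers y))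
    have hιi : ι (g * y * g⁻¹) = g₀ * dg (v ^ i) * g₀⁻¹ := by
      rw [← hi, map_zpow, hy, conj_zpow, map_zpow]
    have hne : v ^ i ≠ 1 := fun h => by
      rw [h, map_one, mul_one, mul_inv_cancel] at hιi
      have := hι (hιi.trans (map_one ι).symm)
      rw [conj_eq_one_iff] at this
      exact hl.ne_one (by rw [← hord, this, orderOf_one])
    have hv' : Reg (v ^ i) := reg_zpow hl hvl hreg hne
    have hv'l : (v ^ i) ^ l = 1 := by
      rw [← zpow_natCast, ← zpow_mul, mul_comm, zpow_mul, zpow_natCast, hvl, one_zpow]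
    set h := g₀⁻¹ * ι g * g₀ with hh
    have hc : h * dg v * h⁻¹ = dg (v ^ i) := by
      calc h * dg v * h⁻¹ = g₀⁻¹ * (ι g * (g₀ * dg v * g₀⁻¹) * (ι g)⁻¹) * g₀ := by rw [hh]; simp [mul_assoc]
        _ = g₀⁻¹ * ι (g * y * g⁻¹) * g₀ := by rw [map_mul, map_mul, map_inv, hy]
        _ = _ := by rw [hιi]; simp [mul_assoc]
    obtain ⟨-, Q, hQm, hA, -, -⟩ := mono_of_conj hv' hreg hc
    have hQv : ∀ r < 12, val (perm Q r) (v ^ i) = val r v := fun r hr => act_val hA hc (nroots_eq.symm ▸ hr)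
    have hrel : ∀ r < 12, val (perm P (G2.xtab.pi r)) v = val r v ^ (3 ^ B.m * G2.xtab.e r) := by
      intro r hr
      obtain ⟨hπ, -⟩ := short_long ⟨r, hr⟩
      simp only at hπ
      rw [val_perm hP hπ, hP1, hP2, ← B.val_tw v hr]
    refine ⟨Q, List.mem_filter.mpr ⟨hQm, List.all_eq_true.mpr fun r hr => beq_iff_eq.mpr ?_⟩, _, hιi, hQv⟩
    rw [List.mem_range] at hr
    obtain ⟨hπ, -⟩ := short_long ⟨r, hr⟩
    obtain ⟨hπ', -⟩ := short_long ⟨_, hlt Q hQm r hr⟩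
    simp only at hπ hπ'
    refine root_sep hl (by omega) hv'l hv' (hlt Q hQm _ (hlt P hP _ hπ)) (hlt P hP _ hπ') ?_ ?_
    · rw [length_cert Q hQm ⟨_, hlt P hP _ hπ⟩, length_cert P hP ⟨_, hπ⟩, length_cert P hP ⟨_, hπ'⟩]
      exact length_pi ⟨r, hr⟩ ⟨_, hlt Q hQm r hr⟩ (length_cert Q hQm ⟨r, hr⟩).symm
    · rw [hQv _ (hlt P hP _ hπ), hrel r hr, val_zpow, hrel _ (hlt Q hQm r hr),
        length_cert Q hQm ⟨r, hr⟩, ← hQv r hr, val_zpow]
      rw [← zpow_natCast, ← zpow_natCast, ← zpow_mul, ← zpow_mul, mul_comm]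
  choose Qf hQf hv'f using hQ
  have hinj : Function.Injective Qf := by
    intro o o' hoo
    obtain ⟨v₁, e1, f1⟩ := hv'f o
    obtain ⟨v₂, e2, f2⟩ := hv'f o'
    rw [← hoo] at f2
    obtain ⟨hQW, -⟩ := List.mem_filter.mp (hQf o)
    obtain ⟨-, -, ⟨r7, hr7⟩, ⟨r6, hr6⟩⟩ := perm_fund _ hQW
    have k7 := (f1 _ r7.isLt).trans (f2 _ r7.isLt).symm
    have k6 := (f1 _ r6.isLt).trans (f2 _ r6.isLt).symm
    rw [hr7, val_seven, val_seven] at k7
    rw [hr6, val_six, val_six] at k6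
    rw [Prod.ext k7 k6, ← e2] at e1
    exact Subtype.ext (hι e1)
  have hO : Nat.card O ≤ (Wl.filter (okQ P)).length := by
    haveI : Fintype O := Fintype.ofFinite O
    rw [Nat.card_eq_fintype_card, ← Finset.card_univ, ← Finset.card_image_of_injective _ hinj]
    exact (Finset.card_le_card fun Q hQ => by
      obtain ⟨o, -, rfl⟩ := Finset.mem_image.mp hQ
      exact List.mem_toFinset.mpr (hQf o)).trans (List.toFinset_card_le _)
  have hCM : C ≤ M := fun x hx => by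
    rw [Subgroup.mem_normalizer_iff_map_conj_eq, MonoidHom.map_zpowers]
    congr 1
    show x * y * x⁻¹ = y
    rw [Subgroup.mem_centralizer_singleton_iff.mp hx, mul_inv_cancel_right]
  have hN : Nat.card ↥M ≤ Nat.card O * Nat.card ↥C := by
    rw [Subgroup.card_eq_card_quotient_mul_card_subgroup (C.subgroupOf M),
      Nat.card_congr (Subgroup.subgroupOfEquivOfLe hCM).toEquiv]
    refine Nat.mul_le_mul_right _ (Nat.card_le_card_of_injective (fun q : ↥M ⧸ C.subgroupOf M =>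
      (⟨(q.out : ↥S.Gr) * y * (q.out : ↥S.Gr)⁻¹, q.out, q.out.2, rfl⟩ : O)) ?_)
    intro a b hab
    have e : (a.out : ↥S.Gr) * y * (a.out : ↥S.Gr)⁻¹ = b.out * y * (b.out : ↥S.Gr)⁻¹ := congrArg Subtype.val hab
    rw [← a.out_eq', ← b.out_eq', QuotientGroup.eq, Subgroup.mem_subgroupOf, Subgroup.coe_mul, Subgroup.coe_inv,
      Subgroup.mem_centralizer_singleton_iff]
    calc (a.out : ↥S.Gr)⁻¹ * b.out * y = (a.out : ↥S.Gr)⁻¹ * (b.out * y * (b.out : ↥S.Gr)⁻¹) * b.out := by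
          simp [mul_assoc]
      _ = _ := by rw [← e]; simp [mul_assoc]
  obtain ⟨c6, c2, hdk⟩ := okQ_count P hP
  refine ⟨hN.trans (Nat.mul_le_mul_right _ (hO.trans c6)), fun hq1 => hN.trans (Nat.mul_le_mul_right _ (hO.trans (c2 ?_)))⟩
  by_contra hδ
  have hvS : v ∈ (Sol P (3 ^ B.m) : Subgroup (Eˣ × Eˣ)) := mem_Sol.mpr ⟨hP1, hP2⟩
  have hdet := sol_det hvS
  have hvo : orderOf v = l := by
    haveI : Fact l.Prime := ⟨hl⟩
    refine orderOf_eq_prime hvl fun h => ?_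
    rw [h] at hy
    rw [map_one, mul_one, mul_inv_cancel] at hy
    exact hl.ne_one (by rw [← hord, hι (hy.trans (map_one ι).symm), orderOf_one])
  rw [← orderOf_dvd_iff_zpow_eq_one, hvo, hBm] at hdet
  obtain ⟨a1, -⟩ := arith' (F := F) hm hK
  have hq : (Fintype.card F : ℤ) = 3 * ((3 ^ m : ℕ) : ℤ) ^ 2 := by
    rw [hK]; push_cast; ring
  have hr : ((3 ^ (m + 1) : ℕ) : ℤ) = 3 * ((3 ^ m : ℕ) : ℤ) := by rw [pow_succ']; push_cast; ring
  have hlq : ¬ l ∣ Fintype.card F := fun h => by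
    have := (Nat.prime_dvd_prime_iff_eq hl Nat.prime_three).mp (hl.dvd_of_dvd_pow (hK ▸ h))
    omega
  have hrr : 3 ^ (m + 1) * 3 ^ (m + 1) = 3 * Fintype.card F := by
    rw [hK, ← pow_add, ← pow_succ']; congr 1; omega
  have hcontra : ∀ D ∈ torusOrders (Fintype.card F) (3 ^ (m + 1)), (l : ℤ) ∣ (D : ℤ) → D = Fintype.card F - 1 :=
    fun D hD hd => orders_unique (by omega) hrr hl h5 hlq hD (by simp [torusOrders]) (Int.natCast_dvd_natCast.mp hd) hq1
  set a := (cr P.1).1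
  set b := (cr P.1).2
  set c := (cr P.2).1
  set d := (cr P.2).2
  have hexp : a * d - (b - ((3 ^ m : ℕ) : ℤ)) * (c - 3 * ((3 ^ m : ℕ) : ℤ)) =
      (a * d - c * b) + (3 * b + c) * ((3 ^ m : ℕ) : ℤ) - 3 * ((3 ^ m : ℕ) : ℤ) ^ 2 := by ring
  rw [hexp] at hdet
  simp only [List.mem_cons, List.not_mem_nil, or_false, Prod.mk.injEq] at hdk
  have hpos : 0 < 3 ^ (m + 1) := pow_pos (by norm_num) _
  rcases hdk with ⟨h1, h2⟩ | ⟨h1, h2⟩ | ⟨h1, h2⟩ | ⟨h1, h2⟩
  · exact hδ h1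
  all_goals rw [h1, h2] at hdet
  · have := hcontra (Fintype.card F - 3 ^ (m + 1) + 1) (by simp [torusOrders]) (by
      rw [Nat.cast_add, Nat.cast_sub (by omega), Nat.cast_one, hq, hr, ← dvd_neg]
      convert hdet using 1 <;> first | rfl | ring)
    omega
  · have := hcontra (Fintype.card F + 3 ^ (m + 1) + 1) (by simp [torusOrders]) (by
      rw [Nat.cast_add, Nat.cast_add, Nat.cast_one, hq, hr, ← dvd_neg]
      convert hdet using 1 <;> first | rfl | ring)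
    omega
  · have := hcontra (Fintype.card F + 1) (by simp [torusOrders]) (by
      rw [Nat.cast_add, Nat.cast_one, hq, ← dvd_neg]
      convert hdet using 1 <;> first | rfl | ring)
    omega

end Tw

end Cfsg.Agent.SmallRee
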