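import Cfsg.Agent.Lib.SmallRee.Orders
import Cfsg.Agent.Lib.SmallRee.NormBound

/-!
Conjugacy classes of the tori: the elements of a given order lie in a unique conjugate.
-/

set_option autoImplicit false
set_option maxRecDepth 20000

namespace Cfsg.Agent.SmallRee

open scoped Pointwise

theorem coprime_split {C : Type*} [Group C] [Finite C] (hc : IsMulCommutative C) {A : Subgroup C} {d k : ℕ}
    (hcard : Nat.card C = d * k) (hA : Nat.card ↥A = k) (hco : Nat.Coprime d k) :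
    ∃ e : {w : C // w ^ d = 1} × ↥A ≃ C, ∀ p, orderOf (e p) = orderOf p.1.1 * orderOf p.2.1 := by
  haveI := hc
  have hcomm : ∀ a b : C, a * b = b * a := hc.is_comm.comm
  haveI : A.Normal := ⟨fun n hn g => by rwa [hcomm g n, mul_inv_cancel_right]⟩
  have hk : 0 < k := hA ▸ Nat.card_pos
  have hidx : A.index = d := by
    have h := A.card_mul_index
    rw [hA, hcard, mul_comm d] at h
    exact mul_left_cancel₀ hk.ne' h
  have hAk : ∀ a : C, a ^ k = 1 → a ∈ A := fun a ha => Cfsg.Agent.Solv.mem_of_coprime_index A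
    (hidx ▸ (hco.symm.coprime_dvd_left (orderOf_dvd_of_pow_eq_one ha)))
  have hAo : ∀ a : ↥A, orderOf (a : C) ∣ k := fun a => by
    rw [Subgroup.orderOf_coe, ← hA]; exact orderOf_dvd_natCard a
  have hcop : ∀ (w : {w : C // w ^ d = 1}) (a : ↥A), Nat.Coprime (orderOf w.1) (orderOf (a : C)) := fun w a =>
    (hco.coprime_dvd_left (orderOf_dvd_of_pow_eq_one w.2)).coprime_dvd_right (hAo a)
  let f : {w : C // w ^ d = 1} × ↥A → C := fun p => p.1.1 * p.2.1
  have ho : ∀ p, orderOf (f p) = orderOf p.1.1 * orderOf p.2.1 := fun p =>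
    (show Commute _ _ from hcomm _ _).orderOf_mul_eq_mul_orderOf_of_coprime (hcop p.1 p.2)
  have hbij : Function.Bijective f := by
    constructor
    · rintro ⟨w, a⟩ ⟨w', a'⟩ (h : w.1 * a.1 = w'.1 * a'.1)
      have h1 : w'.1⁻¹ * w.1 = a'.1 * a.1⁻¹ := by
        rw [eq_mul_inv_iff_mul_eq, mul_assoc, h, inv_mul_cancel_left]
      have h2 : (w'.1⁻¹ * w.1) ^ d = 1 := by
        rw [(show Commute _ _ from hcomm _ _).mul_pow, inv_pow, w'.2, w.2, inv_one, one_mul]
      have h3 : orderOf (w'.1⁻¹ * w.1) = 1 := Nat.eq_one_of_dvd_coprimes hco (orderOf_dvd_of_pow_eq_one h2)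
        (h1 ▸ hAo ⟨_, mul_mem a'.2 (inv_mem a.2)⟩)
      rw [orderOf_eq_one_iff] at h3
      refine Prod.ext (Subtype.ext (inv_mul_eq_one.mp h3).symm) (Subtype.ext ?_)
      rw [h3] at h1
      exact (mul_inv_eq_one.mp h1.symm).symm
    · intro c
      have hN : c ^ (d * k) = 1 := hcard ▸ pow_card_eq_one'
      have hb : (1 : ℤ) = d * d.gcdA k + k * d.gcdB k := by
        rw [← Nat.gcd_eq_gcd_ab, hco.gcd_eq_one]; rfl
      refine ⟨⟨⟨c ^ ((k : ℤ) * d.gcdB k), ?_⟩, ⟨c ^ ((d : ℤ) * d.gcdA k), hAk _ ?_⟩⟩, ?_⟩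
      · rw [← zpow_natCast, ← zpow_mul, show (k : ℤ) * d.gcdB k * d = ((d * k : ℕ) : ℤ) * d.gcdB k by push_cast; ring,
          zpow_mul, zpow_natCast, hN, one_zpow]
      · rw [← zpow_natCast, ← zpow_mul, show (d : ℤ) * d.gcdA k * k = ((d * k : ℕ) : ℤ) * d.gcdA k by push_cast; ring,
          zpow_mul, zpow_natCast, hN, one_zpow]
      · show c ^ ((k : ℤ) * d.gcdB k) * c ^ ((d : ℤ) * d.gcdA k) = c
        rw [← zpow_add, add_comm, ← hb, zpow_one]
  exact ⟨Equiv.ofBijective f hbij, ho⟩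

/-- The index of the odd core in its torus. -/
def dOf (q k : ℕ) : ℕ := if k = (q - 1) / 2 then 2 else if k = (q + 1) / 4 then 4 else 1

/-- The index of the torus in its normaliser. -/
def cOf (q k : ℕ) : ℕ := if k = (q - 1) / 2 then 2 else 6

/-- Having a prime divisor in common with the core, at least five. -/
def pk (k n : ℕ) : Prop := ∃ l : ℕ, l.Prime ∧ 5 ≤ l ∧ l ∣ n ∧ l ∣ k

theorem pk_of_dvd {k i : ℕ} (ko : Odd k) (k3 : ¬ 3 ∣ k) (hi : 1 < i) (hik : i ∣ k) {n : ℕ} (h : i ∣ n) : pk k n := by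
  obtain ⟨l, hl, hli⟩ := Nat.exists_prime_and_dvd hi.ne'
  exact ⟨l, hl, dvd_five ko k3 hik hl hli, hli.trans h, hli.trans hik⟩
where
  dvd_five {d k : ℕ} (hk2 : Odd k) (hk3 : ¬ 3 ∣ k) (hd : d ∣ k) {l : ℕ} (hl : l.Prime) (hld : l ∣ d) : 5 ≤ l := by
    by_contra hc
    have h2 := hl.two_le
    interval_cases l
    · exact hk2.not_two_dvd_nat (hld.trans hd)
    · exact hk3 (hld.trans hd)
    · norm_num at hl

namespace Tw

variable {F : Type*} [Field F] (S : Tw F) [CharP F 3] [Fintype F] {m : ℕ}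

theorem dOf_spec (hm : 1 ≤ m) (hK : Fintype.card F = 3 ^ (2 * m + 1)) {k : ℕ}
    (hk : k ∈ oddOrders (Fintype.card F) (3 ^ (m + 1))) :
    bigOf (Fintype.card F) (3 ^ (m + 1)) k = dOf (Fintype.card F) k * k ∧ Nat.Coprime (dOf (Fintype.card F) k) k ∧
      dOf (Fintype.card F) k ∈ [1, 2, 4] := by
  obtain ⟨ko, -⟩ := oddOrders_spec hm hK hk
  obtain ⟨a1, a2, a3, a4, a5, o1, o2, o3, o4, b1, b2, b3, b4⟩ := arith' (F := F) hm hK
  simp only [bigOf, dOf]
  have c2 : Nat.Coprime 2 k := Nat.coprime_two_left.mpr ko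
  split_ifs with h1 h2
  · exact ⟨by rw [h1]; omega, c2, by simp⟩
  · exact ⟨by rw [h2]; omega, (c2.pow_left 2 : Nat.Coprime (2 ^ 2) k), by simp⟩
  · exact ⟨(one_mul k).symm, Nat.coprime_one_left k, by simp⟩

/-- The torus of a core. -/
theorem torus_of_core (hm : 1 ≤ m) (hK : Fintype.card F = 3 ^ (2 * m + 1)) (hth : ∀ x, S.th x = x ^ 3 ^ m) {k : ℕ}
    (hk : k ∈ oddOrders (Fintype.card F) (3 ^ (m + 1))) {A : Subgroup ↥S.Gr} (hA : IsCyclic ↥A)
    (hAk : Nat.card ↥A = k) :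
    A ≠ ⊥ ∧ A ≤ Subgroup.centralizer (A : Set ↥S.Gr) ∧
      IsTorusGp (Fintype.card F) (3 ^ (m + 1)) ↥(Subgroup.centralizer (A : Set ↥S.Gr)) ∧
      Nat.card ↥(Subgroup.centralizer (A : Set ↥S.Gr)) = bigOf (Fintype.card F) (3 ^ (m + 1)) k := by
  have hne : A ≠ ⊥ := fun h => by
    obtain ⟨-, -, k1, -⟩ := oddOrders_spec hm hK hk
    rw [h, Subgroup.card_bot] at hAk
    omega
  obtain ⟨h1, h2, -⟩ := S.cent_odd hm hK hth hk hne hAk.dvd (cyclic_le_cent hA)
  exact ⟨hne, cyclic_le_cent hA, h1, h2⟩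

theorem norm_sub (hm : 1 ≤ m) (hK : Fintype.card F = 3 ^ (2 * m + 1)) (hth : ∀ x, S.th x = x ^ 3 ^ m) {k : ℕ}
    (hk : k ∈ oddOrders (Fintype.card F) (3 ^ (m + 1))) {A A₀ : Subgroup ↥S.Gr} (hA : IsCyclic ↥A)
    (hAk : Nat.card ↥A = k) (hle : A₀ ≤ A) (h0 : A₀ ≠ ⊥) :
    Subgroup.normalizer (A₀ : Set ↥S.Gr) = Subgroup.normalizer (A : Set ↥S.Gr) := by
  obtain ⟨-, hAC, hT, -⟩ := S.torus_of_core hm hK hth hk hA hAk
  obtain ⟨ko, -⟩ := oddOrders_spec hm hK hk
  haveI := hA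
  refine le_antisymm (fun g hg => ?_) (fun g hg => ?_)
  · have hle' : A.map (MulAut.conj g).toMonoidHom ≤ Subgroup.centralizer (A : Set ↥S.Gr) := by
      rw [← S.cent_sub_eq hm hK hth hk hA hAk.dvd hle h0]
      rintro _ ⟨x, hx, rfl⟩
      exact map_conj_centralizer hg (Subgroup.centralizer_le hle (hAC hx))
    rw [Subgroup.mem_normalizer_iff_map_conj_eq]
    exact ((torus_odd (arith' hm hK).2.2.1 hT hAC (hAk ▸ ko)).2 _ hle'
      (Subgroup.card_map_of_injective (MulAut.conj g).injective)).symm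
  · rw [Subgroup.mem_normalizer_iff_map_conj_eq] at hg ⊢
    refine sub_cyclic_eq (Z := A) ((Subgroup.map_mono hle).trans hg.le) hle
      (Subgroup.card_map_of_injective (MulAut.conj g).injective).symm

theorem norm_le (hm : 1 ≤ m) (hK : Fintype.card F = 3 ^ (2 * m + 1)) (hth : ∀ x, S.th x = x ^ 3 ^ m) {k : ℕ}
    (hk : k ∈ oddOrders (Fintype.card F) (3 ^ (m + 1))) {A : Subgroup ↥S.Gr} (hA : IsCyclic ↥A)
    (hAk : Nat.card ↥A = k) :
    Nat.card ↥(Subgroup.normalizer (A : Set ↥S.Gr)) ≤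
      cOf (Fintype.card F) k * bigOf (Fintype.card F) (3 ^ (m + 1)) k := by
  obtain ⟨ko, k3, k1, kb, kt⟩ := oddOrders_spec hm hK hk
  obtain ⟨l, hl, hlk⟩ := Nat.exists_prime_and_dvd k1.ne'
  haveI : Fact l.Prime := ⟨hl⟩
  have h5 := dvd_five ko k3 dvd_rfl hl hlk
  obtain ⟨z, hz⟩ := exists_prime_orderOf_dvd_card' (G := ↥A) l (hAk.symm ▸ hlk)
  rw [← Subgroup.orderOf_coe] at hz
  have hne : Subgroup.zpowers (z : ↥S.Gr) ≠ ⊥ := fun e => by
    rw [Subgroup.zpowers_eq_bot] at e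
    rw [e, orderOf_one] at hz
    exact hl.one_lt.ne hz
  have hcard := S.card_cent hm hK hth hl h5 hz kt (hlk.trans kb)
  obtain ⟨h6, h2⟩ := S.norm_bound hm hK hth hl h5 hz
  rw [S.norm_sub hm hK hth hk hA hAk (Subgroup.zpowers_le.mpr z.2) hne, hcard] at h6 h2
  rw [cOf]
  split_ifs with h
  · refine h2 (hlk.trans ?_)
    rw [h]
    obtain ⟨-, a2, -, -, a5, -⟩ := arith' (F := F) hm hK
    exact Dvd.intro 2 (by omega)
  · exact h6

/-- Elements of orders meeting the core are counted in one torus. -/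
theorem kind_count (hm : 1 ≤ m) (hK : Fintype.card F = 3 ^ (2 * m + 1)) (hth : ∀ x, S.th x = x ^ 3 ^ m) {k : ℕ}
    (hk : k ∈ oddOrders (Fintype.card F) (3 ^ (m + 1))) {A : Subgroup ↥S.Gr} (hA : IsCyclic ↥A)
    (hAk : Nat.card ↥A = k) (p : ℕ → Prop) (hp : ∀ n, p n → pk k n) :
    Nat.card {x : ↥S.Gr // p (orderOf x)} = (Subgroup.normalizer (A : Set ↥S.Gr)).index *
      Nat.card {c : ↥(Subgroup.centralizer (A : Set ↥S.Gr)) // p (orderOf c)} := by
  obtain ⟨-, hAC, hT, -⟩ := S.torus_of_core hm hK hth hk hA hAk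
  obtain ⟨ko, k3, k1, kb, kt⟩ := oddOrders_spec hm hK hk
  haveI := hA
  set N := Subgroup.normalizer (A : Set ↥S.Gr)
  set C := Subgroup.centralizer (A : Set ↥S.Gr)
  rw [Subgroup.index_eq_card, ← Nat.card_prod]
  refine (Nat.card_eq_of_bijective (fun p' : (↥S.Gr ⧸ N) × {c : ↥C // p (orderOf c)} =>
    (⟨p'.1.out * (p'.2.1 : ↥S.Gr) * p'.1.out⁻¹, by
      rw [← MulAut.conj_apply, MulEquiv.orderOf_eq, Subgroup.orderOf_coe]; exact p'.2.2⟩ :
      {x : ↥S.Gr // p (orderOf x)})) ⟨?_, ?_⟩).symm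
  · rintro ⟨a, c, hc⟩ ⟨a', c', hc'⟩ h
    have e : a.out * (c : ↥S.Gr) * a.out⁻¹ = a'.out * (c' : ↥S.Gr) * a'.out⁻¹ := congrArg Subtype.val h
    set w := a'.out⁻¹ * a.out with hw
    have hwc : w * (c : ↥S.Gr) * w⁻¹ = c' := by
      rw [hw]
      calc a'.out⁻¹ * a.out * (c : ↥S.Gr) * (a'.out⁻¹ * a.out)⁻¹
          = a'.out⁻¹ * (a.out * (c : ↥S.Gr) * a.out⁻¹) * a'.out := by simp [mul_assoc]
        _ = _ := by rw [e]; simp [mul_assoc]
    obtain ⟨l, hl, h5, hlo, hlk⟩ := hp _ hc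
    haveI : Fact l.Prime := ⟨hl⟩
    rw [← Subgroup.orderOf_coe] at hlo
    set o := orderOf (c : ↥S.Gr)
    have hinA : ∀ x : ↥S.Gr, x ∈ C → orderOf x = l → x ∈ A := by
      intro x hx hxo
      obtain ⟨a₀, ha₀⟩ := exists_prime_orderOf_dvd_card' (G := ↥A) l (hAk.symm ▸ hlk)
      rw [← Subgroup.orderOf_coe] at ha₀
      have he := (torus_odd (arith' hm hK).2.2.1 hT (Subgroup.zpowers_le.mpr hx)
        (by rw [Nat.card_zpowers, hxo]; exact hl.odd_of_ne_two (by omega))).2 _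
        (Subgroup.zpowers_le.mpr (hAC a₀.2)) (by rw [Nat.card_zpowers, Nat.card_zpowers, ha₀, hxo])
      exact Subgroup.zpowers_le.mpr a₀.2 (he ▸ Subgroup.mem_zpowers x)
    set z := (c : ↥S.Gr) ^ (o / l)
    have hzo : orderOf z = l := orderOf_pow_orderOf_div (orderOf_pos _).ne' hlo
    have hzA : z ∈ A := hinA z (pow_mem c.2 _) hzo
    have hz'A : w * z * w⁻¹ ∈ A := by
      refine hinA _ ?_ (by rw [← MulAut.conj_apply, MulEquiv.orderOf_eq, hzo])
      rw [← conj_pow, hwc]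
      exact pow_mem c'.2 _
    have hne : Subgroup.zpowers z ≠ ⊥ := fun e => by
      rw [Subgroup.zpowers_eq_bot] at e
      rw [e, orderOf_one] at hzo
      exact hl.one_lt.ne hzo
    have hwN : w ∈ N := by
      show w ∈ Subgroup.normalizer (A : Set ↥S.Gr)
      rw [← S.norm_sub hm hK hth hk hA hAk (Subgroup.zpowers_le.mpr hzA) hne, Subgroup.mem_normalizer_iff_map_conj_eq,
        MonoidHom.map_zpowers]
      refine sub_cyclic_eq (Z := A) (Subgroup.zpowers_le.mpr hz'A) (Subgroup.zpowers_le.mpr hzA) ?_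
      rw [Nat.card_zpowers, Nat.card_zpowers]
      exact (MulEquiv.orderOf_eq (MulAut.conj w) z).symm
    have haa : a' = a := by
      rw [← a.out_eq', ← a'.out_eq', QuotientGroup.eq]
      exact hwN
    subst haa
    rw [hw, inv_mul_cancel, one_mul, inv_one, mul_one] at hwc
    exact Prod.ext rfl (Subtype.ext (Subtype.ext hwc))
  · rintro ⟨x, hx⟩
    obtain ⟨l, hl, h5, hlx, hlk⟩ := hp _ hx
    set z := x ^ (orderOf x / l)
    have hzo : orderOf z = l := orderOf_pow_orderOf_div (orderOf_pos x).ne' hlx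
    obtain ⟨k', hk', hlk', A', hA', hA'k, -, -, hCA', -⟩ := S.exists_core hm hK hth hl h5 hzo
    have e1 := S.card_cent hm hK hth hl h5 hzo kt (hlk.trans kb)
    have e2 := S.card_cent hm hK hth hl h5 hzo (oddOrders_spec hm hK hk').2.2.2.2
      (hlk'.trans (oddOrders_spec hm hK hk').2.2.2.1)
    obtain ⟨a1, a2, a3, a4, a5, o1, o2, o3, o4, b1, b2, b3, b4⟩ := arith' (F := F) hm hK
    obtain rfl : k = k' := bigOf_inj a1 a2 a5 (pow_pos (by norm_num) _) b2 hk hk' (e1.symm.trans e2)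
    obtain ⟨g, hg⟩ := S.cyclic_conj hm hK hth hk dvd_rfl hA hA' hAk hA'k
    set a : ↥S.Gr ⧸ N := (g : ↥S.Gr ⧸ N)
    have hn : g⁻¹ * a.out ∈ N := by rw [← QuotientGroup.eq, QuotientGroup.out_eq']
    have hcC : a.out⁻¹ * x * a.out ∈ C := by
      refine Subgroup.mem_centralizer_iff.mpr fun b hb => ?_
      have hb' : g⁻¹ * a.out * b * (g⁻¹ * a.out)⁻¹ ∈ A := (Subgroup.mem_normalizer_iff.mp hn b).mp hb
      have hbA' : a.out * b * a.out⁻¹ ∈ A' := by
        rw [hg]
        exact ⟨_, hb', by simp [mul_assoc]⟩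
      have hxC : x ∈ Subgroup.centralizer (A' : Set ↥S.Gr) := by
        rw [hCA']
        exact Subgroup.mem_centralizer_singleton_iff.mpr (Commute.self_pow x _).eq
      have e := Subgroup.mem_centralizer_iff.mp hxC _ hbA'
      calc b * (a.out⁻¹ * x * a.out) = a.out⁻¹ * (a.out * b * a.out⁻¹ * x) * a.out := by simp [mul_assoc]
        _ = _ := by rw [e]; simp [mul_assoc]
    refine ⟨(a, ⟨⟨_, hcC⟩, ?_⟩), Subtype.ext (by simp [mul_assoc])⟩
    rw [← Subgroup.orderOf_coe]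
    show p (orderOf (a.out⁻¹ * x * a.out))
    rwa [show a.out⁻¹ * x * a.out = MulAut.conj a.out⁻¹ x by simp, MulEquiv.orderOf_eq]

/-- Counting inside a torus. -/
theorem torus_counts (hm : 1 ≤ m) (hK : Fintype.card F = 3 ^ (2 * m + 1)) (hth : ∀ x, S.th x = x ^ 3 ^ m) {k : ℕ}
    (hk : k ∈ oddOrders (Fintype.card F) (3 ^ (m + 1))) {A : Subgroup ↥S.Gr} (hA : IsCyclic ↥A)
    (hAk : Nat.card ↥A = k) :
    Nat.card {c : ↥(Subgroup.centralizer (A : Set ↥S.Gr)) // pk k (orderOf c)} + dOf (Fintype.card F) k =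
        bigOf (Fintype.card F) (3 ^ (m + 1)) k ∧
      ∀ i : ℕ, i ∣ k →
        Nat.card {c : ↥(Subgroup.centralizer (A : Set ↥S.Gr)) // orderOf c = i} = Nat.totient i ∧
        (dOf (Fintype.card F) k ≠ 1 →
          Nat.card {c : ↥(Subgroup.centralizer (A : Set ↥S.Gr)) // orderOf c = 2 * i} =
            (dOf (Fintype.card F) k - 1) * Nat.totient i) := by
  classical
  obtain ⟨-, hAC, hT, hcard⟩ := S.torus_of_core hm hK hth hk hA hAk
  obtain ⟨ko, k3, k1, -⟩ := oddOrders_spec hm hK hk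
  obtain ⟨hb, hco, hd⟩ := dOf_spec hm hK hk
  generalize hdd : dOf (Fintype.card F) k = d at hb hco hd ⊢
  set C := Subgroup.centralizer (A : Set ↥S.Gr)
  have hC' : Nat.card ↥C = d * k := hcard.trans hb
  have hA' : Nat.card ↥(A.subgroupOf C) = k := by
    rw [Nat.card_congr (Subgroup.subgroupOfEquivOfLe hAC).toEquiv, hAk]
  obtain ⟨e, he⟩ := coprime_split hT.1 hC' hA' hco
  have hW : Nat.card {w : ↥C // w ^ d = 1} = d := by
    have h := Nat.card_congr e
    rw [Nat.card_prod, hA', hC'] at h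
    exact Nat.eq_of_mul_eq_mul_right (by omega) h
  have hoW : ∀ w : {w : ↥C // w ^ d = 1}, orderOf w.1 ∣ d := fun w => orderOf_dvd_of_pow_eq_one w.2
  have hoA : ∀ a : ↥(A.subgroupOf C), orderOf (a : ↥C) ∣ k := fun a => by
    rw [Subgroup.orderOf_coe, ← hA']; exact orderOf_dvd_natCard a
  have hd4 : d ≤ 4 := by fin_cases hd <;> norm_num
  refine ⟨?_, fun i hi => ?_⟩
  · rw [hb, ← hC', ← hW]
    have hiff : ∀ c : ↥C, c ^ d = 1 ↔ ¬ pk k (orderOf c) := by
      intro c
      constructor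
      · rintro hc ⟨l, -, h5, hlo, -⟩
        have := Nat.le_of_dvd (by fin_cases hd <;> norm_num) (hlo.trans (orderOf_dvd_of_pow_eq_one hc))
        omega
      · intro hc
        obtain ⟨p, rfl⟩ := e.surjective c
        have : orderOf (p.2 : ↥C) = 1 := by
          by_contra hne
          refine hc (pk_of_dvd ko k3 ?_ (hoA p.2) (he p ▸ dvd_mul_left _ _))
          have := orderOf_pos (p.2 : ↥C)
          omega
        refine orderOf_dvd_iff_pow_eq_one.mp ?_
        rw [he, this, mul_one]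
        exact hoW _
    let f : {w : ↥C // w ^ d = 1} ≃ {c : ↥C // ¬ pk k (orderOf c)} := Equiv.subtypeEquivRight hiff
    rw [Nat.card_congr f, ← Nat.card_sum, Nat.card_congr (Equiv.sumCompl _)]
  · have hφ : Nat.card {a : ↥(A.subgroupOf C) // orderOf (a : ↥C) = i} = Nat.totient i := by
      haveI : IsCyclic ↥(A.subgroupOf C) :=
        isCyclic_of_surjective (Subgroup.subgroupOfEquivOfLe hAC).symm.toMonoidHom
          (Subgroup.subgroupOfEquivOfLe hAC).symm.surjective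
      haveI := Fintype.ofFinite ↥(A.subgroupOf C)
      rw [Nat.card_congr (Equiv.subtypeEquivRight fun a => by rw [Subgroup.orderOf_coe]),
        Nat.card_eq_fintype_card, Fintype.card_subtype,
        IsCyclic.card_orderOf_eq_totient (by rw [← Nat.card_eq_fintype_card, hA']; exact hi)]
    have hsplit : ∀ j : ℕ, j ∣ d → Nat.card {c : ↥C // orderOf c = j * i} =
        Nat.card {w : {w : ↥C // w ^ d = 1} // orderOf w.1 = j} * Nat.totient i := by
      intro j hj
      rw [← hφ, ← Nat.card_prod, ← Nat.card_congr (Equiv.subtypeProdEquivProd)]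
      refine (Nat.card_congr (Equiv.subtypeEquiv e fun p => ?_)).symm
      rw [he]
      constructor
      · rintro ⟨h1, h2⟩; rw [h1, h2]
      · intro h
        refine ⟨Nat.dvd_antisymm ?_ ?_, Nat.dvd_antisymm ?_ ?_⟩
        · exact (Nat.Coprime.dvd_of_dvd_mul_right ((hco.coprime_dvd_left (hoW p.1)).coprime_dvd_right hi) (h ▸ dvd_mul_right _ _))
        · exact (Nat.Coprime.dvd_of_dvd_mul_right ((hco.coprime_dvd_left hj).coprime_dvd_right (hoA p.2)) (h.symm ▸ dvd_mul_right _ _))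
        · exact (Nat.Coprime.dvd_of_dvd_mul_left ((hco.coprime_dvd_left hj).coprime_dvd_right (hoA p.2)).symm (h ▸ dvd_mul_left _ _))
        · exact (Nat.Coprime.dvd_of_dvd_mul_left ((hco.coprime_dvd_left (hoW p.1)).coprime_dvd_right hi).symm (h.symm ▸ dvd_mul_left _ _))
    have h1 : Nat.card {w : {w : ↥C // w ^ d = 1} // orderOf w.1 = 1} = 1 := by
      haveI : Unique {w : {w : ↥C // w ^ d = 1} // orderOf w.1 = 1} :=
        { default := ⟨⟨1, one_pow d⟩, orderOf_one⟩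
          uniq := fun w => Subtype.ext (Subtype.ext (orderOf_eq_one_iff.mp w.2)) }
      exact Nat.card_unique
    refine ⟨?_, fun hd1 => ?_⟩
    · have := hsplit 1 (one_dvd d)
      rwa [one_mul, h1, one_mul] at this
    · have h2d : 2 ∣ d := by
        simp only [List.mem_cons, List.not_mem_nil, or_false] at hd
        rcases hd with h | h | h
        · exact absurd h hd1
        · exact h.symm ▸ dvd_rfl
        · exact h.symm ▸ (by norm_num : 2 ∣ 4)
      rw [hsplit 2 h2d]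
      congr 1
      have hsq : ∀ w : {w : ↥C // w ^ d = 1}, orderOf w.1 ∣ 2 := by
        intro w
        refine orderOf_dvd_of_pow_eq_one ?_
        have hw := w.2
        rcases hT.2 with ⟨hc, -⟩ | ⟨hc, hexp, -⟩
        · rcases eq_or_ne d 2 with h2 | h2
          · exact (congrArg (w.1 ^ ·) h2).symm.trans hw
          · exfalso
            have hd4' : d = 4 := by
              simp only [List.mem_cons, List.not_mem_nil, or_false] at hd
              omega
            obtain ⟨a1, a2, a3, a4, a5, o1, o2, o3, o4, b1, b2, b3, b4⟩ := arith' (F := F) hm hK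
            simp only [Nat.odd_iff] at o3 o4
            rw [hC', hd4'] at hc
            rcases hc with hc | hc | hc <;> omega
        · obtain ⟨-, -, -, -, a5, -⟩ := arith' (F := F) hm hK
          rcases eq_or_ne d 2 with h2 | h2
          · exact (congrArg (w.1 ^ ·) h2).symm.trans hw
          · have hd4' : d = 4 := by
              simp only [List.mem_cons, List.not_mem_nil, or_false] at hd
              omega
            have h4 : (w.1) ^ 4 = 1 := (congrArg (w.1 ^ ·) hd4').symm.trans hw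
            have he' := hexp w.1
            obtain ⟨t, ht⟩ : ∃ t, (Fintype.card F + 1) / 2 = 4 * t + 2 := ⟨Fintype.card F / 8, by omega⟩
            rwa [ht, pow_add, pow_mul, h4, one_pow, one_mul] at he'
      have hall : ∀ w : {w : ↥C // w ^ d = 1}, ¬ orderOf w.1 = 1 ↔ orderOf w.1 = 2 := fun w => by
        have := (Nat.dvd_prime Nat.prime_two).mp (hsq w)
        omega
      haveI := Fintype.ofFinite {w : ↥C // w ^ d = 1}
      rw [← Nat.card_congr (Equiv.subtypeEquivRight hall), Nat.card_eq_fintype_card, Fintype.card_subtype_compl,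
        ← Nat.card_eq_fintype_card, hW, ← Nat.card_eq_fintype_card, h1]

end Tw

end Cfsg.Agent.SmallRee
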