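import Cfsg.Agent.Lib.SmallRee.Counts
import Mathlib.Analysis.Fourier.FiniteAbelian.PontryaginDuality
import Mathlib.NumberTheory.LegendreSymbol.AddCharacter
import Mathlib.LinearAlgebra.Trace
import Mathlib.RepresentationTheory.Irreducible

/-! The smallest degree of a non-trivial complex representation of a small Ree group. -/

set_option autoImplicit false

namespace Cfsg.Agent.SmallRee

namespace Tw

variable {F : Type*} [Field F] (S : Tw F) [CharP F 3] [Fintype F] {m : ℕ}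
variable {V : Type*} [AddCommGroup V] [Module ℂ V] (ρ : Representation ℂ ↥S.Gr V)

/-- The projection to a character of the abelian normal subgroup of the Sylow 3-subgroup. -/
noncomputable def proj (ψ : AddChar F ℂ) (s r : F) : Module.End ℂ V :=
  ((Fintype.card F : ℂ) ^ 2)⁻¹ • ∑ x : F × F, ψ (-(r * x.1 + s * x.2)) • ρ (S.R 0 x.1 x.2)

variable {ψ : AddChar F ℂ}

theorem pair_sum (hψ : ψ.IsPrimitive) [DecidableEq F] (a b : F) :
    ∑ z : F × F, ψ (z.1 * a + z.2 * b) = if a = 0 ∧ b = 0 then (Fintype.card F : ℂ) ^ 2 else 0 := by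
  simp only [Fintype.sum_prod_type, AddChar.map_add_eq_mul, ← Finset.mul_sum, ← Finset.sum_mul,
    AddChar.sum_mulShift _ hψ]
  split_ifs <;> simp_all [sq]

theorem R_mul_proj (s r a b : F) : ρ (S.R 0 a b) * S.proj ρ ψ s r = ψ (r * a + s * b) • S.proj ρ ψ s r := by
  simp only [proj, mul_smul_comm, Finset.mul_sum, Finset.smul_sum, smul_smul]
  refine Fintype.sum_equiv (Equiv.addLeft (a, b)) _ _ fun x => ?_
  simp only [Equiv.coe_addLeft, Prod.fst_add, Prod.snd_add, ← map_mul, S.R0_mul]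
  congr 1
  rw [mul_comm (ψ (r * a + s * b)), mul_assoc, ← AddChar.map_add_eq_mul]
  congr 2
  ring

theorem proj_mul [DecidableEq F] (hψ : ψ.IsPrimitive) (s r s' r' : F) :
    S.proj ρ ψ s' r' * S.proj ρ ψ s r = if r' = r ∧ s' = s then S.proj ρ ψ s r else 0 := by
  conv_lhs => enter [1]; rw [proj]
  simp only [smul_mul_assoc, Finset.sum_mul, S.R_mul_proj ρ, smul_smul]
  rw [← Finset.sum_smul, smul_smul]
  have h : ∑ x : F × F, ψ (-(r' * x.1 + s' * x.2)) * ψ (r * x.1 + s * x.2) =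
      ∑ x : F × F, ψ (x.1 * (r - r') + x.2 * (s - s')) :=
    Finset.sum_congr rfl fun x _ => by rw [← AddChar.map_add_eq_mul]; congr 1; ring
  rw [h, pair_sum hψ]
  simp only [sub_eq_zero, eq_comm (a := r), eq_comm (a := s)]
  split_ifs with h
  · rw [inv_mul_cancel₀ (pow_ne_zero 2 (Nat.cast_ne_zero.mpr Fintype.card_ne_zero)), one_smul]
  · rw [mul_zero, zero_smul]

theorem proj_sum [DecidableEq F] (hψ : ψ.IsPrimitive) : ∑ z : F × F, S.proj ρ ψ z.1 z.2 = 1 := by
  simp only [proj, ← Finset.smul_sum]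
  rw [Finset.sum_comm]
  have h : ∀ x : F × F, ∑ z : F × F, ψ (-(z.2 * x.1 + z.1 * x.2)) • ρ (S.R 0 x.1 x.2) =
      if x = 0 then (Fintype.card F : ℂ) ^ 2 • ρ (S.R 0 x.1 x.2) else 0 := fun x => by
    rw [← Finset.sum_smul, Finset.sum_congr rfl (fun z _ => show ψ (-(z.2 * x.1 + z.1 * x.2)) =
      ψ (z.1 * (-x.2) + z.2 * (-x.1)) by congr 1; ring), pair_sum hψ]
    simp only [neg_eq_zero, ite_smul, zero_smul, Prod.ext_iff, Prod.fst_zero, Prod.snd_zero, and_comm]
  simp only [h]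
  rw [Finset.sum_ite_eq' Finset.univ, if_pos (Finset.mem_univ _), Prod.fst_zero, Prod.snd_zero, S.R_zero,
    map_one, inv_smul_smul₀ (pow_ne_zero 2 (Nat.cast_ne_zero.mpr Fintype.card_ne_zero))]

theorem proj_idem (hψ : ψ.IsPrimitive) (s r : F) : IsIdempotentElem (S.proj ρ ψ s r) := by
  classical
  unfold IsIdempotentElem
  rw [S.proj_mul ρ hψ, if_pos ⟨rfl, rfl⟩]

theorem conj_proj (g : ↥S.Gr) (φ : F × F ≃ F × F) {s r s' r' : F}
    (h1 : ∀ x : F × F, g * S.R 0 x.1 x.2 * g⁻¹ = S.R 0 (φ x).1 (φ x).2)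
    (h2 : ∀ x : F × F, r * x.1 + s * x.2 = r' * (φ x).1 + s' * (φ x).2) :
    ρ g * S.proj ρ ψ s r * ρ g⁻¹ = S.proj ρ ψ s' r' := by
  simp only [proj, mul_smul_comm, smul_mul_assoc, Finset.mul_sum, Finset.sum_mul]
  refine congrArg _ (Fintype.sum_equiv φ _ _ fun x => ?_)
  rw [← map_mul, ← map_mul, h1, h2]

variable [FiniteDimensional ℂ V]

theorem idem_trace {e : Module.End ℂ V} (he : IsIdempotentElem e) :
    LinearMap.trace ℂ V e = (Module.finrank ℂ (LinearMap.range e) : ℂ) := (LinearMap.IsIdempotentElem.isProj_range _ he).trace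

theorem trace_conj (g : ↥S.Gr) (X : Module.End ℂ V) :
    LinearMap.trace ℂ V (ρ g * X * ρ g⁻¹) = LinearMap.trace ℂ V X := by
  rw [LinearMap.trace_mul_comm, ← mul_assoc, ← map_mul, inv_mul_cancel, map_one, one_mul]

/-- The rank of a projection. -/
noncomputable def pRank (ψ : AddChar F ℂ) (s r : F) : ℕ := Module.finrank ℂ (LinearMap.range (S.proj ρ ψ s r))

theorem proj_eq_zero {s r : F} (h : S.pRank ρ ψ s r = 0) : S.proj ρ ψ s r = 0 :=
  LinearMap.range_eq_bot.mp (Submodule.finrank_eq_zero.mp h)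

theorem pRank_eq (hψ : ψ.IsPrimitive) (g : ↥S.Gr) (φ : F × F ≃ F × F) {s r s' r' : F}
    (h1 : ∀ x : F × F, g * S.R 0 x.1 x.2 * g⁻¹ = S.R 0 (φ x).1 (φ x).2)
    (h2 : ∀ x : F × F, r * x.1 + s * x.2 = r' * (φ x).1 + s' * (φ x).2) :
    S.pRank ρ ψ s' r' = S.pRank ρ ψ s r := by
  have h := S.trace_conj ρ g (S.proj ρ ψ s r)
  rw [S.conj_proj ρ g φ h1 h2, idem_trace (S.proj_idem ρ hψ _ _), idem_trace (S.proj_idem ρ hψ _ _)] at h
  exact_mod_cast h

theorem pRank_shift (hψ : ψ.IsPrimitive) (s r t : F) : S.pRank ρ ψ s (r - s * t) = S.pRank ρ ψ s r := by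
  refine S.pRank_eq ρ hψ (S.R t 0 0)
    { toFun := fun x => (x.1, x.2 + t * x.1)
      invFun := fun x => (x.1, x.2 - t * x.1)
      left_inv := fun x => by simp
      right_inv := fun x => by simp } (fun x => ?_) fun x => ?_
  · show _ = S.R 0 x.1 (x.2 + t * x.1)
    rw [mul_inv_eq_iff_eq_mul, S.R_mul, S.R_mul]
    congr 1 <;> simp [mul_comm]
  · show _ = (r - s * t) * x.1 + s * (x.2 + t * x.1)
    ring

theorem pRank_scale (hψ : ψ.IsPrimitive) (v : Fˣ) (s r : F) :
    S.pRank ρ ψ (s / v) (r / S.beta v) = S.pRank ρ ψ s r := by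
  have hb : S.beta v ≠ 0 := div_ne_zero (pow_ne_zero _ (S.th_ne v)) v.ne_zero
  refine S.pRank_eq ρ hψ (S.D v) (Equiv.prodCongr (Equiv.mulLeft₀ _ hb) (Equiv.mulLeft₀ _ v.ne_zero))
    (fun x => ?_) fun x => ?_
  · rw [S.D_conj, mul_zero]; rfl
  · show _ = r / S.beta v * (S.beta v * x.1) + s / v * (v * x.2)
    field_simp

theorem pRank_const (hψ : ψ.IsPrimitive) {s : F} (hs : s ≠ 0) (r : F) : S.pRank ρ ψ s r = S.pRank ρ ψ 1 0 := by
  have h1 := S.pRank_shift ρ hψ s r (r / s)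
  rw [mul_div_cancel₀ _ hs, sub_self] at h1
  have h2 := S.pRank_scale ρ hψ (Units.mk0 s hs) s 0
  rw [zero_div, Units.val_mk0, div_self hs] at h2
  rw [← h1, h2]

theorem inv_conj (hm : 1 ≤ m) (hK : Fintype.card F = 3 ^ (2 * m + 1)) (hth : ∀ x, S.th x = x ^ 3 ^ m)
    {x : ↥S.Gr} (hx : orderOf x = 2) : ∃ g : ↥S.Gr, g * S.D (-1) * g⁻¹ = x := by
  haveI : Fact (Nat.Prime 2) := ⟨Nat.prime_two⟩
  set a := S.D (-1) with ha'
  have ha : orderOf a = 2 := orderOf_eq_prime (by rw [ha', pow_two, ← map_mul, neg_one_mul, neg_neg, map_one])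
    (fun e => neg_one_ne_one (F := F) (by simpa using congrArg Units.val (S.D_inj (e.trans (map_one S.D).symm))))
  set C := Subgroup.centralizer ({a} : Set ↥S.Gr)
  have hidx : C.index = Fintype.card F ^ 2 * (Fintype.card F ^ 2 - Fintype.card F + 1) := by
    have h := C.index_mul_card
    rw [S.card_cent_inv hK, S.card_Gr] at h
    have hq : 1 < Fintype.card F := Fintype.one_lt_card
    refine Nat.eq_of_mul_eq_mul_right ?_ (h.trans ?_)
    · exact Nat.mul_pos (by omega) (Nat.sub_pos_of_lt (Nat.one_lt_pow two_ne_zero hq))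
    · generalize Fintype.card F = q at hq
      zify [hq.le, show q ≤ q ^ 2 from Nat.le_self_pow two_ne_zero q, show 1 ≤ q ^ 2 from Nat.one_le_pow _ _ (by omega)]
      ring
  let f : ↥S.Gr ⧸ C → {x : ↥S.Gr // orderOf x = 2} :=
    fun z => ⟨z.out * a * z.out⁻¹, by rw [← MulAut.conj_apply, MulEquiv.orderOf_eq, ha]⟩
  have hf : Function.Injective f := by
    intro z z' h
    have e : z.out * a * z.out⁻¹ = z'.out * a * z'.out⁻¹ := congrArg Subtype.val h
    rw [← z.out_eq', ← z'.out_eq', QuotientGroup.eq, Subgroup.mem_centralizer_singleton_iff]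
    calc z.out⁻¹ * z'.out * a = z.out⁻¹ * (z'.out * a * z'.out⁻¹) * z'.out := by simp [mul_assoc]
      _ = _ := by rw [← e]; simp [mul_assoc]
  obtain ⟨z, hz⟩ := ((Nat.bijective_iff_injective_and_card f).mpr ⟨hf, by
    rw [← Subgroup.index_eq_card, hidx, (S.main_counts hm hK hth).1]⟩).2 ⟨x, hx⟩
  exact ⟨z.out, congrArg Subtype.val hz⟩

theorem faithful (hm : 1 ≤ m) (hK : Fintype.card F = 3 ^ (2 * m + 1)) {x : ↥S.Gr} (hx : x ≠ 1)
    (h : ρ x = 1) : ∀ g, ρ g = 1 := by
  haveI := (S.simple hK hm).1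
  have hN : ρ.ker.Normal := MonoidHom.normal_ker ρ
  rcases hN.eq_bot_or_eq_top with e | e
  · exact absurd (Subgroup.mem_bot.mp (e ▸ (show x ∈ ρ.ker from h))) hx
  · exact fun g => show g ∈ ρ.ker from e ▸ Subgroup.mem_top _

theorem degree_bound (hm : 1 ≤ m) (hK : Fintype.card F = 3 ^ (2 * m + 1)) (hth : ∀ x, S.th x = x ^ 3 ^ m)
    (hne : ∃ g, ρ g ≠ 1) : Fintype.card F ^ 2 - Fintype.card F + 1 ≤ Module.finrank ℂ V := by
  classical
  obtain ⟨ψ, hψ0⟩ : ∃ ψ : AddChar F ℂ, ψ 1 ≠ 1 := AddChar.exists_apply_ne_zero.mpr one_ne_zero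
  have hψ : ψ.IsPrimitive := AddChar.IsPrimitive.of_ne_one fun e => hψ0 (by rw [e, AddChar.one_apply])
  set q := Fintype.card F with hqdef
  set k := Module.finrank ℂ V
  set e := S.pRank ρ ψ 1 0 with hedef
  have hq1 : 1 < q := Fintype.one_lt_card
  -- the degree is the sum of the ranks
  have hsum : k = (∑ r, S.pRank ρ ψ 0 r) + (q - 1) * (q * e) := by
    have h1 : k = ∑ z : F × F, S.pRank ρ ψ z.1 z.2 := by
      have h := congrArg (LinearMap.trace ℂ V) (S.proj_sum ρ hψ)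
      rw [map_sum, LinearMap.trace_one, Finset.sum_congr rfl fun z _ => idem_trace (S.proj_idem ρ hψ z.1 z.2)] at h
      exact_mod_cast h.symm
    rw [h1, Fintype.sum_prod_type, Fintype.sum_eq_add_sum_compl (0 : F)]
    congr 1
    rw [Finset.sum_congr rfl (fun s hs => Finset.sum_congr rfl fun r _ =>
      S.pRank_const ρ hψ (Finset.notMem_singleton.mp (Finset.mem_compl.mp hs)) r)]
    simp [Finset.card_compl, hqdef, hedef]
  have he : e ≠ 0 := by
    intro h0
    have hz : ρ (S.R 0 0 1) = 1 := by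
      rw [← mul_one (ρ (S.R 0 0 1)), ← S.proj_sum ρ hψ, Finset.mul_sum]
      refine Finset.sum_congr rfl fun z _ => ?_
      rw [S.R_mul_proj ρ]
      by_cases hs : z.1 = 0
      · rw [hs, mul_zero, zero_mul, add_zero, AddChar.map_zero_eq_one, one_smul]
      · rw [S.proj_eq_zero ρ ((S.pRank_const ρ hψ hs z.2).trans h0), smul_zero]
    obtain ⟨g, hg⟩ := hne
    refine hg (S.faithful ρ hm hK (fun e => ?_) hz g)
    rw [← S.R_zero] at e
    exact one_ne_zero (S.R_inj e).2.2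
  by_contra hlt
  push Not at hlt
  have hmul : (q - 1) * q = q ^ 2 - q := by rw [Nat.sub_mul, one_mul, sq]
  have he1 : e = 1 := by
    by_contra hc
    have : (q - 1) * (q * 2) ≤ (q - 1) * (q * e) := Nat.mul_le_mul_left _ (Nat.mul_le_mul_left _ (by omega))
    rw [← mul_assoc] at this
    have hpos : 0 < (q - 1) * q := Nat.mul_pos (by omega) (by omega)
    omega
  rw [he1, mul_one, hmul] at hsum
  have hk : k = q ^ 2 - q := by omega
  have hzero : ∀ r, S.proj ρ ψ 0 r = 0 := fun r => S.proj_eq_zero ρ <| by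
    have : ∑ r, S.pRank ρ ψ 0 r = 0 := by omega
    exact Finset.sum_eq_zero_iff.mp this r (Finset.mem_univ r)
  -- the trace of every involution vanishes
  set a := S.D (-1) with ha
  have hta : LinearMap.trace ℂ V (ρ a) = 0 := by
    rw [← one_mul (ρ a), ← S.proj_sum ρ hψ, Finset.sum_mul, map_sum]
    refine Finset.sum_eq_zero fun z _ => ?_
    by_cases hs : z.1 = 0
    · rw [hs, hzero, zero_mul, map_zero]
    have hb : S.beta (-1 : Fˣ) = 1 := S.beta_neg_one
    have hmv : ρ a * S.proj ρ ψ z.1 z.2 * ρ a⁻¹ = S.proj ρ ψ (-z.1) z.2 :=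
      S.conj_proj ρ a (Equiv.prodCongr (Equiv.refl F) (Equiv.neg F))
        (fun x => by rw [ha, S.D_conj, hb, mul_zero, one_mul]; simp)
        (fun x => by simp)
    have hflip : ρ a * S.proj ρ ψ z.1 z.2 = S.proj ρ ψ (-z.1) z.2 * ρ a := by
      rw [← hmv, mul_assoc _ (ρ a⁻¹), ← map_mul, inv_mul_cancel, map_one, mul_one]
    rw [← (S.proj_idem ρ hψ z.1 z.2).eq, mul_assoc, LinearMap.trace_mul_comm, mul_assoc, hflip, ← mul_assoc,
      S.proj_mul ρ hψ, if_neg, zero_mul, map_zero]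
    rintro ⟨-, h⟩
    exact hs (by linear_combination z.1 * three_zero (F := F) - h)
  have htr : ∀ x : ↥S.Gr, orderOf x = 2 → LinearMap.trace ℂ V (ρ x) = 0 := by
    intro x hx
    obtain ⟨g, rfl⟩ := S.inv_conj hm hK hth hx
    rw [map_mul ρ, map_mul ρ, S.trace_conj ρ g, hta]
  -- a four group
  haveI : Fact (Nat.Prime 2) := ⟨Nat.prime_two⟩
  have ha2 : orderOf a = 2 := orderOf_eq_prime (by rw [ha, pow_two, ← map_mul, neg_one_mul, neg_neg, map_one])
    (fun e => neg_one_ne_one (F := F) (by simpa using congrArg Units.val (S.D_inj (e.trans (map_one S.D).symm))))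
  obtain ⟨P, hP⟩ := (IsPGroup.of_card (p := 2) (n := 1)
    (by rw [Nat.card_zpowers, ha2, pow_one]) : IsPGroup 2 ↥(Subgroup.zpowers a)).exists_le_sylow
  obtain ⟨hP8, hexp⟩ := S.sylow_two hK P
  have haP : a ∈ P := hP (Subgroup.mem_zpowers a)
  obtain ⟨b, hbP, hb1, hba⟩ : ∃ b ∈ P, b ≠ 1 ∧ b ≠ a := by
    by_contra hc
    push Not at hc
    have : Nat.card ↥P ≤ ({1, a} : Set ↥S.Gr).ncard := by
      show Nat.card ↥((P : Subgroup ↥S.Gr) : Set ↥S.Gr) ≤ _
      rw [Nat.card_coe_set_eq]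
      exact Set.ncard_le_ncard (fun x hx => by
        by_cases h : x = 1
        · exact Or.inl h
        · exact Or.inr (hc x hx h)) (Set.toFinite _)
    have := this.trans (Set.ncard_insert_le _ _)
    rw [show Nat.card ↥P = 8 from hP8, Set.ncard_singleton] at this
    omega
  have hord : ∀ x ∈ P, x ≠ 1 → orderOf x = 2 := fun x hx h1 => orderOf_eq_prime (by rw [pow_two, hexp x hx]) h1
  have hab1 : a * b ≠ 1 := fun h => hba (by rw [← one_mul b, ← hexp a haP, mul_assoc, h, mul_one])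
  have hcomm : b * a = a * b := by
    have h := hexp _ (mul_mem haP hbP)
    calc b * a = (a * a) * (b * a) * (b * b) := by rw [hexp a haP, hexp b hbP, one_mul, mul_one]
      _ = a * ((a * b) * (a * b)) * b := by simp only [mul_assoc]
      _ = a * b := by rw [h, mul_one]
  set A := ρ a
  set B := ρ b
  have hAA : A * A = 1 := by rw [← map_mul, hexp a haP, map_one]
  have hBB : B * B = 1 := by rw [← map_mul, hexp b hbP, map_one]
  have hBA : B * A = A * B := by rw [← map_mul, hcomm, map_mul]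
  set Q : Module.End ℂ V := (4 : ℂ)⁻¹ • (1 + A + B + A * B) with hQ
  have hQQ : IsIdempotentElem Q := by
    have h1 : A * (1 + A + B + A * B) = 1 + A + B + A * B := by
      simp only [mul_add, mul_one, ← mul_assoc, hAA, one_mul]; abel
    have h2 : B * (1 + A + B + A * B) = 1 + A + B + A * B := by
      simp only [mul_add, mul_one, ← mul_assoc, hBA, hBB]
      rw [mul_assoc A B B, hBB, mul_one]; abel
    have h3 : (1 + A + B + A * B) * (1 + A + B + A * B) = (4 : ℂ) • (1 + A + B + A * B) := by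
      rw [add_mul, add_mul, add_mul, one_mul, mul_assoc A B, h2, h1]
      module
    unfold IsIdempotentElem
    rw [hQ, smul_mul_assoc, mul_smul_comm, h3, inv_smul_smul₀ (by norm_num)]
  have hQt := idem_trace hQQ
  rw [hQ, map_smul, map_add, map_add, map_add, LinearMap.trace_one, ← map_mul, htr a (hord a haP fun e => by simp [e] at ha2),
    htr b (hord b hbP hb1), htr _ (hord _ (mul_mem haP hbP) hab1), add_zero, add_zero, add_zero, smul_eq_mul] at hQt
  generalize Module.finrank ℂ ↥(LinearMap.range ((4 : ℂ)⁻¹ • (1 + A + B + ρ (a * b)))) = n at hQt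
  have h4 : k = 4 * n := by
    have : (k : ℂ) = ((4 * n : ℕ) : ℂ) := by push_cast; linear_combination (4 : ℂ) * hQt
    exact_mod_cast this
  have hmod : q % 8 = 3 := by
    rw [hK, pow_succ, pow_mul, Nat.mul_mod, Nat.pow_mod]; norm_num
  obtain ⟨j, hj⟩ : ∃ j, q = 8 * j + 3 := ⟨q / 8, by omega⟩
  have hsq : q ^ 2 = 4 * (16 * j * j + 12 * j + 2) + 1 := by rw [hj]; ring
  omega

theorem min_degree (hm : 1 ≤ m) (hK : Fintype.card F = 3 ^ (2 * m + 1)) (hth : ∀ x, S.th x = x ^ 3 ^ m)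
    (k : ℕ) (σ : Representation ℂ ↥S.Gr (Fin k → ℂ)) (hirr : σ.IsIrreducible) (hk : 2 ≤ k) :
    Fintype.card F ^ 2 - Fintype.card F + 1 ≤ k := by
  suffices hne : ∃ g, σ g ≠ 1 by
    have := S.degree_bound σ hm hK hth hne
    rwa [Module.finrank_fin_fun] at this
  by_contra hc
  push Not at hc
  let v : Fin k → ℂ := Pi.single ⟨0, by omega⟩ 1
  let L : Subrepresentation σ :=
    { toSubmodule := ℂ ∙ v
      apply_mem_toSubmodule := fun x u hu => by rw [hc x]; exact hu }
  rcases hirr.eq_bot_or_eq_top L with h | h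
  · have : (ℂ ∙ v) = ⊥ := congrArg Subrepresentation.toSubmodule h
    rw [Submodule.span_singleton_eq_bot] at this
    simpa [v] using congrFun this ⟨0, by omega⟩
  · have : (ℂ ∙ v) = ⊤ := congrArg Subrepresentation.toSubmodule h
    have h2 := finrank_span_singleton (K := ℂ) (show v ≠ 0 from fun e => by
      simpa [v] using congrFun e ⟨0, by omega⟩)
    rw [this, finrank_top, Module.finrank_fin_fun] at h2
    omega

end Tw

end Cfsg.Agent.SmallRee
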