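import Cfsg.Agent.Lib.SmallRee.BNPairData
import Mathlib.GroupTheory.Solvable
import Mathlib.GroupTheory.Nilpotent
import Mathlib.GroupTheory.Sylow
import Mathlib.GroupTheory.SpecificGroups.Cyclic

/-!
Perfectness, simplicity, generators, unipotent elements of order three, and stabilisers for the small Ree groups.
-/

set_option autoImplicit false
set_option maxRecDepth 20000

namespace Cfsg.Agent.SmallRee

open Cfsg.Lie Cfsg.Agent.Chev
open scoped Pointwise

variable {F : Type*} [Field F]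

namespace Tw

variable (S : Tw F) [CharP F 3]

theorem three_zero : (3 : F) = 0 := by exact_mod_cast CharP.cast_eq_zero F 3

theorem R_inv0 (u w : F) : (S.R 0 u w)⁻¹ = S.R 0 (-u) (-w) := by
  refine inv_eq_of_mul_eq_one_right ?_
  rw [S.R_mul, ← S.R_zero]
  congr 1 <;> simp

theorem R0_mul (u w u' w' : F) : S.R 0 u w * S.R 0 u' w' = S.R 0 (u + u') (w + w') := by
  rw [S.R_mul]; congr 1 <;> simp

theorem R_cube (t u w : F) : S.R t u w ^ 3 = S.R 0 0 (-(S.th t ^ 3 * t ^ 2)) := by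
  have h3 : (3 : F) = 0 := three_zero
  rw [pow_succ, pow_two, S.R_mul, S.R_mul]
  congr 1
  · linear_combination t * h3
  · linear_combination (u - S.th t ^ 3 * t) * h3
  · linear_combination (w - t * u) * h3

theorem cube_eq_one {t u w : F} : S.R t u w ^ 3 = 1 ↔ t = 0 := by
  rw [S.R_cube]
  constructor
  · intro h
    rw [← S.R_zero] at h
    have h2 := (S.R_inj h).2.2
    rw [neg_eq_zero, mul_eq_zero] at h2
    rcases h2 with h | h
    · exact (map_eq_zero S.th).mp (pow_eq_zero_iff (by norm_num) |>.mp h)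
    · exact pow_eq_zero_iff (by norm_num) |>.mp h
  · rintro rfl
    simp [S.R_zero]

theorem conj_U [Finite F] {b x : ↥S.Gr} (hb : b ∈ S.BB) (hx : x ∈ S.UU) : b * x * b⁻¹ ∈ S.UU := by
  obtain ⟨t, u, w, v, rfl⟩ := S.mem_B.mp hb
  obtain ⟨t', u', w', rfl⟩ := S.mem_U.mp hx
  have : S.R t u w * S.D v * S.R t' u' w' * (S.R t u w * S.D v)⁻¹ =
      S.R t u w * (S.D v * S.R t' u' w' * (S.D v)⁻¹) * (S.R t u w)⁻¹ := by
    rw [mul_inv_rev]; simp only [mul_assoc]
  rw [this, S.D_conj]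
  exact mul_mem (mul_mem (S.R_mem_U _ _ _) (S.R_mem_U _ _ _)) (inv_mem (S.R_mem_U _ _ _))

theorem top_of [Fintype F] {m : ℕ} (hK : Fintype.card F = 3 ^ (2 * m + 1)) (M : Subgroup ↥S.Gr) (hU : S.UU ≤ M)
    (hW : ∀ x ∈ S.UU, S.w₀ * x * S.w₀ ∈ M) : M = ⊤ := by
  refine eq_top_iff.mpr fun g _ => ?_
  obtain ⟨h, hh, e⟩ := S.exists_lift g
  suffices H : ∀ h : ↥(chevG2.group F), h ∈ S.G1 → ∀ g : ↥S.Gr, (h : GL chevG2.Idx F) = g → g ∈ M from
    H h (S.Fx_eq hK ▸ hh) g e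
  intro h hG
  induction hG using Subgroup.closure_induction with
  | mem y hy =>
    obtain ⟨b, t, u, v, rfl⟩ := hy
    intro g hg
    cases b
    · have hneg : (g : GL chevG2.Idx F) ∈ chevG2.negUnipotent F := hg ▸ coe_Wd_mem_neg _ _ _ _ _ _
      have h1 : S.w₀ * g * S.w₀ ∈ S.UU := by
        nth_rw 2 [← S.w₀_inv]
        exact S.n₀_conj_neg hneg
      have h2 := hW _ h1
      have e2 : S.w₀ * (S.w₀ * g * S.w₀) * S.w₀ = g := by
        simp only [← mul_assoc, S.w₀_sq, one_mul]; rw [mul_assoc, S.w₀_sq, mul_one]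
      rwa [e2] at h2
    · exact hU (show g ∈ S.UU from (hg ▸ coe_Wd_mem_pos _ _ _ _ _ _ : (g : GL chevG2.Idx F) ∈ chevG2.posUnipotent F))
  | one => intro g hg; rw [show g = 1 from Subtype.ext hg.symm]; exact one_mem _
  | mul a b ha hb iha ihb =>
    intro g hg
    have h1 : (a : GL chevG2.Idx F) ∈ S.Gr := S.mem_Gr'.mpr (S.G1_le_Fx ha)
    have h2 : (b : GL chevG2.Idx F) ∈ S.Gr := S.mem_Gr'.mpr (S.G1_le_Fx hb)
    rw [show g = ⟨_, h1⟩ * ⟨_, h2⟩ from Subtype.ext hg.symm]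
    exact mul_mem (iha _ rfl) (ihb _ rfl)
  | inv a ha iha =>
    intro g hg
    have h1 : (a : GL chevG2.Idx F) ∈ S.Gr := S.mem_Gr'.mpr (S.G1_le_Fx ha)
    rw [show g = (⟨_, h1⟩)⁻¹ from Subtype.ext hg.symm]
    exact inv_mem (iha _ rfl)

theorem exists_good_unit [Fintype F] {m : ℕ} (hK : Fintype.card F = 3 ^ (2 * m + 1)) (hm : 1 ≤ m) :
    ∃ v : Fˣ, v ≠ 1 ∧ v ≠ -1 := by
  classical
  have h3 : 2 < Fintype.card Fˣ := by
    rw [Fintype.card_units, hK]
    have : 3 ^ 3 ≤ 3 ^ (2 * m + 1) := Nat.pow_le_pow_right (by norm_num) (by omega)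
    omega
  by_contra hc
  push Not at hc
  have hsub : (Finset.univ : Finset Fˣ) ⊆ {1, -1} := fun v _ => by
    rw [Finset.mem_insert, Finset.mem_singleton]
    by_cases h : v = 1
    · exact Or.inl h
    · exact Or.inr (hc v h)
  have := (Finset.card_le_card hsub).trans Finset.card_le_two
  rw [Finset.card_univ] at this
  omega

theorem U_le_comm [Fintype F] {m : ℕ} (hK : Fintype.card F = 3 ^ (2 * m + 1)) (hm : 1 ≤ m) :
    S.UU ≤ commutator ↥S.Gr := by
  obtain ⟨v, h1, h2⟩ := exists_good_unit hK hm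
  have hv : (v : F) - 1 ≠ 0 := sub_ne_zero.mpr fun h => h1 (Units.ext h)
  have hb : S.beta v - 1 ≠ 0 := sub_ne_zero.mpr (S.beta_ne_one h1 h2)
  have ha : S.alpha v - 1 ≠ 0 := sub_ne_zero.mpr fun h => h1 (S.alpha_eq_one h)
  have hc : ∀ t u w : F, S.R (S.alpha v * t) (S.beta v * u) ((v : F) * w) * (S.R t u w)⁻¹ ∈ commutator ↥S.Gr := by
    intro t u w
    rw [← S.D_conj, commutator_def, ← commutatorElement_def]
    exact Subgroup.commutator_mem_commutator (Subgroup.mem_top _) (Subgroup.mem_top _)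
  have hw : ∀ u w : F, S.R 0 u w ∈ commutator ↥S.Gr := by
    intro u w
    have h := hc 0 (u / (S.beta v - 1)) (w / ((v : F) - 1))
    rw [mul_zero, S.R_inv0, S.R0_mul] at h
    convert h using 2
    · field_simp; ring
    · field_simp; ring
  intro g hg
  obtain ⟨t, u, w, rfl⟩ := S.mem_U.mp hg
  have h := hc (t / (S.alpha v - 1)) 0 0
  obtain ⟨u', w', e⟩ := S.R_inv (t / (S.alpha v - 1)) 0 0
  rw [e, S.R_mul] at h
  have et : S.alpha v * (t / (S.alpha v - 1)) + -(t / (S.alpha v - 1)) = t := by field_simp; ring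
  rw [et] at h
  generalize hA : S.beta v * 0 + u' - S.th (-(t / (S.alpha v - 1))) ^ 3 * (S.alpha v * (t / (S.alpha v - 1))) = A at h
  generalize hB : (v : F) * 0 + w' - S.th (-(t / (S.alpha v - 1))) ^ 3 * (S.alpha v * (t / (S.alpha v - 1))) ^ 2 -
    -(t / (S.alpha v - 1)) * (S.beta v * 0) +
    -(t / (S.alpha v - 1)) * (S.alpha v * (t / (S.alpha v - 1))) * S.th (-(t / (S.alpha v - 1))) ^ 3 = B at h
  have e2 : S.R t u w = S.R t A B * S.R 0 (u - A) (w - B) := by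
    rw [S.R_mul]; congr 1 <;> simp
  rw [e2]
  exact mul_mem h (hw _ _)

theorem perfect [Fintype F] {m : ℕ} (hK : Fintype.card F = 3 ^ (2 * m + 1)) (hm : 1 ≤ m) :
    commutator ↥S.Gr = ⊤ := by
  refine S.top_of hK _ (S.U_le_comm hK hm) fun x hx => ?_
  nth_rw 2 [← S.w₀_inv]
  exact (inferInstance : (commutator ↥S.Gr).Normal).conj_mem x (S.U_le_comm hK hm hx) _

theorem isPGroup_U [Fintype F] {m : ℕ} (hK : Fintype.card F = 3 ^ (2 * m + 1)) : IsPGroup 3 ↥S.UU :=
  IsPGroup.of_card (n := (2 * m + 1) * 3) (by rw [S.card_U, hK, pow_mul])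

/-- The torus coordinate of a Borel element. -/
noncomputable def torPart [Fintype F] : ↥S.BB →* Fˣ :=
  MonoidHom.mk' (fun b => (S.mem_B.mp b.2).choose_spec.choose_spec.choose_spec.choose) fun a b => by
    set c : ↥S.BB → Fˣ := fun b => (S.mem_B.mp b.2).choose_spec.choose_spec.choose_spec.choose
    have key : ∀ b : ↥S.BB, ∃ t u w : F, (b : ↥S.Gr) = S.R t u w * S.D (c b) := fun b =>
      ⟨_, _, _, (S.mem_B.mp b.2).choose_spec.choose_spec.choose_spec.choose_spec⟩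
    show c (a * b) = c a * c b
    obtain ⟨t, u, w, ea⟩ := key a
    obtain ⟨t', u', w', eb⟩ := key b
    obtain ⟨x, y, z, eab⟩ := key (a * b)
    have e : (a * b : ↥S.Gr) = S.R t u w * (S.D (c a) * S.R t' u' w' * (S.D (c a))⁻¹) * S.D (c a * c b) := by
      rw [ea, eb, map_mul]; simp [mul_assoc]
    rw [S.D_conj, S.R_mul] at e
    rw [Subgroup.coe_mul] at eab
    exact (S.RD_inj (eab.symm.trans e)).2.2.2

theorem torPart_ker [Fintype F] (b : ↥S.BB) (h : S.torPart b = 1) : (b : ↥S.Gr) ∈ S.UU := by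
  have e := (S.mem_B.mp b.2).choose_spec.choose_spec.choose_spec.choose_spec
  have h' : (S.mem_B.mp b.2).choose_spec.choose_spec.choose_spec.choose = 1 := h
  rw [h', map_one, mul_one] at e
  exact e ▸ S.R_mem_U _ _ _

theorem solvable_B [Fintype F] {m : ℕ} (hK : Fintype.card F = 3 ^ (2 * m + 1)) : Group.IsSolvable ↥S.BB := by
  haveI : Group.IsNilpotent ↥S.UU := (S.isPGroup_U hK).isNilpotent
  haveI : Group.IsSolvable ↥S.UU := inferInstance
  exact Group.isSolvable_of_ker_le_range (Subgroup.inclusion S.U_le_B) S.torPart fun b hb =>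
    ⟨⟨b, S.torPart_ker b hb⟩, rfl⟩

theorem simple [Fintype F] {m : ℕ} (hK : Fintype.card F = 3 ^ (2 * m + 1)) (hm : 1 ≤ m) :
    IsSimpleGroup ↥S.Gr ∧ ¬ IsMulCommutative ↥S.Gr := by
  obtain ⟨v, hv, -⟩ := exists_good_unit hK hm
  have hne : ¬ IsMulCommutative ↥S.Gr := by
    intro h
    have e := S.D_conj v 0 0 1
    rw [h.is_comm.comm (S.D v) (S.R 0 0 1), mul_inv_cancel_right] at e
    exact hv (Units.ext (by simpa using (S.R_inj e).2.2.symm))
  haveI : Nontrivial ↥S.Gr := ⟨⟨S.w₀, 1, fun h => S.w₀_not_mem_B (h ▸ one_mem _)⟩⟩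
  refine ⟨⟨fun N hN => ?_⟩, hne⟩
  by_cases hNB : N ≤ S.BB
  · exact Or.inl (le_bot_iff.mp (S.core_trivial ▸ Subgroup.normal_le_normalCore.mpr hNB))
  right
  obtain ⟨g, hgN, hgB⟩ := SetLike.not_le_iff_exists.mp hNB
  obtain ⟨t, u, w, v', t', u', w', rfl⟩ := (S.cases g).resolve_left hgB
  have hb1 : S.R t u w * S.D v' ∈ S.BB := mul_mem (S.U_le_B (S.R_mem_U t u w)) (S.H_le_B (S.D_mem_H v'))
  have hw : S.w₀ ∈ N ⊔ S.BB := by
    have h1 : (S.R t u w * S.D v')⁻¹ * (S.R t u w * S.D v' * S.w₀ * S.R t' u' w') * (S.R t' u' w')⁻¹ ∈ N ⊔ S.BB :=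
      mul_mem (mul_mem (Subgroup.mem_sup_right (inv_mem hb1)) (Subgroup.mem_sup_left hgN))
        (Subgroup.mem_sup_right (inv_mem (S.U_le_B (S.R_mem_U t' u' w'))))
    rwa [mul_assoc (S.R t u w * S.D v'), inv_mul_cancel_left, mul_inv_cancel_right] at h1
  have htop : N ⊔ S.BB = ⊤ := S.top_of hK _ (S.U_le_B.trans le_sup_right) fun x hx =>
    mul_mem (mul_mem hw (Subgroup.mem_sup_right (S.U_le_B hx))) hw
  haveI := S.solvable_B hK
  have hsurj : Function.Surjective ((QuotientGroup.mk' N).comp S.BB.subtype) := by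
    intro q
    obtain ⟨g, rfl⟩ := QuotientGroup.mk'_surjective N q
    have hg : g ∈ (N : Set ↥S.Gr) * (S.BB : Set ↥S.Gr) := by
      rw [← Subgroup.normal_mul, htop]; trivial
    obtain ⟨n, hn, b, hb, rfl⟩ := hg
    refine ⟨⟨b, hb⟩, ?_⟩
    simp only [MonoidHom.comp_apply, Subgroup.coe_subtype, map_mul]
    rw [QuotientGroup.mk'_apply, QuotientGroup.mk'_apply, (QuotientGroup.eq_one_iff n).mpr hn, one_mul]
  haveI := Group.isSolvable_of_surjective hsurj
  by_contra hN1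
  haveI : Nontrivial (↥S.Gr ⧸ N) := QuotientGroup.nontrivial_iff.mpr hN1
  have h := Group.IsSolvable.commutator_lt_top_of_nontrivial (↥S.Gr ⧸ N)
  have h2 : commutator (↥S.Gr ⧸ N) = ⊤ := by
    rw [commutator_def, ← Subgroup.map_top_of_surjective _ (QuotientGroup.mk'_surjective N),
      ← Subgroup.map_commutator, ← commutator_def, S.perfect hK hm]
  exact h.ne h2

theorem two_generated [Fintype F] {m : ℕ} (hK : Fintype.card F = 3 ^ (2 * m + 1)) (hm : 1 ≤ m) :
    ∃ a b : ↥S.Gr, Subgroup.closure ({a, b} : Set ↥S.Gr) = ⊤ := by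
  classical
  obtain ⟨z, hz⟩ := IsCyclic.exists_generator (α := Fˣ)
  obtain ⟨v, hv, hv'⟩ := exists_good_unit hK hm
  refine ⟨S.D z, S.w₀ * S.R 1 0 0, ?_⟩
  set M := Subgroup.closure ({S.D z, S.w₀ * S.R 1 0 0} : Set ↥S.Gr)
  have hD : ∀ c, S.D c ∈ M := fun c => by
    obtain ⟨k, rfl⟩ := Subgroup.mem_zpowers_iff.mp (hz c)
    rw [map_zpow]; exact zpow_mem (Subgroup.subset_closure (by simp)) k
  have hb : S.w₀ * S.R 1 0 0 ∈ M := Subgroup.subset_closure (by simp)
  obtain ⟨t0, x0, y0, ht0, h0⟩ : ∃ t0 x0 y0 : F, t0 ≠ 0 ∧ S.R t0 x0 y0 ∈ M := by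
    obtain ⟨u', w', e⟩ := S.R_inv 1 0 0
    have h1 : S.D v * ((S.w₀ * S.R 1 0 0)⁻¹ * S.D v * (S.w₀ * S.R 1 0 0)) =
        (S.D v * (S.R 1 0 0)⁻¹ * (S.D v)⁻¹) * S.R 1 0 0 := by
      have e2 : (S.D v)⁻¹ = S.w₀ * S.D v * S.w₀ := by rw [S.w₀_conj_D hK, map_inv]
      rw [mul_inv_rev, S.w₀_inv]
      conv_rhs => rw [e2]
      simp only [mul_assoc]
    have h2 := mul_mem (hD v) (mul_mem (mul_mem (inv_mem hb) (hD v)) hb)
    rw [h1, e, S.D_conj, S.R_mul] at h2
    refine ⟨_, _, _, ?_, h2⟩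
    intro h
    exact hv (S.alpha_eq_one (by linear_combination -h))
  have halpha : ∀ t : F, t ≠ 0 → ∃ x y : F, S.R t x y ∈ M := by
    intro t ht
    have hinj : Function.Injective fun c : Fˣ => Units.mk0 (S.alpha c)
        (div_ne_zero (pow_ne_zero _ c.ne_zero) (pow_ne_zero _ (S.th_ne c))) := by
      intro c d h
      have h1 : S.alpha c = S.alpha d := congrArg Units.val h
      have h2 : S.alpha (c * d⁻¹) * S.alpha d = 1 * S.alpha d := by
        rw [← S.alpha_mul, inv_mul_cancel_right, one_mul, h1]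
      have h3 := S.alpha_eq_one (mul_right_cancel₀
        (div_ne_zero (pow_ne_zero _ d.ne_zero) (pow_ne_zero _ (S.th_ne d))) h2)
      exact mul_inv_eq_one.mp h3
    obtain ⟨c, hc⟩ := Finite.injective_iff_surjective.mp hinj (Units.mk0 (t / t0) (div_ne_zero ht ht0))
    have hc' : S.alpha c = t / t0 := congrArg Units.val hc
    refine ⟨S.beta c * x0, (c : F) * y0, ?_⟩
    have h := mul_mem (mul_mem (hD c) h0) (inv_mem (hD c))
    rw [S.D_conj, hc', div_mul_cancel₀ _ ht0] at h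
    exact h
  have hw : ∀ w : F, S.R 0 0 w ∈ M := by
    intro w
    by_cases h : w = 0
    · rw [h, S.R_zero]; exact one_mem _
    have hinj : Function.Injective fun t : Fˣ => Units.mk0 (S.th (t : F) ^ 3 * (t : F) ^ 2)
        (mul_ne_zero (pow_ne_zero _ (S.th_ne t)) (pow_ne_zero _ t.ne_zero)) := by
      intro c d h
      have h1 : S.th (c : F) ^ 3 * (c : F) ^ 2 = S.th (d : F) ^ 3 * (d : F) ^ 2 := congrArg Units.val h
      set r : Fˣ := c * d⁻¹ with hr
      have h2 : S.th (r : F) ^ 3 * (r : F) ^ 2 = 1 := by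
        rw [hr, Units.val_mul, map_mul, mul_pow, mul_pow,
          show S.th (c : F) ^ 3 * S.th ((d⁻¹ : Fˣ) : F) ^ 3 * ((c : F) ^ 2 * ((d⁻¹ : Fˣ) : F) ^ 2) =
            (S.th (c : F) ^ 3 * (c : F) ^ 2) * (S.th ((d⁻¹ : Fˣ) : F) ^ 3 * ((d⁻¹ : Fˣ) : F) ^ 2) by ring,
          h1, Units.val_inv_eq_inv_val, map_inv₀]
        have := S.th_ne d
        have := d.ne_zero
        field_simp
      have h3 : (r : F) * S.th (r : F) ^ 2 = 1 := by
        have := congrArg S.th h2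
        rwa [map_mul, map_one, S.th_inv3, map_pow] at this
      have h4 : (r : F) = 1 := by
        have h5 : (r : F) ^ 3 * (S.th (r : F) ^ 3) ^ 2 = 1 := by
          rw [← pow_mul, mul_comm 3 2, pow_mul, ← mul_pow, h3, one_pow]
        have h6 : (r : F) ^ 4 * (S.th (r : F) ^ 3) ^ 2 = 1 := by
          have h7 : (S.th (r : F) ^ 3 * (r : F) ^ 2) ^ 2 = 1 := by rw [h2, one_pow]
          linear_combination h7
        linear_combination h6 - (r : F) * h5
      exact mul_inv_eq_one.mp (Units.ext h4 : r = 1)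
    obtain ⟨t, ht⟩ := Finite.injective_iff_surjective.mp hinj (Units.mk0 (-w) (neg_ne_zero.mpr h))
    obtain ⟨x, y, hxy⟩ := halpha t t.ne_zero
    have h2 := pow_mem hxy 3
    rw [S.R_cube, show S.th (t : F) ^ 3 * (t : F) ^ 2 = -w from congrArg Units.val ht, neg_neg] at h2
    exact h2
  obtain ⟨δ, hδ, hδM⟩ : ∃ δ : F, δ ≠ 0 ∧ S.R 0 δ 0 ∈ M := by
    obtain ⟨x, y, h1⟩ := halpha 1 one_ne_zero
    obtain ⟨x', y', h2⟩ := halpha (v : F) v.ne_zero
    have h := mul_mem (inv_mem (mul_mem h2 h1)) (mul_mem h1 h2)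
    have hne : (v : F) - S.th (v : F) ^ 3 ≠ 0 := fun e => S.beta_ne_one hv hv'
      (by rw [beta, div_eq_one_iff_eq v.ne_zero]; exact (sub_eq_zero.mp e).symm)
    have key : ∀ t a b a' b' : F, (S.R t a b)⁻¹ * S.R t a' b' = S.R 0 (a' - a) (b' - b) := by
      intro t a b a' b'
      rw [inv_mul_eq_iff_eq_mul, S.R_mul]
      congr 1 <;> simp
    rw [S.R_mul, S.R_mul, add_comm (v : F) 1, key] at h
    obtain ⟨δ', ε, hδ', h⟩ : ∃ δ' ε : F, δ' = (v : F) - S.th (v : F) ^ 3 ∧ S.R 0 δ' ε ∈ M :=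
      ⟨_, _, by simp only [map_one, one_pow]; ring, h⟩
    refine ⟨δ', hδ' ▸ hne, ?_⟩
    have h3 := mul_mem h (hw (-ε))
    rwa [S.R0_mul, add_zero, add_neg_cancel] at h3
  have hu : ∀ u : F, S.R 0 u 0 ∈ M := by
    have hsq : ∀ a : Fˣ, S.R 0 ((a : F) ^ 2 * δ) 0 ∈ M := by
      intro a
      set c := Units.mk0 (S.th (a : F) ^ 3 * (a : F)) (mul_ne_zero (pow_ne_zero _ (S.th_ne a)) a.ne_zero)
      have h := mul_mem (mul_mem (hD c) hδM) (inv_mem (hD c))
      have e : S.beta c = (a : F) ^ 2 := by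
        have := S.th_ne a
        have := a.ne_zero
        rw [beta, Units.val_mk0, map_mul, map_pow, S.th_cube]
        field_simp
      rw [S.D_conj, mul_zero, mul_zero, e] at h
      exact h
    intro u
    by_cases h : u = 0
    · rw [h, S.R_zero]; exact one_mem _
    obtain ⟨a, ha | ha⟩ := sq_or_neg_sq hK (Units.mk0 (u / δ) (div_ne_zero h hδ))
    · have e : u / δ = (a : F) ^ 2 := (congrArg Units.val ha).trans (Units.val_pow_eq_pow_val a 2)
      rw [show u = (a : F) ^ 2 * δ by rw [← e, div_mul_cancel₀ _ hδ]]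
      exact hsq a
    · have e : u / δ = -((a : F) ^ 2) := by
        have := congrArg Units.val ha
        simpa using this
      have := inv_mem (hsq a)
      rw [S.R_inv0, neg_zero, ← neg_mul, ← e, div_mul_cancel₀ _ hδ] at this
      exact this
  have hU : S.UU ≤ M := by
    intro g hg
    obtain ⟨t, u, w, rfl⟩ := S.mem_U.mp hg
    have h0' : ∀ a b : F, S.R 0 a b ∈ M := fun a b => by
      have := mul_mem (hu a) (hw b)
      rwa [S.R0_mul, add_zero, zero_add] at this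
    by_cases ht : t = 0
    · exact ht ▸ h0' u w
    obtain ⟨x, y, hxy⟩ := halpha t ht
    have := mul_mem hxy (h0' (u - x) (w - y))
    rw [S.R_mul] at this
    convert this using 2 <;> simp
  have hw0 : S.w₀ ∈ M := by
    have := mul_mem hb (inv_mem (hU (S.R_mem_U 1 0 0)))
    rwa [mul_inv_cancel_right] at this
  exact S.top_of hK _ hU fun x hx => mul_mem (mul_mem hw0 (hU hx)) hw0

theorem card_odd_torus [Fintype F] {m : ℕ} (hK : Fintype.card F = 3 ^ (2 * m + 1)) :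
    2 * Nat.card {v : Fˣ // Odd (orderOf v)} = Fintype.card F - 1 := by
  classical
  have h34 : Fintype.card F % 4 = 3 := by
    rw [hK, pow_succ, pow_mul, Nat.mul_mod, Nat.pow_mod]
    norm_num
  set k := (Fintype.card F - 1) / 2 with hk
  have hk2 : Fintype.card F - 1 = 2 * k := by omega
  have hodd : Odd k := Nat.odd_iff.mpr (by omega)
  have hiff : ∀ v : Fˣ, Odd (orderOf v) ↔ v ∈ (powMonoidHom k : Fˣ →* Fˣ).ker := by
    intro v
    rw [MonoidHom.mem_ker, powMonoidHom_apply, ← orderOf_dvd_iff_pow_eq_one]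
    refine ⟨fun h => ?_, fun h => hodd.of_dvd_nat h⟩
    have h1 : orderOf v ∣ 2 * k := by rw [← hk2, ← Fintype.card_units]; exact orderOf_dvd_card
    exact (Nat.Coprime.dvd_of_dvd_mul_left h.coprime_two_right h1)
  rw [Nat.card_congr (Equiv.subtypeEquivRight hiff), hk2]
  show 2 * Nat.card ↥(powMonoidHom k : Fˣ →* Fˣ).ker = _
  rw [IsCyclic.card_powMonoidHom_ker, Nat.card_eq_fintype_card, Fintype.card_units, hk2,
    Nat.gcd_eq_right (dvd_mul_left k 2)]

end Tw

end Cfsg.Agent.SmallRee
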