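import Cfsg.Agent.Lib.SmallRee.TorusFacts
import Cfsg.Agent.Lib.SmallRee.SylowTwoNorm
import Cfsg.Agent.Lib.SmallRee.Counts
import Cfsg.Agent.Lib.SmallRee.Props
import Cfsg.Agent.Lib.GL2.CentralExt
import Cfsg.Agent.Lib.Struct.SchurTransfer
import Mathlib

/-!
Central extensions of the small Ree groups.
-/

set_option autoImplicit false
set_option maxRecDepth 20000
set_option linter.unusedSectionVars false

open scoped commutatorElement Pointwise

namespace Cfsg.Agent.SmallRee.Multiplier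

variable {F : Type*} [Field F]

/-- A biadditive map invariant under a group of dilatations vanishes. -/
theorem vanish {G : Type*} [Group G] (B : F → F → G) (σ : F → F)
    (hσ : ∀ x, x ≠ 0 → σ x ≠ 0)
    (hl : ∀ x x' y, B (x + x') y = B x y * B x' y) (hr : ∀ x y y', B x (y + y') = B x y * B x y')
    (hinv : ∀ s x y, s ≠ 0 → B (s * x) (σ s * y) = B x y)
    (hc : ∃ a : F, a ≠ 0 ∧ 1 + a ≠ 0 ∧ (σ (1 + a))⁻¹ - (1 + (σ a)⁻¹) ≠ 0) (x y : F) : B x y = 1 := by
  obtain ⟨a, ha, ha1, hc⟩ := hc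
  let φ : F → G := fun z => B 1 z
  have hB : ∀ u v, u ≠ 0 → B u v = φ ((σ u)⁻¹ * v) := by
    intro u v hu
    have := hinv u 1 ((σ u)⁻¹ * v) hu
    rwa [mul_one, mul_inv_cancel_left₀ (hσ u hu)] at this
  have hφ : ∀ z, φ z = 1 := by
    intro z
    set c := (σ (1 + a))⁻¹ - (1 + (σ a)⁻¹)
    have e : φ ((σ (1 + a))⁻¹ * (z / c)) = φ ((1 + (σ a)⁻¹) * (z / c)) := by
      rw [← hB _ _ ha1, hl, hB _ _ ha]
      show φ (z / c) * _ = _
      rw [add_mul, one_mul]
      exact (hr 1 _ _).symm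
    have e2 := hr 1 (c * (z / c)) ((1 + (σ a)⁻¹) * (z / c))
    rw [show c * (z / c) + (1 + (σ a)⁻¹) * (z / c) = (σ (1 + a))⁻¹ * (z / c) by rw [← add_mul]; simp [c]] at e2
    change φ _ = φ _ * φ _ at e2
    rw [e, eq_comm, mul_eq_right, mul_div_cancel₀ _ hc] at e2
    exact e2
  by_cases hx : x = 0
  · have := hl 0 0 y
    rw [add_zero, left_eq_mul] at this
    rw [hx, this]
  · rw [hB x y hx, hφ]

section Comm

variable {G H : Type*} [Group G] [Group H] (f : G →* H)

theorem comm_congr (hc : f.ker ≤ Subgroup.center G) {x x' y y' : G} (hx : f x = f x') (hy : f y = f y') :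
    ⁅x, y⁆ = ⁅x', y'⁆ := by
  have key : ∀ {u u' : G}, f u = f u' → ∀ w : G, ⁅u, w⁆ = ⁅u', w⁆ := by
    intro u u' hu w
    obtain ⟨k, rfl⟩ : ∃ k, u = u' * k := ⟨u'⁻¹ * u, by group⟩
    have hk : ∀ g, g * k = k * g := Subgroup.mem_center_iff.mp (hc (by
      rw [MonoidHom.mem_ker]; simpa using hu))
    rw [commutatorElement_def, commutatorElement_def, mul_inv_rev, mul_assoc u' k w, ← hk w]
    group
  rw [key hx y, ← commutatorElement_inv y x', key hy x', commutatorElement_inv]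

theorem comm_mul_left (x x' y : G) : ⁅x * x', y⁆ = x * ⁅x', y⁆ * x⁻¹ * ⁅x, y⁆ := by
  simp only [commutatorElement_def]; group

theorem comm_mul_right (x y y' : G) : ⁅x, y * y'⁆ = ⁅x, y⁆ * (y * ⁅x, y'⁆ * y⁻¹) := by
  simp only [commutatorElement_def]; group

theorem conj_of_comm {x c : G} (h : x * c = c * x) : x * c * x⁻¹ = c := by rw [h, mul_inv_cancel_right]

theorem comm_conj (t u v : G) : t * ⁅u, v⁆ * t⁻¹ = ⁅t * u * t⁻¹, t * v * t⁻¹⁆ := by
  simp only [commutatorElement_def]; group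

/-- Three commuting lifts with the symmetry of an element of order seven. -/
theorem seven {c : G} (hc : f.ker ≤ Subgroup.center G) (R : Subgroup H) (hR : ∀ x ∈ R, x * x = 1)
    (hcard : Nat.card R = 8) (g : H) (hg : g ^ 7 = 1) (hgR : ∀ x ∈ R, g * x * g⁻¹ ∈ R) (hgc : f c = g)
    {x : H} (hx : x ∈ R) (hgx : g * x * g⁻¹ ≠ x) (hsurj : Function.Surjective f)
    (a b : G) (ha : f a ∈ R) (hb : f b ∈ R) : a * b = b * a := by
  classical
  haveI : Finite R := Nat.finite_of_card_ne_zero (by omega)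
  set φ : H → H := fun z => g * z * g⁻¹ with hφ
  have hmul : ∀ u v, φ (u * v) = φ u * φ v := fun u v => (conj_mul).symm
  have hinj : Function.Injective φ := fun u v e => mul_left_cancel (mul_right_cancel e)
  have hcm : ∀ u ∈ R, ∀ v ∈ R, u * v = v * u := by
    intro u hu v hv
    have h1 := hR (u * v) (R.mul_mem hu hv)
    calc u * v = u * (u * v * (u * v)) * v := by rw [h1, mul_one]
      _ = (u * u) * v * u * (v * v) := by group
      _ = v * u := by rw [hR u hu, hR v hv, one_mul, mul_one]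
  set y := φ x with hy
  set w := φ y with hw
  have hyR : y ∈ R := hgR x hx
  have hwR : w ∈ R := hgR y hyR
  have hφ1 : φ 1 = 1 := by simp [hφ]
  have h7 : φ (φ (φ (φ (φ (φ (φ x)))))) = x := by
    have e : φ (φ (φ (φ (φ (φ (φ x)))))) = g ^ 7 * x * (g ^ 7)⁻¹ := by
      simp only [hφ, pow_succ, pow_zero, one_mul]; group
    rw [e, hg]; simp
  have hx1 : x ≠ 1 := fun e => hgx (by rw [e]; simp)
  have hyx : y ≠ x := hgx
  have hwx : w ≠ x := fun e => by
    change φ (φ x) = x at e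
    rw [e, e, e] at h7
    exact hgx h7
  have hw3 : φ w ≠ x := fun e => by
    change φ (φ (φ x)) = x at e
    rw [e, e] at h7
    exact hgx h7
  have hwy : w ≠ y := fun e => hyx (hinj e)
  have hy1 : y ≠ 1 := fun e => hx1 (hinj (e.trans hφ1.symm))
  have hw1 : w ≠ 1 := fun e => hy1 (hinj (e.trans hφ1.symm))
  have hxx := hR x hx
  have hyy := hR y hyR
  have hww := hR w hwR
  have hwxy : w ≠ x * y := fun e => hw3 (by
    calc φ w = φ x * φ y := by rw [e, hmul]
      _ = y * w := rfl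
      _ = y * (x * y) := by rw [e]
      _ = y * (y * x) := by rw [hcm x hx y hyR]
      _ = x := by rw [← mul_assoc, hyy, one_mul])
  let L : Bool × Bool × Bool → R := fun p => ⟨(if p.1 then x else 1) * (if p.2.1 then y else 1) * (if p.2.2 then w else 1),
    R.mul_mem (R.mul_mem (by split_ifs; exacts [hx, R.one_mem]) (by split_ifs; exacts [hyR, R.one_mem]))
      (by split_ifs; exacts [hwR, R.one_mem])⟩
  have hLinj : Function.Injective L := by
    have hker : ∀ p, (L p : H) = 1 → p = (false, false, false) := by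
      rintro ⟨i, j, k⟩ h
      have ew : ∀ {u : H}, u * w = 1 → u = w := fun h => by rw [← mul_one w, ← h]; rw [← mul_assoc, hcm w hwR _ (by
        have := eq_inv_of_mul_eq_one_left h; rw [this]; exact R.inv_mem hwR), mul_assoc, hww, mul_one]
      cases i <;> cases j <;> cases k <;> simp only [L, if_true, Bool.false_eq_true, if_false, mul_one, one_mul] at h
      · rfl
      · exact absurd h hw1
      · exact absurd h hy1
      · exact absurd (ew h).symm hwy
      · exact absurd h hx1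
      · exact absurd (ew h).symm hwx
      · exact absurd (by rw [← mul_one x, ← hyy, ← mul_assoc, h, one_mul] : x = y) (Ne.symm hyx)
      · exact absurd (ew h).symm hwxy
    have hLmul : ∀ p q : Bool × Bool × Bool, (L p : H) * L q = L (p.1 ^^ q.1, p.2.1 ^^ q.2.1, p.2.2 ^^ q.2.2) := by
      rintro ⟨i, j, k⟩ ⟨i', j', k'⟩
      have e : ∀ (z : H), z * z = 1 → ∀ i i' : Bool, (if i then z else 1) * (if i' then z else 1) = if (i ^^ i') then z else 1 := by
        intro z hz i i'; cases i <;> cases i' <;> simp [hz]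
      have m : ∀ (z : H), z ∈ R → ∀ i : Bool, (if i then z else 1) ∈ R := fun z hz i => by
        cases i; exacts [R.one_mem, hz]
      show _ * _ * _ * (_ * _ * _) = _ * _ * _
      rw [← e x hxx, ← e y hyy, ← e w hww]
      have c1 := hcm _ (m w hwR k) _ (m x hx i')
      have c2 := hcm _ (m w hwR k) _ (m y hyR j')
      have c3 := hcm _ (m y hyR j) _ (m x hx i')
      generalize (if i then x else 1) = X, (if j then y else 1) = Y, (if k then w else 1) = W,
        (if i' then x else 1) = X', (if j' then y else 1) = Y', (if k' then w else 1) = W' at *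
      calc X * Y * W * (X' * Y' * W') = X * Y * (W * X') * Y' * W' := by group
        _ = X * (Y * X') * (W * Y') * W' := by rw [c1]; group
        _ = X * X' * (Y * Y') * (W * W') := by rw [c2, c3]; group
    intro p q h
    have h' : (L p : H) * L q = 1 := by rw [h]; exact hR _ (L q).2
    rw [hLmul] at h'
    have := hker _ h'
    have key : ∀ {a b : Bool}, (a ^^ b) = false → a = b := by decide
    exact Prod.ext (key (congrArg Prod.fst this))
      (Prod.ext (key (congrArg (fun r => r.2.1) this)) (key (congrArg (fun r => r.2.2) this)))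
  have hLsurj : Function.Surjective L :=
    ((Nat.bijective_iff_injective_and_card L).mpr ⟨hLinj, by rw [hcard]; simp⟩).2
  obtain ⟨la, hla⟩ := hsurj x
  set lb := c * la * c⁻¹ with hlb
  set lw := c * lb * c⁻¹ with hlw
  have flb : f lb = y := by rw [hlb, map_mul, map_mul, map_inv, hla, hgc]
  have flw : f lw = w := by rw [hlw, map_mul, map_mul, map_inv, flb, hgc]
  have hk : ∀ u v, f u ∈ R → f v ∈ R → f ⁅u, v⁆ = 1 := fun u v hu hv => by
    rw [map_commutatorElement, commutatorElement_eq_one_iff_mul_comm]; exact hcm _ hu _ hv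
  have hcen : ∀ k : G, f k = 1 → ∀ z, z * k = k * z := fun k hk => Subgroup.mem_center_iff.mp (hc hk)
  have hinvc : ∀ u v, f u ∈ R → f v ∈ R → ⁅c * u * c⁻¹, c * v * c⁻¹⁆ = ⁅u, v⁆ := fun u v hu hv => by
    rw [← comm_conj, conj_of_comm (hcen _ (hk u v hu hv) c)]
  have haR : f la ∈ R := hla.symm ▸ hx
  have hbR : f lb ∈ R := flb.symm ▸ hyR
  have hwR' : f lw ∈ R := flw.symm ▸ hwR
  have right : ∀ u v v', f u ∈ R → f v ∈ R → f v' ∈ R → ⁅u, v * v'⁆ = ⁅u, v⁆ * ⁅u, v'⁆ := fun u v v' hu _ hv' => by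
    rw [comm_mul_right, conj_of_comm (hcen _ (hk u v' hu hv') v)]
  have left : ∀ u u' v, f u ∈ R → f u' ∈ R → f v ∈ R → ⁅u * u', v⁆ = ⁅u', v⁆ * ⁅u, v⁆ := fun u u' v _ hu' hv => by
    rw [comm_mul_left, conj_of_comm (hcen _ (hk u' v hu' hv) u)]
  have sq : ∀ u v, f u ∈ R → f v ∈ R → ⁅u, v⁆ * ⁅u, v⁆ = 1 := fun u v hu hv => by
    rw [← right u v v hu hv hv, comm_congr f hc (x' := u) (y' := 1) rfl (by rw [map_mul, hR _ hv, map_one]),
      commutatorElement_one_right]
  have self : ∀ u : G, ⁅u, u⁆ = 1 := fun u => commutatorElement_self u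
  have swap : ∀ u v, f u ∈ R → f v ∈ R → ⁅v, u⁆ = ⁅u, v⁆ := fun u v hu hv => by
    rw [← commutatorElement_inv]; exact (eq_inv_of_mul_eq_one_left (sq u v hu hv)).symm
  set e₁ := ⁅la, lb⁆ with he₁
  set e₂ := ⁅la, lw⁆ with he₂
  have e₁' : ⁅lb, lw⁆ = e₁ := hinvc la lb haR hbR
  have e₂' : ⁅lb, c * lw * c⁻¹⁆ = e₂ := hinvc la lw haR hwR'
  have e₁'' : ⁅lw, c * lw * c⁻¹⁆ = e₁ := (hinvc lb lw hbR hwR').trans e₁'
  have q11 : e₁ * e₁ = 1 := sq la lb haR hbR
  obtain ⟨⟨i, j, k⟩, hp⟩ := hLsurj ⟨φ w, hgR w hwR⟩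
  have hp' : f (c * lw * c⁻¹) = (if i then x else 1) * (if j then y else 1) * (if k then w else 1) := by
    rw [map_mul, map_mul, map_inv, flw, hgc]
    exact (congrArg Subtype.val hp).symm
  have rep : ∀ v, f v = f (c * lw * c⁻¹) → ⁅lb, v⁆ = e₂ ∧ ⁅lw, v⁆ = e₁ := fun v hv =>
    ⟨(comm_congr f hc rfl hv).trans e₂', (comm_congr f hc rfl hv).trans e₁''⟩
  have hφw : φ w = (if i then x else 1) * (if j then y else 1) * (if k then w else 1) :=
    (congrArg Subtype.val hp).symm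
  have h00 : e₁ = 1 ∧ e₂ = 1 := by
    cases i <;> cases j <;> cases k <;>
      simp only [if_true, Bool.false_eq_true, if_false, mul_one, one_mul] at hp' hφw
    · exact absurd (hinj (hφw.trans hφ1.symm)) hw1
    · exact absurd (hinj hφw) hwy
    · exact absurd (hinj (hφw.trans hy)) hwx
    · exfalso
      have : φ (φ w) = φ x := by
        rw [hφw, hmul, hφw]
        change w * (y * w) = y
        rw [hcm y hyR w hwR, ← mul_assoc, hww, one_mul]
      exact hw3 (hinj this)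
    · exact absurd hφw hw3
    · obtain ⟨h1, h2⟩ := rep (la * lw) (by rw [hp', map_mul, hla, flw])
      rw [right _ _ _ hbR haR hwR', swap la lb haR hbR, e₁', ← he₁, q11] at h1
      rw [right _ _ _ hwR' haR hwR', swap la lw haR hwR', self, mul_one] at h2
      exact ⟨h2.symm.trans h1.symm, h1.symm⟩
    · obtain ⟨h1, h2⟩ := rep (la * lb) (by rw [hp', map_mul, hla, flb])
      rw [right _ _ _ hbR haR hbR, swap la lb haR hbR, self, mul_one] at h1
      rw [right _ _ _ hwR' haR hbR, swap la lw haR hwR', swap lb lw hbR hwR', e₁'] at h2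
      have : e₂ = 1 := mul_eq_right.mp h2
      exact ⟨h1.trans this, this⟩
    · exfalso
      have h4 : φ (φ w) = x := by
        rw [hφw, hmul, hmul, hφw]
        change y * w * (x * y * w) = x
        have e : y * w * (x * y * w) = (x * y * w) * (y * w) := hcm _ (R.mul_mem hyR hwR) _ (R.mul_mem (R.mul_mem hx hyR) hwR)
        rw [e, mul_assoc x y w, mul_assoc x, hR _ (R.mul_mem hyR hwR), mul_one]
      change φ (φ (φ (φ x))) = x at h4
      rw [h4] at h7
      exact hw3 h7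
  obtain ⟨z₁, z₂⟩ := h00
  have hbase : ∀ v, f v ∈ R → ⁅la, v⁆ = 1 ∧ ⁅lb, v⁆ = 1 ∧ ⁅lw, v⁆ = 1 := by
    intro v hv
    obtain ⟨⟨i, j, k⟩, hp⟩ := hLsurj ⟨f v, hv⟩
    have hv' : f v = f ((if i then la else 1) * (if j then lb else 1) * (if k then lw else 1)) := by
      rw [map_mul, map_mul, apply_ite f, apply_ite f, apply_ite f, map_one, hla, flb, flw]
      exact (congrArg Subtype.val hp).symm
    have hm1 : f (if i then la else 1) ∈ R := by cases i <;> simp [hx, hla]
    have hm2 : f (if j then lb else 1) ∈ R := by cases j <;> simp [hyR, flb]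
    have hm3 : f (if k then lw else 1) ∈ R := by cases k <;> simp [hwR, flw]
    refine ⟨?_, ?_, ?_⟩ <;> rw [comm_congr f hc rfl hv', right _ _ _ (by assumption) (by rw [map_mul]; exact R.mul_mem hm1 hm2) hm3,
        right _ _ _ (by assumption) hm1 hm2] <;> cases i <;> cases j <;> cases k <;>
      simp [z₁, z₂, e₁', ← he₁, ← he₂, swap la lb haR hbR, swap la lw haR hwR', swap lb lw hbR hwR', self]
  obtain ⟨⟨i, j, k⟩, hp⟩ := hLsurj ⟨f a, ha⟩
  have ha' : f a = f ((if i then la else 1) * (if j then lb else 1) * (if k then lw else 1)) := by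
    rw [map_mul, map_mul, apply_ite f, apply_ite f, apply_ite f, map_one, hla, flb, flw]
    exact (congrArg Subtype.val hp).symm
  rw [← commutatorElement_eq_one_iff_mul_comm, comm_congr f hc ha' rfl]
  obtain ⟨d1, d2, d3⟩ := hbase b hb
  have hm1 : f (if i then la else 1) ∈ R := by cases i <;> simp [hx, hla]
  have hm2 : f (if j then lb else 1) ∈ R := by cases j <;> simp [hyR, flb]
  have hm3 : f (if k then lw else 1) ∈ R := by cases k <;> simp [hwR, flw]
  rw [left _ _ _ (by rw [map_mul]; exact R.mul_mem hm1 hm2) hm3 hb, left _ _ _ hm1 hm2 hb]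
  cases i <;> cases j <;> cases k <;> simp [d1, d2, d3]

end Comm

section Three

variable [Fintype F] [CharP F 3] {m : ℕ} (S : Tw F)

/-- The weight of the torus on the middle layer, in the coordinate of the top one. -/
def be (x : F) : F := S.th x ^ 3 * x

theorem s_add (x y : F) : S.th (x + y) ^ 3 = S.th x ^ 3 + S.th y ^ 3 := by
  haveI : Fact (Nat.Prime 3) := ⟨Nat.prime_three⟩
  rw [map_add, add_pow_char]

theorem be_alpha (v : Fˣ) : be S (S.alpha v) = S.beta v := by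
  have h := S.th_inv3 (v : F)
  have h3 : S.th (S.th (v : F) ^ 3) ^ 3 = (v : F) ^ 3 := by rw [h]
  simp only [be, Tw.alpha, Tw.beta, map_div₀, map_pow] at *
  rw [div_pow, h3]
  have := v.ne_zero
  have := S.th_ne v
  field_simp

theorem exists_alpha {x : F} (hx : x ≠ 0) : ∃ v : Fˣ, S.alpha v = x := by
  classical
  let a : Fˣ → Fˣ := fun v => Units.mk0 (S.alpha v) (div_ne_zero (pow_ne_zero _ v.ne_zero) (pow_ne_zero _ (S.th_ne v)))
  have ha : Function.Injective a := fun v w h => by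
    have h' : S.alpha v = S.alpha w := congrArg Units.val h
    have hne : S.alpha w ≠ 0 := (a w).ne_zero
    have e : S.alpha (v * w⁻¹) * S.alpha w = S.alpha w := by rw [← S.alpha_mul, inv_mul_cancel_right, h']
    exact mul_inv_eq_one.mp (S.alpha_eq_one ((mul_eq_right₀ hne).mp e))
  obtain ⟨v, hv⟩ := (Finite.injective_iff_surjective.mp ha) (Units.mk0 x hx)
  exact ⟨v, congrArg Units.val hv⟩

theorem exists_beta (hK : Fintype.card F = 3 ^ (2 * m + 1)) {x : F} (hx : x ≠ 0) :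
    ∃ v : Fˣ, S.beta v = x ∨ S.beta v = -x := by
  classical
  let b : Fˣ →* Fˣ := MonoidHom.mk'
    (fun v => Units.mk0 (S.beta v) (div_ne_zero (pow_ne_zero _ (S.th_ne v)) v.ne_zero))
    (fun v w => Units.ext (by
      simp only [Units.val_mul, Units.val_mk0, Tw.beta, map_mul, mul_pow]
      rw [div_mul_div_comm]))
  have hker : ∀ v, v ∈ b.ker ↔ v = 1 ∨ v = -1 := by
    intro v
    constructor
    · intro h
      by_contra hn
      push Not at hn
      exact S.beta_ne_one hn.1 hn.2 (congrArg Units.val h)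
    · rintro (rfl | rfl)
      · exact one_mem _
      · exact Units.ext S.beta_neg_one
  have hne : (1 : Fˣ) ≠ -1 := fun e => by
    have := congrArg Units.val e
    rw [Units.val_neg, Units.val_one] at this
    exact neg_one_ne_one this.symm
  have hk2 : Nat.card b.ker = 2 := by
    have : (b.ker : Set Fˣ) = {1, -1} := by ext v; simpa using hker v
    rw [← SetLike.coe_sort_coe, Nat.card_coe_set_eq, this, Set.ncard_pair hne]
  have hidx : b.range.index = 2 := by
    have h1 := b.ker.index_mul_card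
    rw [Subgroup.index_ker, hk2] at h1
    have h2 := b.range.index_mul_card
    rw [← h1, mul_comm (Nat.card b.range) 2] at h2
    exact Nat.eq_of_mul_eq_mul_right Nat.card_pos h2
  have hneg : (-1 : Fˣ) ∉ b.range := by
    intro h
    have h2 : 2 ∣ Nat.card b.range := by
      have := Subgroup.orderOf_dvd_natCard _ h
      rwa [orderOf_eq_prime (p := 2) (by simp) (Ne.symm hne)] at this
    have h1 := b.range.index_mul_card
    rw [hidx, Nat.card_units, Nat.card_eq_fintype_card (α := F), hK] at h1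
    obtain ⟨k, hk⟩ := h2
    have h3 : 3 ^ (2 * m + 1) % 4 = 3 := by
      rw [pow_succ, pow_mul, Nat.mul_mod, Nat.pow_mod]; norm_num
    omega
  by_cases h : Units.mk0 x hx ∈ b.range
  · obtain ⟨v, hv⟩ := h
    exact ⟨v, Or.inl (congrArg Units.val hv)⟩
  · have h2 : (-1 : Fˣ) * Units.mk0 x hx ∈ b.range :=
      (Subgroup.mul_mem_iff_of_index_two hidx).mpr ⟨fun e => absurd e hneg, fun e => absurd e h⟩
    obtain ⟨v, hv⟩ := h2
    refine ⟨v, Or.inr ?_⟩
    have := congrArg Units.val hv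
    change S.beta v = -1 * x at this
    rw [this, neg_one_mul]

theorem exists_goods (hm : 1 ≤ m) (hK : Fintype.card F = 3 ^ (2 * m + 1)) (hth : ∀ x, S.th x = x ^ 3 ^ m) :
    (∃ a : F, a ≠ 0 ∧ 1 + a ≠ 0 ∧ (id (1 + a) : F)⁻¹ - (1 + (id a : F)⁻¹) ≠ 0) ∧
    (∃ a : F, a ≠ 0 ∧ 1 + a ≠ 0 ∧ (S.th (1 + a) ^ 3 / (1 + a))⁻¹ - (1 + (S.th a ^ 3 / a)⁻¹) ≠ 0) ∧
    (∃ a : F, a ≠ 0 ∧ 1 + a ≠ 0 ∧ (be S (1 + a))⁻¹ - (1 + (be S a)⁻¹) ≠ 0) ∧
    (∃ a : F, a ≠ 0 ∧ 1 + a ≠ 0 ∧ (be S (1 + a) * (1 + a))⁻¹ - (1 + (be S a * a)⁻¹) ≠ 0) := by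
  classical
  have h3 : (3 : F) = 0 := by exact_mod_cast CharP.cast_eq_zero F 3
  have hne : ∀ {u v : F}, u ≠ 0 → v ≠ 0 → u⁻¹ - (1 + v⁻¹) = 0 → v - u * v - u = 0 := by
    intro u v hu hv h
    field_simp at h
    linear_combination h
  have hroot : ∀ p : Polynomial F, p.natDegree + 2 < Fintype.card F → p.eval 0 ≠ 0 →
      ∃ a : F, a ≠ 0 ∧ 1 + a ≠ 0 ∧ p.eval a ≠ 0 := by
    intro p hp h0
    by_contra hall
    push Not at hall
    have hp0 : p ≠ 0 := fun e => by rw [e, Polynomial.eval_zero] at h0; exact h0 rfl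
    have hsub : (Finset.univ : Finset F) ⊆ insert 0 (insert (-1) p.roots.toFinset) := by
      intro a _
      by_cases ha : a = 0
      · simp [ha]
      by_cases ha1 : 1 + a = 0
      · simp [eq_neg_of_add_eq_zero_right ha1]
      exact Finset.mem_insert_of_mem (Finset.mem_insert_of_mem (by simp [hp0, hall a ha ha1]))
    have h1 := Finset.card_le_card hsub
    have h2 := Finset.card_insert_le (0 : F) (insert (-1) p.roots.toFinset)
    have h3 := Finset.card_insert_le (-1 : F) p.roots.toFinset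
    have h4 := (Multiset.toFinset_card_le p.roots).trans (Polynomial.card_roots' p)
    rw [Finset.card_univ] at h1
    omega
  have hbig : 4 + 2 * (3 ^ m * 3) + 2 < Fintype.card F := by
    rw [hK]
    have h3m : 3 ≤ 3 ^ m := by
      calc 3 = 3 ^ 1 := rfl
        _ ≤ 3 ^ m := Nat.pow_le_pow_right (by norm_num) hm
    rw [show 3 ^ (2 * m + 1) = 3 * (3 ^ m * 3 ^ m) by rw [← pow_add, ← pow_succ']; ring_nf]
    nlinarith
  have hs : ∀ a : F, S.th a ^ 3 = a ^ (3 ^ m * 3) := fun a => by rw [hth, ← pow_mul]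
  open Polynomial in
  refine ⟨?_, ?_, ?_, ?_⟩
  · obtain ⟨a, ha, ha1, he⟩ := hroot (1 + Polynomial.X + Polynomial.X ^ 2) (by
      have : (1 + Polynomial.X + Polynomial.X ^ 2 : F[X]).natDegree ≤ 2 := by compute_degree
      omega) (by simp)
    refine ⟨a, ha, ha1, fun h => he ?_⟩
    have h' := hne (u := 1 + a) (v := a) ha1 ha h
    simp only [eval_add, eval_one, eval_X, eval_pow]
    linear_combination -h'
  · have h1 : (1 : F) + 1 = -1 := by linear_combination h3
    refine ⟨1, one_ne_zero, by rw [h1]; exact neg_ne_zero.mpr one_ne_zero, ?_⟩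
    rw [h1, map_neg, map_one]
    intro h
    exact neg_one_ne_one (F := F) (by norm_num at h)
  · obtain ⟨a, ha, ha1, he⟩ := hroot (Polynomial.X ^ (3 ^ m * 3) * Polynomial.X - ((Polynomial.X ^ (3 ^ m * 3) + 1) * (Polynomial.X + 1)) * (Polynomial.X ^ (3 ^ m * 3) * Polynomial.X) -
        (Polynomial.X ^ (3 ^ m * 3) + 1) * (Polynomial.X + 1)) (by
      have hA : (Polynomial.X ^ (3 ^ m * 3) * Polynomial.X : F[X]).natDegree ≤ 3 ^ m * 3 + 1 :=
        natDegree_mul_le_of_le (natDegree_X_pow_le _) natDegree_X_le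
      have hB : ((Polynomial.X ^ (3 ^ m * 3) + 1) * (Polynomial.X + 1) : F[X]).natDegree ≤ 3 ^ m * 3 + 1 :=
        natDegree_mul_le_of_le (natDegree_add_le_of_degree_le (natDegree_X_pow_le _) (by simp))
          (natDegree_add_le_of_degree_le natDegree_X_le (by simp))
      have h1 := natDegree_mul_le_of_le hB hA
      have h2 := natDegree_sub_le_of_le (natDegree_sub_le_of_le hA h1) hB
      omega) (by simp)
    refine ⟨a, ha, ha1, fun h => he ?_⟩
    have h' := hne (mul_ne_zero (pow_ne_zero _ ((map_ne_zero S.th).mpr ha1)) ha1)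
      (mul_ne_zero (pow_ne_zero _ ((map_ne_zero S.th).mpr ha)) ha) h
    rw [s_add, map_one, one_pow, hs] at h'
    simp only [eval_add, eval_one, eval_X, eval_pow, eval_mul, eval_sub]
    linear_combination h'
  · obtain ⟨a, ha, ha1, he⟩ := hroot (Polynomial.X ^ (3 ^ m * 3) * Polynomial.X * Polynomial.X - ((Polynomial.X ^ (3 ^ m * 3) + 1) * (Polynomial.X + 1) * (Polynomial.X + 1)) * (Polynomial.X ^ (3 ^ m * 3) * Polynomial.X * Polynomial.X) -
        (Polynomial.X ^ (3 ^ m * 3) + 1) * (Polynomial.X + 1) * (Polynomial.X + 1)) (by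
      have hA : (Polynomial.X ^ (3 ^ m * 3) * Polynomial.X * Polynomial.X : F[X]).natDegree ≤ 3 ^ m * 3 + 1 + 1 :=
        natDegree_mul_le_of_le (natDegree_mul_le_of_le (natDegree_X_pow_le _) natDegree_X_le) natDegree_X_le
      have hB : ((Polynomial.X ^ (3 ^ m * 3) + 1) * (Polynomial.X + 1) * (Polynomial.X + 1) : F[X]).natDegree ≤ 3 ^ m * 3 + 1 + 1 :=
        natDegree_mul_le_of_le (natDegree_mul_le_of_le (natDegree_add_le_of_degree_le (natDegree_X_pow_le _) (by simp))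
          (natDegree_add_le_of_degree_le natDegree_X_le (by simp))) (natDegree_add_le_of_degree_le natDegree_X_le (by simp))
      have h1 := natDegree_mul_le_of_le hB hA
      have h2 := natDegree_sub_le_of_le (natDegree_sub_le_of_le hA h1) hB
      omega) (by simp)
    refine ⟨a, ha, ha1, fun h => he ?_⟩
    have h' := hne (mul_ne_zero (mul_ne_zero (pow_ne_zero _ ((map_ne_zero S.th).mpr ha1)) ha1) ha1)
      (mul_ne_zero (mul_ne_zero (pow_ne_zero _ ((map_ne_zero S.th).mpr ha)) ha) ha) h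
    rw [s_add, map_one, one_pow, hs] at h'
    simp only [eval_add, eval_one, eval_X, eval_pow, eval_mul, eval_sub]
    linear_combination h'

variable {G : Type*} [Group G] (f : G →* ↥S.Gr)

/-- The middle term of the series of the unipotent group. -/
def UV : Subgroup ↥S.Gr where
  carrier := {g | ∃ u w, g = S.R 0 u w}
  one_mem' := ⟨0, 0, S.R_zero.symm⟩
  mul_mem' := by
    rintro _ _ ⟨u, w, rfl⟩ ⟨u', w', rfl⟩
    exact ⟨_, _, S.R0_mul u w u' w'⟩
  inv_mem' := by
    rintro _ ⟨u, w, rfl⟩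
    exact ⟨_, _, S.R_inv0 u w⟩

theorem kill (hm : 1 ≤ m) (hK : Fintype.card F = 3 ^ (2 * m + 1)) (hth : ∀ x, S.th x = x ^ 3 ^ m)
    (hf : Function.Surjective f) (hc : f.ker ≤ Subgroup.center G)
    {y : G} (hy : y ∈ ⁅S.UU.comap f, S.UU.comap f⁆) (hy1 : f y = 1) : y ^ (Nat.card Fˣ) = 1 := by
  classical
  have hcen : ∀ k : G, f k = 1 → ∀ g, g * k = k * g := fun k hk => Subgroup.mem_center_iff.mp (hc hk)
  choose L hL using hf
  let lt : F → G := fun t => L (S.R t 0 0)
  let lu : F → G := fun u => L (S.R 0 u 0)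
  let lw : F → G := fun w => L (S.R 0 0 w)
  obtain ⟨hg1, hg2, hg3, hg4⟩ := exists_goods S hm hK hth
  have hbe : ∀ x : F, x ≠ 0 → be S x ≠ 0 := fun x hx => mul_ne_zero (pow_ne_zero _ ((map_ne_zero S.th).mpr hx)) hx
  let d : Fˣ → G := fun v => L (S.D v)
  have hd : ∀ (v : Fˣ) {x : G} {t u w : F}, f x = S.R t u w →
      f (d v * x * (d v)⁻¹) = S.R (S.alpha v * t) (S.beta v * u) ((v : F) * w) := by
    intro v x t u w hx
    rw [map_mul, map_mul, map_inv, hL, hx, S.D_conj]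
  have flt : ∀ t, f (lt t) = S.R t 0 0 := fun t => hL _
  have flu : ∀ u, f (lu u) = S.R 0 u 0 := fun u => hL _
  have flw : ∀ w, f (lw w) = S.R 0 0 w := fun w => hL _
  have addw : ∀ w w', f (lw (w + w')) = f (lw w * lw w') := fun w w' => by
    rw [map_mul, flw, flw, flw, S.R0_mul, add_zero]
  have addu : ∀ u u', f (lu (u + u')) = f (lu u * lu u') := fun u u' => by
    rw [map_mul, flu, flu, flu, S.R0_mul, add_zero]
  have invk : ∀ (v : Fˣ) (x x' y y' : G), f ⁅x, y⁆ = 1 → f x' = f (d v * x * (d v)⁻¹) →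
      f y' = f (d v * y * (d v)⁻¹) → ⁅x', y'⁆ = ⁅x, y⁆ := fun v x x' y y' h hx hy => by
    rw [comm_congr f hc hx hy, ← comm_conj, conj_of_comm (hcen _ h (d v))]
  have com0 : ∀ {x y : G} {t u w w' : F}, f x = S.R t u w → f y = S.R 0 0 w' → f ⁅x, y⁆ = 1 := by
    intro x y t u w w' hx hy
    rw [map_commutatorElement, hx, hy, commutatorElement_eq_one_iff_mul_comm, S.R_mul, S.R_mul]
    congr 1 <;> simp <;> ring
  -- the bottom layer is abelian
  have kww : ∀ w w', f ⁅lw w, lw w'⁆ = 1 := fun w w' => com0 (flw w) (flw w')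
  have bww : ∀ w w', ⁅lw w, lw w'⁆ = 1 := by
    refine vanish (fun w w' => ⁅lw w, lw w'⁆) id (fun x hx => hx) ?_ ?_ ?_ hg1
    · intro w w' z
      rw [comm_congr f hc (addw w w') rfl, comm_mul_left, conj_of_comm (hcen _ (kww w' z) _)]
      exact hcen _ (kww w z) _
    · intro w z z'
      rw [comm_congr f hc rfl (addw z z'), comm_mul_right, conj_of_comm (hcen _ (kww w z') _)]
    · intro x w w' hx
      refine invk (Units.mk0 x hx) _ _ _ _ (kww w w') ?_ ?_ <;> rw [flw, hd _ (flw _)] <;> simp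
  have ktw : ∀ t w, f ⁅lt t, lw w⁆ = 1 := fun t w => com0 (flt t) (flw w)
  have kuw : ∀ u w, f ⁅lu u, lw w⁆ = 1 := fun u w => com0 (flu u) (flw w)
  have kwu : ∀ w u, f ⁅lw w, lu u⁆ = 1 := fun w u => by
    rw [← commutatorElement_inv, map_inv, kuw, inv_one]
  have buw : ∀ w u, ⁅lw w, lu u⁆ = 1 := by
    refine vanish (fun w u => ⁅lw w, lu u⁆) (fun x => S.th x ^ 3 / x)
      (fun x hx => div_ne_zero (pow_ne_zero _ ((map_ne_zero S.th).mpr hx)) hx) ?_ ?_ ?_ hg2
    · intro w w' z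
      rw [comm_congr f hc (addw w w') rfl, comm_mul_left, conj_of_comm (hcen _ (kwu w' z) _)]
      exact hcen _ (kwu w z) _
    · intro w z z'
      rw [comm_congr f hc rfl (addu z z'), comm_mul_right, conj_of_comm (hcen _ (kwu w z') _)]
    · intro x w u hx
      refine invk (Units.mk0 x hx) _ _ _ _ (kwu w u) ?_ ?_
      · rw [flw, hd _ (flw _)]; simp
      · rw [flu, hd _ (flu _)]; simp [Tw.beta]
  have cdec : ∀ {x : G} {u w : F}, f x = S.R 0 u w → f x = f (lu u * lw w) := fun {x u w} hx => by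
    rw [map_mul, flu, flw, S.R0_mul, hx]; simp
  have Wuw : ∀ {x : G} {u w : F}, f x = S.R 0 u w → ∀ z, ⁅x, lw z⁆ = 1 := by
    intro x u w hx z
    rw [comm_congr f hc (cdec hx) rfl, comm_mul_left, bww, mul_one, mul_inv_cancel, one_mul,
      ← commutatorElement_inv, buw, inv_one]
  have addt : ∀ t t', ∃ u w, f (lt t * lt t') = f (lt (t + t') * (lu u * lw w)) ∧ f (lu u * lw w) = S.R 0 u w := by
    intro t t'
    refine ⟨-(S.th t' ^ 3 * t), -(S.th t' ^ 3 * t ^ 2) + t' * t * S.th t' ^ 3, ?_, ?_⟩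
    · rw [map_mul, map_mul, map_mul, flt, flt, flt, flu, flw, S.R0_mul, S.R_mul, S.R_mul]
      congr 1 <;> simp <;> ring
    · rw [map_mul, flu, flw, S.R0_mul]; simp
  have btw : ∀ t w, ⁅lt t, lw w⁆ = 1 := by
    refine vanish (fun t w => ⁅lt t, lw w⁆) (fun x => be S x * x) (fun x hx => mul_ne_zero (hbe x hx) hx) ?_ ?_ ?_ hg4
    · intro t t' z
      obtain ⟨u, w, h, h'⟩ := addt t t'
      have e := comm_congr f hc h (rfl : f (lw z) = f (lw z))
      rw [comm_mul_left, comm_mul_left, conj_of_comm (hcen _ (ktw t' z) _), Wuw h', mul_one, mul_inv_cancel, one_mul] at e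
      exact e.symm.trans (hcen _ (ktw t z) _)
    · intro t z z'
      rw [comm_congr f hc rfl (addw z z'), comm_mul_right, conj_of_comm (hcen _ (ktw t z') _)]
    · intro x t w hx
      obtain ⟨v, hv⟩ := exists_alpha S hx
      refine invk v _ _ _ _ (ktw t w) ?_ ?_
      · rw [flt, hd _ (flt _), hv]; simp
      · rw [flw, hd _ (flw _), ← hv, be_alpha]
        have := S.th_ne v
        have := v.ne_zero
        congr 1
        · simp
        · simp
        · simp only [Tw.beta, Tw.alpha]; field_simp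
  have kuu : ∀ u u', f ⁅lu u, lu u'⁆ = 1 := fun u u' => by
    rw [map_commutatorElement, flu, flu, commutatorElement_eq_one_iff_mul_comm, S.R0_mul, S.R0_mul, add_comm u u']
  have addul : ∀ u u' z, ⁅lu (u + u'), lu z⁆ = ⁅lu u, lu z⁆ * ⁅lu u', lu z⁆ := fun u u' z => by
    rw [comm_congr f hc (addu u u') rfl, comm_mul_left, conj_of_comm (hcen _ (kuu u' z) _)]
    exact hcen _ (kuu u z) _
  have addur : ∀ u z z', ⁅lu u, lu (z + z')⁆ = ⁅lu u, lu z⁆ * ⁅lu u, lu z'⁆ := fun u z z' => by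
    rw [comm_congr f hc rfl (addu z z'), comm_mul_right, conj_of_comm (hcen _ (kuu u z') _)]
  have buu : ∀ u u', ⁅lu u, lu u'⁆ = 1 := by
    refine vanish (fun u u' => ⁅lu u, lu u'⁆) id (fun x hx => hx) addul addur ?_ hg1
    intro x u u' hx
    show ⁅lu (x * u), lu (x * u')⁆ = ⁅lu u, lu u'⁆
    obtain ⟨v, hv⟩ := exists_beta S hK hx
    rcases hv with hv | hv
    · refine invk v _ _ _ _ (kuu u u') ?_ ?_ <;> rw [flu, hd _ (flu _), hv] <;> simp
    · have zl : ∀ z, ⁅lu 0, lu z⁆ = 1 := fun z => by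
        have := addul 0 0 z
        rwa [add_zero, left_eq_mul] at this
      have zr : ∀ z, ⁅lu z, lu 0⁆ = 1 := fun z => by
        have := addur z 0 0
        rwa [add_zero, left_eq_mul] at this
      have nl : ∀ a b, ⁅lu (-a), lu b⁆ = ⁅lu a, lu b⁆⁻¹ := fun a b =>
        eq_inv_of_mul_eq_one_left (by rw [← addul, neg_add_cancel, zl])
      have nr : ∀ a b, ⁅lu a, lu (-b)⁆ = ⁅lu a, lu b⁆⁻¹ := fun a b =>
        eq_inv_of_mul_eq_one_left (by rw [← addur, neg_add_cancel, zr])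
      have h : ⁅lu (-(x * u)), lu (-(x * u'))⁆ = ⁅lu u, lu u'⁆ := by
        refine invk v _ _ _ _ (kuu u u') ?_ ?_ <;> rw [flu, hd _ (flu _), hv] <;> simp
      rwa [nl, nr, inv_inv] at h
  set T : Subgroup G := S.UU.comap f with hT
  set V : Subgroup G := (UV S).comap f with hV
  have tdec : ∀ x ∈ T, ∃ t, ∃ c ∈ V, x = lt t * c := by
    intro x hx
    obtain ⟨t, u, w, h⟩ := S.mem_U.mp hx
    refine ⟨t, (lt t)⁻¹ * x, ?_, (mul_inv_cancel_left _ _).symm⟩
    obtain ⟨u', w', e⟩ := S.R_inv t 0 0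
    show f ((lt t)⁻¹ * x) ∈ UV S
    rw [map_mul, map_inv, flt, h, e, S.R_mul, neg_add_cancel]
    exact ⟨_, _, rfl⟩
  have hVV : ∀ a ∈ V, ∀ b ∈ V, a * b = b * a := by
    rintro a ⟨u, w, ha⟩ b ⟨u', w', hb⟩
    rw [← commutatorElement_eq_one_iff_mul_comm, comm_congr f hc (cdec ha) (cdec hb), comm_mul_right]
    have e1 : ⁅lu u * lw w, lw w'⁆ = 1 := Wuw (show f (lu u * lw w) = S.R 0 u w from ((cdec ha).symm.trans ha)) w'
    rw [e1, mul_one, mul_inv_cancel, mul_one, comm_mul_left, buu, mul_one, buw, mul_one, mul_inv_cancel]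
  have hVT : V ≤ T := fun x ⟨u, w, h⟩ => show f x ∈ S.UU from h ▸ S.R_mem_U 0 u w
  have hVn : ∀ x ∈ T, ∀ c ∈ V, x * c * x⁻¹ ∈ V := by
    rintro x hx c ⟨u, w, h⟩
    obtain ⟨t, a, b, hx'⟩ := S.mem_U.mp hx
    obtain ⟨a', b', e⟩ := S.R_inv t a b
    show f (x * c * x⁻¹) ∈ UV S
    rw [map_mul, map_mul, map_inv, hx', h, e, S.R_mul, S.R_mul, add_zero, add_neg_cancel]
    exact ⟨_, _, rfl⟩
  have hTT : ∀ x ∈ T, ∀ y ∈ T, ⁅x, y⁆ ∈ V := by
    intro x hx y hy
    obtain ⟨t, a, b, hx'⟩ := S.mem_U.mp hx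
    obtain ⟨t', a', b', hy'⟩ := S.mem_U.mp hy
    obtain ⟨i, j, e⟩ := S.R_inv t a b
    obtain ⟨i', j', e'⟩ := S.R_inv t' a' b'
    show f ⁅x, y⁆ ∈ UV S
    rw [map_commutatorElement, hx', hy', commutatorElement_def, e, e', S.R_mul, S.R_mul, S.R_mul,
      show t + t' + -t + -t' = (0 : F) by ring]
    exact ⟨_, _, rfl⟩
  letI : CommGroup V :=
    { (inferInstance : Group V) with mul_comm := fun a b => Subtype.ext (hVV a a.2 b b.2) }
  have hmem : ∀ (v : Fˣ) (c : V), d v * (c : G) * (d v)⁻¹ ∈ V := by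
    rintro v ⟨c, u, w, h⟩
    show f (d v * c * (d v)⁻¹) ∈ UV S
    rw [hd v h, mul_zero]
    exact ⟨_, _, rfl⟩
  let act : Fˣ → V →* V := fun v =>
    { toFun := fun c => ⟨_, hmem v c⟩
      map_one' := Subtype.ext (by simp)
      map_mul' := fun a b => Subtype.ext (conj_mul.symm) }
  let N : V →* V :=
    { toFun := fun c => ∏ v : Fˣ, act v c
      map_one' := by simp
      map_mul' := fun a b => by simp [Finset.prod_mul_distrib] }
  have actmul : ∀ (s t : Fˣ) (c : V), act s (act t c) = act (s * t) c := by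
    intro s t c
    refine Subtype.ext ?_
    show d s * (d t * (c : G) * (d t)⁻¹) * (d s)⁻¹ = d (s * t) * (c : G) * (d (s * t))⁻¹
    have e : f ((d s * d t)⁻¹ * d (s * t)) = 1 := by
      rw [map_mul, map_inv, map_mul, hL, hL, hL, map_mul, inv_mul_cancel]
    set k := (d s * d t)⁻¹ * d (s * t) with hk
    rw [show d (s * t) = d s * d t * k by rw [hk, mul_inv_cancel_left]]
    calc _ = d s * d t * ((c : G) * k) * k⁻¹ * (d t)⁻¹ * (d s)⁻¹ := by group
      _ = _ := by rw [hcen k e (c : G)]; group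
  have hNact : ∀ (t : Fˣ) (c : V), N (act t c) = N c := by
    intro t c
    show ∏ s : Fˣ, act s (act t c) = ∏ s : Fˣ, act s c
    rw [← Equiv.prod_comp (Equiv.mulRight t) (fun s => act s c)]
    exact Finset.prod_congr rfl fun s _ => actmul s t c
  have hker : ∀ c : V, f (N c : G) = 1 := by
    intro c
    obtain ⟨u, w, h⟩ := (N c).2
    obtain ⟨v, h1, h2⟩ := Tw.exists_good_unit hK hm
    have he : act v (N c) = N c := by
      conv_rhs => rw [← hNact v c]
      show act v (∏ s : Fˣ, act s c) = ∏ s : Fˣ, act s (act v c)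
      rw [map_prod]
      exact Finset.prod_congr rfl fun s _ => by rw [actmul, actmul, mul_comm]
    have h3 := congrArg (fun z : V => f (z : G)) he
    change f (d v * (N c : G) * (d v)⁻¹) = f (N c : G) at h3
    rw [hd v h, h, mul_zero] at h3
    obtain ⟨-, hu, hw⟩ := S.R_inj h3
    have hu0 : u = 0 := by
      by_contra hne
      exact S.beta_ne_one h1 h2 (mul_right_cancel₀ hne (hu.trans (one_mul u).symm))
    have hw0 : w = 0 := by
      by_contra hne
      exact h1 (Units.ext (mul_right_cancel₀ hne (hw.trans (one_mul w).symm)))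
    rw [h, hu0, hw0, S.R_zero]
  -- commutators with the middle layer
  have htlu : ∀ t u, ⁅lt t, lu u⁆ ∈ V := fun t u =>
    hTT _ (show f _ ∈ S.UU from flt t ▸ S.R_mem_U _ _ _) _ (show f _ ∈ S.UU from flu u ▸ S.R_mem_U _ _ _)
  have Wcen : ∀ {c : G} {w : F}, f c = S.R 0 0 w → ∀ t, lt t * c = c * lt t := by
    intro c w h t
    rw [← commutatorElement_eq_one_iff_mul_comm, comm_congr f hc rfl (h.trans (flw w).symm), btw]
  have htluW : ∀ t u, ∃ w, f ⁅lt t, lu u⁆ = S.R 0 0 w := by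
    intro t u
    obtain ⟨a, b, e⟩ := S.R_inv t 0 0
    obtain ⟨a', b', e'⟩ := S.R_inv 0 u 0
    have h0 : (S.R t 0 0)⁻¹ * S.R t 0 0 = 1 := inv_mul_cancel _
    have h0' : (S.R 0 u 0)⁻¹ * S.R 0 u 0 = 1 := inv_mul_cancel _
    rw [e, S.R_mul, ← S.R_zero] at h0
    rw [e', S.R_mul, ← S.R_zero] at h0'
    rw [map_commutatorElement, flt, flu, commutatorElement_def, e, e', S.R_mul, S.R_mul, S.R_mul]
    refine ⟨_, congrArg₂ (fun p q => S.R p q _) (by ring) ?_⟩
    have h1 := (S.R_inj h0).2.1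
    have h2 := (S.R_inj h0').2.1
    simp only [map_zero, neg_zero, map_neg] at h1 h2 ⊢
    linear_combination h1 + h2
  have bNtu : ∀ t u, N ⟨_, htlu t u⟩ = 1 := by
    refine vanish (fun t u => N ⟨_, htlu t u⟩) (be S) hbe ?_ ?_ ?_ hg3
    · intro t t' u
      obtain ⟨a, b, h, h'⟩ := addt t t'
      obtain ⟨w, hw⟩ := htluW t' u
      have e := comm_congr f hc h (rfl : f (lu u) = f (lu u))
      have hv : lu u ∈ V := ⟨u, 0, flu u⟩
      rw [comm_mul_left, comm_mul_left, conj_of_comm (Wcen hw t),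
        commutatorElement_eq_one_iff_mul_comm.mpr (hVV _ ⟨a, b, h'⟩ _ hv), mul_one, mul_inv_cancel, one_mul] at e
      rw [← map_mul]
      exact congrArg N (Subtype.ext (e.symm.trans (hVV _ (htlu t' u) _ (htlu t u))))
    · intro t u u'
      rw [← map_mul]
      refine congrArg N (Subtype.ext ?_)
      show ⁅lt t, lu (u + u')⁆ = ⁅lt t, lu u⁆ * ⁅lt t, lu u'⁆
      rw [comm_congr f hc rfl (addu u u'), comm_mul_right,
        conj_of_comm (hVV _ ⟨u, 0, flu u⟩ _ (htlu t u'))]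
    · intro x t u hx
      obtain ⟨v, hv⟩ := exists_alpha S hx
      rw [← hNact v ⟨_, htlu t u⟩]
      refine congrArg N (Subtype.ext ?_)
      show ⁅lt (x * t), lu (be S x * u)⁆ = d v * ⁅lt t, lu u⁆ * (d v)⁻¹
      rw [comm_conj]
      refine comm_congr f hc ?_ ?_
      · rw [flt, hd _ (flt _), hv]; simp
      · rw [flu, hd _ (flu _), ← hv, be_alpha]; simp
  have hltT : ∀ t, lt t ∈ T := fun t => show f _ ∈ S.UU from flt t ▸ S.R_mem_U _ _ _
  have bNtV : ∀ t, ∀ c, (hcV : c ∈ V) → N ⟨⁅lt t, c⁆, hTT _ (hltT t) _ (hVT hcV)⟩ = 1 := by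
    intro t c hcV
    obtain ⟨u, w, h⟩ := hcV
    refine (congrArg N (Subtype.ext ?_)).trans (bNtu t u)
    show ⁅lt t, c⁆ = ⁅lt t, lu u⁆
    rw [comm_congr f hc rfl (cdec h), comm_mul_right, btw, mul_one, mul_inv_cancel, mul_one]
  have bconj : ∀ x, (hx : x ∈ T) → ∀ c, (hcV : c ∈ V) → N ⟨x * c * x⁻¹, hVn x hx c hcV⟩ = N ⟨c, hcV⟩ := by
    intro x hx c hcV
    obtain ⟨t, e, he, rfl⟩ := tdec x hx
    have h1 : lt t * e * c * (lt t * e)⁻¹ = ⁅lt t, c⁆ * c := by
      rw [mul_assoc (lt t) e c, hVV e he c hcV, commutatorElement_def]; group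
    rw [show (⟨_, hVn _ hx c hcV⟩ : V) = ⟨⁅lt t, c⁆, hTT _ (hltT t) _ (hVT hcV)⟩ * ⟨c, hcV⟩ from Subtype.ext h1,
      map_mul, bNtV t c hcV, one_mul]
  have htt : ∀ t t', ⁅lt t, lt t'⁆ ∈ V := fun t t' => hTT _ (hltT t) _ (hltT t')
  have stripL : ∀ x, (hx : x ∈ T) → ∀ c, (hcV : c ∈ V) → ∀ y, (hy : y ∈ T) →
      N ⟨⁅x * c, y⁆, hTT _ (T.mul_mem hx (hVT hcV)) _ hy⟩ = N ⟨⁅x, y⁆, hTT _ hx _ hy⟩ := by
    intro x hx c hcV y hy
    have hcy := hTT _ (hVT hcV) _ hy
    rw [show (⟨_, hTT _ (T.mul_mem hx (hVT hcV)) _ hy⟩ : V) = ⟨_, hVn x hx _ hcy⟩ * ⟨_, hTT _ hx _ hy⟩ from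
      Subtype.ext (comm_mul_left x c y), map_mul, bconj x hx _ hcy]
    obtain ⟨t, e, he, rfl⟩ := tdec y hy
    have h1 : (⟨_, hcy⟩ : V) = (⟨_, hTT _ (hltT t) _ (hVT hcV)⟩ : V)⁻¹ := Subtype.ext (by
      show ⁅c, lt t * e⁆ = ⁅lt t, c⁆⁻¹
      rw [comm_mul_right, commutatorElement_eq_one_iff_mul_comm.mpr (hVV c hcV e he), mul_one, mul_inv_cancel,
        mul_one, commutatorElement_inv])
    rw [h1, map_inv, bNtV t c hcV, inv_one, one_mul]
  have stripR : ∀ x, (hx : x ∈ T) → ∀ c, (hcV : c ∈ V) → ∀ y, (hy : y ∈ T) →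
      N ⟨⁅y, x * c⁆, hTT _ hy _ (T.mul_mem hx (hVT hcV))⟩ = N ⟨⁅y, x⁆, hTT _ hy _ hx⟩ := by
    intro x hx c hcV y hy
    have e1 : ∀ {a b : G} (ha : a ∈ T) (hb : b ∈ T), (⟨_, hTT _ ha _ hb⟩ : V) = (⟨_, hTT _ hb _ ha⟩ : V)⁻¹ :=
      fun _ _ => Subtype.ext (commutatorElement_inv _ _).symm
    rw [e1 hy (T.mul_mem hx (hVT hcV)), map_inv, stripL x hx c hcV y hy, e1 hy hx, map_inv]
  have bNtt : ∀ t t', N ⟨_, htt t t'⟩ = 1 := by
    refine vanish (fun t t' => N ⟨_, htt t t'⟩) id (fun x hx => hx) ?_ ?_ ?_ hg1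
    · intro t t' z
      obtain ⟨a, b, h, h'⟩ := addt t t'
      have hce : (lu a * lw b) ∈ V := ⟨a, b, h'⟩
      have e1 : N ⟨_, hTT _ (T.mul_mem (hltT t) (hltT t')) _ (hltT z)⟩ = N ⟨_, htt (t + t') z⟩ := by
        rw [← stripL _ (hltT (t + t')) _ hce _ (hltT z)]
        exact congrArg N (Subtype.ext (comm_congr f hc h rfl))
      rw [← e1, show (⟨_, hTT _ (T.mul_mem (hltT t) (hltT t')) _ (hltT z)⟩ : V) =
        ⟨_, hVn _ (hltT t) _ (htt t' z)⟩ * ⟨_, htt t z⟩ from Subtype.ext (comm_mul_left _ _ _), map_mul,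
        bconj _ (hltT t) _ (htt t' z)]
      exact mul_comm _ _
    · intro z t t'
      obtain ⟨a, b, h, h'⟩ := addt t t'
      have hce : (lu a * lw b) ∈ V := ⟨a, b, h'⟩
      have e1 : N ⟨_, hTT _ (hltT z) _ (T.mul_mem (hltT t) (hltT t'))⟩ = N ⟨_, htt z (t + t')⟩ := by
        rw [← stripR _ (hltT (t + t')) _ hce _ (hltT z)]
        exact congrArg N (Subtype.ext (comm_congr f hc rfl h))
      rw [← e1, show (⟨_, hTT _ (hltT z) _ (T.mul_mem (hltT t) (hltT t'))⟩ : V) =
        ⟨_, htt z t⟩ * ⟨_, hVn _ (hltT t) _ (htt z t')⟩ from Subtype.ext (comm_mul_right _ _ _), map_mul,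
        bconj _ (hltT t) _ (htt z t')]
    · intro x t t' hx
      obtain ⟨v, hv⟩ := exists_alpha S hx
      rw [← hNact v ⟨_, htt t t'⟩]
      refine congrArg N (Subtype.ext ?_)
      show ⁅lt (x * t), lt (x * t')⁆ = d v * ⁅lt t, lt t'⁆ * (d v)⁻¹
      rw [comm_conj]
      refine comm_congr f hc ?_ ?_ <;> rw [flt, hd _ (flt _), hv] <;> simp
  have hle : ⁅T, T⁆ ≤ N.ker.map V.subtype := by
    rw [Subgroup.commutator_le]
    intro x hx y hy
    refine ⟨⟨_, hTT x hx y hy⟩, ?_, rfl⟩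
    obtain ⟨t, c, hcV, rfl⟩ := tdec x hx
    obtain ⟨t', c', hcV', rfl⟩ := tdec y hy
    show N _ = 1
    rw [stripL _ (hltT t) c hcV _ hy, stripR _ (hltT t') c' hcV' _ (hltT t)]
    exact bNtt t t'
  obtain ⟨c, hcN, rfl⟩ := hle hy
  change N c = 1 at hcN
  have hw1 : N c = c ^ Fintype.card Fˣ := by
    show ∏ s : Fˣ, act s c = _
    rw [← Finset.card_univ, ← Finset.prod_const]
    refine Finset.prod_congr rfl fun s _ => Subtype.ext ?_
    show d s * (c : G) * (d s)⁻¹ = (c : G)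
    rw [hcen (c : G) hy1, mul_inv_cancel_right]
  rw [hw1, ← Nat.card_eq_fintype_card] at hcN
  exact congrArg Subtype.val hcN

theorem ker_inf_commutator [Finite G] (hm : 1 ≤ m) (hK : Fintype.card F = 3 ^ (2 * m + 1))
    (hth : ∀ x, S.th x = x ^ 3 ^ m) (hf : Function.Surjective f) (hc : f.ker ≤ Subgroup.center G) :
    f.ker ⊓ commutator G = ⊥ := by
  classical
  by_contra hne
  obtain ⟨l, hl, hld⟩ := Nat.exists_prime_and_dvd (n := Nat.card ↥(f.ker ⊓ commutator G))
    (fun e => hne (Subgroup.card_eq_one.mp e))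
  haveI := Fact.mk hl
  obtain ⟨⟨z, hzk, hzc⟩, hz⟩ := exists_prime_orderOf_dvd_card' (G := ↥(f.ker ⊓ commutator G)) l hld
  rw [← Subgroup.orderOf_coe] at hz
  change orderOf z = l at hz
  suffices H : ∃ P : Sylow l G, ∀ y : (P : Subgroup G), f y = 1 → y ∈ commutator (P : Subgroup G) → y = 1 by
    obtain ⟨P, hP⟩ := H
    obtain ⟨y, hy, hy'⟩ := Struct.Schur.pow_index_mem_commutator (P : Subgroup G) (hc hzk) hzc
    have := hP y (by rw [hy', map_pow, show f z = 1 from hzk, one_pow]) hy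
    rw [this, OneMemClass.coe_one] at hy'
    have h2 := orderOf_dvd_of_pow_eq_one hy'.symm
    rw [hz] at h2
    exact P.not_dvd_index h2
  obtain ⟨P⟩ : Nonempty (Sylow l G) := inferInstance
  let R := P.mapSurjective hf
  by_cases hl2 : l = 2
  · subst hl2
    refine ⟨P, fun y _ hy' => ?_⟩
    obtain ⟨hcard, hR⟩ := S.sylow_two hK R
    obtain ⟨hcent, hN⟩ := S.sylow_two_norm hK hm R
    haveI : Fact (Nat.Prime 7) := ⟨by norm_num⟩
    obtain ⟨⟨g, hgN⟩, hg⟩ := exists_prime_orderOf_dvd_card'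
      (G := ↥(Subgroup.normalizer ((R : Subgroup ↥S.Gr) : Set ↥S.Gr))) 7 (by rw [hN]; norm_num)
    rw [← Subgroup.orderOf_coe] at hg
    change orderOf g = 7 at hg
    have hgn : ∀ x ∈ (R : Subgroup ↥S.Gr), g * x * g⁻¹ ∈ (R : Subgroup ↥S.Gr) := fun x hx =>
      (Subgroup.mem_normalizer_iff.mp hgN x).mp hx
    obtain ⟨x, hx, hgx⟩ : ∃ x ∈ (R : Subgroup ↥S.Gr), g * x * g⁻¹ ≠ x := by
      by_contra hall
      push Not at hall
      have hgR : g ∈ (R : Subgroup ↥S.Gr) := hcent ▸ Subgroup.mem_centralizer_iff.mpr fun x hx =>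
        (mul_inv_eq_iff_eq_mul.mp (hall x hx)).symm
      have h2 := orderOf_dvd_of_pow_eq_one (G := ↥S.Gr) (x := g) (n := 2) (by rw [pow_two]; exact hR g hgR)
      rw [hg] at h2
      omega
    obtain ⟨c, hgc⟩ := hf g
    have hcomm : ∀ a b : (P : Subgroup G), a * b = b * a := fun a b => Subtype.ext
      (seven f hc (R : Subgroup ↥S.Gr) hR hcard g (by rw [← hg]; exact pow_orderOf_eq_one g) hgn hgc hx hgx hf a b
        ⟨a, a.2, rfl⟩ ⟨b, b.2, rfl⟩)
    have hbot : commutator (P : Subgroup G) = ⊥ := by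
      rw [eq_bot_iff, commutator_def, Subgroup.commutator_le]
      exact fun a _ b _ => Subgroup.mem_bot.mpr (commutatorElement_eq_one_iff_mul_comm.mpr (hcomm a b))
    exact Subgroup.mem_bot.mp (hbot ▸ hy')
  by_cases hl3 : l = 3
  · subst hl3
    let U : Sylow 3 ↥S.Gr := Sylow.ofCard S.UU (S.card_U_fact hK)
    obtain ⟨s, hs'⟩ := MulAction.exists_smul_eq ↥S.Gr R U
    obtain ⟨t, rfl⟩ := hf s
    refine ⟨t • P, fun y hy hy' => ?_⟩
    have hmem : ((t • P : Sylow 3 G) : Subgroup G) ≤ S.UU.comap f := by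
      intro x hx
      show f x ∈ (U : Subgroup ↥S.Gr)
      rw [← hs']
      obtain ⟨x₀, hx₀, he⟩ := ((Sylow.coe_subgroup_smul (g := t) (P := P)).le hx :
        (x : G) ∈ MulAut.conj t • (P : Subgroup G))
      rw [← he, Sylow.coe_subgroup_smul]
      exact ⟨f x₀, ⟨x₀, hx₀, rfl⟩, by simp⟩
    have hy2 : (y : G) ∈ ⁅S.UU.comap f, S.UU.comap f⁆ := by
      have h := Subgroup.mem_map_of_mem ((t • P : Sylow 3 G) : Subgroup G).subtype hy'
      rw [commutator_def, Subgroup.map_commutator, ← MonoidHom.range_eq_map, Subgroup.range_subtype] at h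
      exact Subgroup.commutator_mono hmem hmem h
    have h1 := kill S f hm hK hth hf hc hy2 hy
    obtain ⟨j, hj⟩ := (IsPGroup.iff_orderOf.mp (t • P).isPGroup') y
    rw [← Subgroup.orderOf_coe] at hj
    have h2 := orderOf_dvd_of_pow_eq_one h1
    rw [Nat.card_units, Nat.card_eq_fintype_card, hK, hj] at h2
    have hj0 : j = 0 := by
      by_contra h
      have h3 : 3 ∣ 3 ^ (2 * m + 1) - 1 := (dvd_pow_self 3 h).trans h2
      have h4 : 3 ∣ 3 ^ (2 * m + 1) := dvd_pow_self 3 (by omega)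
      have h5 : 1 ≤ 3 ^ (2 * m + 1) := Nat.one_le_pow _ _ (by norm_num)
      omega
    rw [hj0, pow_zero, orderOf_eq_one_iff] at hj
    exact Subtype.ext hj
  · refine ⟨P, fun y hy hy' => ?_⟩
    have h5 : 5 ≤ l := by
      have h4 : l ≠ 4 := fun e => by rw [e] at hl; norm_num at hl
      have := hl.two_le
      omega
    haveI : IsCyclic ↥(R : Subgroup ↥S.Gr) := S.sylow_cyclic hm hK hth h5 R.isPGroup'
    let g : (P : Subgroup G) →* (R : Subgroup ↥S.Gr) :=
      (f.comp (P : Subgroup G).subtype).codRestrict _ fun x => ⟨x, x.2, rfl⟩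
    have hgc : g.ker ≤ Subgroup.center _ := fun x hx => Subgroup.mem_center_iff.mpr fun y =>
      Subtype.ext (Subgroup.mem_center_iff.mp (hc (congrArg Subtype.val hx)) y)
    exact Subgroup.mem_bot.mp (GL2.CentralExt.ker_inf_commutator_of_cyclic g hgc ▸ (⟨Subtype.ext hy, hy'⟩ :
      y ∈ g.ker ⊓ commutator (P : Subgroup G)))

end Three

end Cfsg.Agent.SmallRee.Multiplier
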