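import Cfsg.Agent.Lib.SmallRee.Counts

/-!
The numbers of elements of the orders occurring in the tori.
-/

set_option autoImplicit false
set_option maxRecDepth 20000

namespace Cfsg.Agent.SmallRee

namespace Tw

variable {F : Type*} [Field F] (S : Tw F) [CharP F 3] [Fintype F] {m : ℕ}

/-- The index of a torus normaliser, with the number of elements of given orders. -/
theorem kind_formula (hm : 1 ≤ m) (hK : Fintype.card F = 3 ^ (2 * m + 1)) (hth : ∀ x, S.th x = x ^ 3 ^ m) {k T : ℕ}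
    (hk : k ∈ oddOrders (Fintype.card F) (3 ^ (m + 1)))
    (hT : Fintype.card F ^ 3 * (Fintype.card F - 1) * (Fintype.card F ^ 3 + 1) =
      T * bigOf (Fintype.card F) (3 ^ (m + 1)) k) {i : ℕ} (hi : 1 < i) (hik : i ∣ k) :
    cOf (Fintype.card F) k * Nat.card {x : ↥S.Gr // orderOf x = i} = Nat.totient i * T ∧
      (dOf (Fintype.card F) k ≠ 1 → cOf (Fintype.card F) k * Nat.card {x : ↥S.Gr // orderOf x = 2 * i} =
        (dOf (Fintype.card F) k - 1) * Nat.totient i * T) := by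
  obtain ⟨A, hA, hAk, -⟩ := S.exists_kind hm hK hth hk
  obtain ⟨ko, k3, k1, kb, kt⟩ := oddOrders_spec hm hK hk
  have hN := (S.main_counts hm hK hth).2.2.2.2 k hk A hA hAk
  have hidx : cOf (Fintype.card F) k * (Subgroup.normalizer (A : Set ↥S.Gr)).index = T := by
    have h := Subgroup.index_mul_card (Subgroup.normalizer (A : Set ↥S.Gr))
    rw [hN, S.card_Gr, hT] at h
    have hb : 0 < bigOf (Fintype.card F) (3 ^ (m + 1)) k := by
      obtain ⟨hb, -, hd⟩ := dOf_spec hm hK hk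
      rw [hb]
      refine Nat.mul_pos ?_ (by omega)
      simp only [List.mem_cons, List.not_mem_nil, or_false] at hd
      omega
    refine Nat.eq_of_mul_eq_mul_right hb (Eq.trans ?_ h)
    ring
  obtain ⟨-, hc⟩ := S.torus_counts hm hK hth hk hA hAk
  obtain ⟨h1, h2⟩ := hc i hik
  refine ⟨?_, fun hd => ?_⟩
  · rw [S.kind_count hm hK hth hk hA hAk (· = i) (fun n hn => pk_of_dvd ko k3 hi hik (hn ▸ dvd_rfl)), h1, ← hidx]
    ring
  · rw [S.kind_count hm hK hth hk hA hAk (· = 2 * i) (fun n hn => pk_of_dvd ko k3 hi hik (hn ▸ dvd_mul_left i 2)),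
      h2 hd, ← hidx]
    ring

theorem count_first (hm : 1 ≤ m) (hK : Fintype.card F = 3 ^ (2 * m + 1)) (hth : ∀ x, S.th x = x ^ 3 ^ m) {i : ℕ}
    (hi : 2 < i) (hd : i ∣ Fintype.card F - 1) :
    2 * Nat.card {x : ↥S.Gr // orderOf x = i} =
      Nat.totient i * Fintype.card F ^ 3 * (Fintype.card F ^ 3 + 1) := by
  obtain ⟨a1, a2, a3, a4, a5, o1, -⟩ := arith' (F := F) hm hK
  set q := Fintype.card F
  set k := (q - 1) / 2 with hkdef
  have hq : q - 1 = 2 * k := by omega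
  have hk : k ∈ oddOrders q (3 ^ (m + 1)) := by simp [oddOrders, hkdef]
  have hT : q ^ 3 * (q - 1) * (q ^ 3 + 1) = q ^ 3 * (q ^ 3 + 1) * bigOf q (3 ^ (m + 1)) k := by
    rw [bigOf, if_pos hkdef]; ring
  have hc : cOf q k = 2 := if_pos hkdef
  have hd2 : dOf q k = 2 := if_pos hkdef
  rw [hq] at hd
  rcases Nat.even_or_odd i with ⟨j, hj⟩ | ho
  · have hjk : j ∣ k := by
      rw [hj, ← two_mul] at hd
      exact Nat.dvd_of_mul_dvd_mul_left two_pos hd
    have h := (S.kind_formula hm hK hth hk hT (i := j) (by omega) hjk).2 (by rw [hd2]; norm_num)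
    rw [hc, hd2, ← two_mul] at *
    rw [show i = 2 * j by omega, h, Nat.totient_mul (Nat.coprime_two_left.mpr (o1.of_dvd_nat hjk)), Nat.totient_two]
    ring
  · have hik : i ∣ k := (Nat.coprime_two_right.mpr ho).dvd_of_dvd_mul_left hd
    have h := (S.kind_formula hm hK hth hk hT (i := i) (by omega) hik).1
    rw [hc] at h
    rw [h]; ring

theorem count_second (hm : 1 ≤ m) (hK : Fintype.card F = 3 ^ (2 * m + 1)) (hth : ∀ x, S.th x = x ^ 3 ^ m) {i : ℕ}
    (hi : 1 < i) (hd : i ∣ (Fintype.card F + 1) / 4) :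
    6 * Nat.card {x : ↥S.Gr // orderOf x = i} =
        Nat.totient i * Fintype.card F ^ 3 * (Fintype.card F - 1) * (Fintype.card F ^ 2 - Fintype.card F + 1) ∧
      2 * Nat.card {x : ↥S.Gr // orderOf x = 2 * i} =
        Nat.totient i * Fintype.card F ^ 3 * (Fintype.card F - 1) * (Fintype.card F ^ 2 - Fintype.card F + 1) := by
  obtain ⟨a1, a2, a3, a4, a5, o1, o2, -⟩ := arith' (F := F) hm hK
  set q := Fintype.card F
  have hk : (q + 1) / 4 ∈ oddOrders q (3 ^ (m + 1)) := by simp [oddOrders]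
  have hne : (q + 1) / 4 ≠ (q - 1) / 2 := by omega
  have hT : q ^ 3 * (q - 1) * (q ^ 3 + 1) =
      q ^ 3 * (q - 1) * (q ^ 2 - q + 1) * bigOf q (3 ^ (m + 1)) ((q + 1) / 4) := by
    rw [bigOf, if_neg hne, if_pos rfl]
    have hqq : q ≤ q ^ 2 := Nat.le_self_pow two_ne_zero q
    zify [show 1 ≤ q by omega, hqq]; ring
  have hd4 : dOf q ((q + 1) / 4) = 4 := by rw [dOf, if_neg hne, if_pos rfl]
  obtain ⟨h1, h2⟩ := S.kind_formula hm hK hth hk hT hi hd
  have h2 := h2 (by rw [hd4]; norm_num)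
  rw [cOf, if_neg hne] at h1 h2
  rw [hd4] at h2
  constructor
  · rw [h1]; ring
  · refine Nat.eq_of_mul_eq_mul_left (show 0 < 3 by norm_num) ?_
    rw [← mul_assoc, show 3 * 2 = 6 by norm_num, h2]; ring

theorem count_minus (hm : 1 ≤ m) (hK : Fintype.card F = 3 ^ (2 * m + 1)) (hth : ∀ x, S.th x = x ^ 3 ^ m) {i : ℕ}
    (hi : 1 < i) (hd : i ∣ Fintype.card F - 3 ^ (m + 1) + 1) :
    6 * Nat.card {x : ↥S.Gr // orderOf x = i} =
      Nat.totient i * Fintype.card F ^ 3 * (Fintype.card F ^ 2 - 1) * (Fintype.card F + 3 ^ (m + 1) + 1) := by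
  obtain ⟨a1, a2, a3, a4, a5, o1, o2, o3, o4, b1, b2, -⟩ := arith' (F := F) hm hK
  have hrr : 3 ^ (m + 1) * 3 ^ (m + 1) = 3 * Fintype.card F := by
    rw [hK, ← pow_add, ← pow_succ']; congr 1; omega
  have hr : 0 < 3 ^ (m + 1) := pow_pos (by norm_num) _
  set q := Fintype.card F
  set r := 3 ^ (m + 1)
  have hk : q - r + 1 ∈ oddOrders q r := by simp [oddOrders]
  have hne : q - r + 1 ≠ (q - 1) / 2 := by omega
  have hne' : q - r + 1 ≠ (q + 1) / 4 := by omega
  have hT : q ^ 3 * (q - 1) * (q ^ 3 + 1) = q ^ 3 * (q ^ 2 - 1) * (q + r + 1) * bigOf q r (q - r + 1) := by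
    rw [bigOf, if_neg hne, if_neg hne']
    have hrz : (r : ℤ) * r = 3 * q := by exact_mod_cast hrr
    zify [show 1 ≤ q by omega, show 1 ≤ q ^ 2 from Nat.one_le_pow _ _ (by omega), show r ≤ q by omega]
    linear_combination (q : ℤ) ^ 3 * (q ^ 2 - 1) * hrz
  have h := (S.kind_formula hm hK hth hk hT hi hd).1
  rw [cOf, if_neg hne] at h
  rw [h]; ring

theorem count_plus (hm : 1 ≤ m) (hK : Fintype.card F = 3 ^ (2 * m + 1)) (hth : ∀ x, S.th x = x ^ 3 ^ m) {i : ℕ}
    (hi : 1 < i) (hd : i ∣ Fintype.card F + 3 ^ (m + 1) + 1) :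
    6 * Nat.card {x : ↥S.Gr // orderOf x = i} =
      Nat.totient i * Fintype.card F ^ 3 * (Fintype.card F ^ 2 - 1) * (Fintype.card F - 3 ^ (m + 1) + 1) := by
  obtain ⟨a1, a2, a3, a4, a5, o1, o2, o3, o4, b1, b2, -⟩ := arith' (F := F) hm hK
  have hrr : 3 ^ (m + 1) * 3 ^ (m + 1) = 3 * Fintype.card F := by
    rw [hK, ← pow_add, ← pow_succ']; congr 1; omega
  have hr : 0 < 3 ^ (m + 1) := pow_pos (by norm_num) _
  set q := Fintype.card F
  set r := 3 ^ (m + 1)
  have hk : q + r + 1 ∈ oddOrders q r := by simp [oddOrders]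
  have hne : q + r + 1 ≠ (q - 1) / 2 := by omega
  have hne' : q + r + 1 ≠ (q + 1) / 4 := by omega
  have hT : q ^ 3 * (q - 1) * (q ^ 3 + 1) = q ^ 3 * (q ^ 2 - 1) * (q - r + 1) * bigOf q r (q + r + 1) := by
    rw [bigOf, if_neg hne, if_neg hne']
    have hrz : (r : ℤ) * r = 3 * q := by exact_mod_cast hrr
    zify [show 1 ≤ q by omega, show 1 ≤ q ^ 2 from Nat.one_le_pow _ _ (by omega), show r ≤ q by omega]
    linear_combination (q : ℤ) ^ 3 * (q ^ 2 - 1) * hrz
  have h := (S.kind_formula hm hK hth hk hT hi hd).1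
  rw [cOf, if_neg hne] at h
  rw [h]; ring

end Tw

end Cfsg.Agent.SmallRee
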