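import Cfsg.Agent.Lib.SmallRee.SolvSub

/-!
Element orders of the small Ree groups, and existence of the four kinds of cyclic subgroups.
-/

set_option autoImplicit false
set_option maxRecDepth 20000

namespace Cfsg.Agent.SmallRee

open scoped Pointwise

theorem bigOf_inj {q r k k' : ℕ} (h1 : 3 * r ≤ q) (h2 : 26 ≤ q - 1) (h5 : q % 8 = 3) (hr : 0 < r) (hr3 : r % 3 = 0)
    (hk : k ∈ oddOrders q r) (hk' : k' ∈ oddOrders q r) (e : bigOf q r k = bigOf q r k') : k = k' := by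
  have v1 : bigOf q r ((q - 1) / 2) = q - 1 := if_pos rfl
  have v2 : bigOf q r ((q + 1) / 4) = q + 1 := by rw [bigOf, if_neg (by omega), if_pos rfl]
  have v3 : bigOf q r (q - r + 1) = q - r + 1 := by rw [bigOf, if_neg (by omega), if_neg (by omega)]
  have v4 : bigOf q r (q + r + 1) = q + r + 1 := by rw [bigOf, if_neg (by omega), if_neg (by omega)]
  simp only [oddOrders, List.mem_cons, List.not_mem_nil, or_false] at hk hk'
  rcases hk with rfl | rfl | rfl | rfl <;> rcases hk' with rfl | rfl | rfl | rfl <;>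
    simp only [v1, v2, v3, v4] at e <;> omega

namespace Tw

variable {F : Type*} [Field F] (S : Tw F) [CharP F 3] [Fintype F] {m : ℕ}

theorem odd_dvd_card (hm : 1 ≤ m) (hK : Fintype.card F = 3 ^ (2 * m + 1)) {k : ℕ}
    (hk : k ∈ oddOrders (Fintype.card F) (3 ^ (m + 1))) : k ∣ Nat.card ↥S.Gr := by
  obtain ⟨-, -, -, kb, kt⟩ := oddOrders_spec hm hK hk
  refine kb.trans ?_
  rw [S.card_Gr]
  have hr : 3 ^ (m + 1) ≤ Fintype.card F := by
    have := (arith' (F := F) hm hK).1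
    omega
  have hrr : 3 ^ (m + 1) * 3 ^ (m + 1) = 3 * Fintype.card F := by
    rw [hK, ← pow_add, ← pow_succ']; congr 1; omega
  generalize bigOf (Fintype.card F) (3 ^ (m + 1)) k = D at kt ⊢
  generalize Fintype.card F = q at *
  generalize 3 ^ (m + 1) = r at *
  have h3 : (q - r + 1) * (q + r + 1) * (q + 1) = q ^ 3 + 1 := by
    obtain ⟨c, rfl⟩ : ∃ c, q = r + c := ⟨q - r, by omega⟩
    rw [Nat.add_sub_cancel_left]
    zify at hrr ⊢
    linear_combination -((r : ℤ) + c + 1) * hrr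
  simp only [torusOrders, List.mem_cons, List.not_mem_nil, or_false] at kt
  rcases kt with rfl | rfl | rfl | rfl
  · exact Dvd.intro_left (q ^ 3) rfl |>.mul_right _
  · exact (h3 ▸ Dvd.intro_left _ rfl : q + 1 ∣ q ^ 3 + 1).mul_left _
  · exact ((Dvd.intro _ (mul_assoc _ _ _).symm).trans h3.dvd).mul_left _
  · exact ((Dvd.intro_left _ rfl).trans ((dvd_mul_right _ _).trans h3.dvd)).mul_left _

theorem exists_kind (hm : 1 ≤ m) (hK : Fintype.card F = 3 ^ (2 * m + 1)) (hth : ∀ x, S.th x = x ^ 3 ^ m) {k : ℕ}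
    (hk : k ∈ oddOrders (Fintype.card F) (3 ^ (m + 1))) :
    ∃ A : Subgroup ↥S.Gr, IsCyclic ↥A ∧ Nat.card ↥A = k ∧
      IsTorusGp (Fintype.card F) (3 ^ (m + 1)) ↥(Subgroup.centralizer (A : Set ↥S.Gr)) ∧
      Nat.card ↥(Subgroup.centralizer (A : Set ↥S.Gr)) = bigOf (Fintype.card F) (3 ^ (m + 1)) k := by
  obtain ⟨ko, k3, k1, kb, kt⟩ := oddOrders_spec hm hK hk
  obtain ⟨l, hl, hlk⟩ := Nat.exists_prime_and_dvd (Nat.ne_of_gt k1)
  haveI : Fact l.Prime := ⟨hl⟩
  have h5 := dvd_five ko k3 dvd_rfl hl hlk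
  obtain ⟨y, hy⟩ := exists_prime_orderOf_dvd_card' l (hlk.trans (S.odd_dvd_card hm hK hk))
  obtain ⟨k', hk', -, A, hA, hAk, hyA, -, hCA, -⟩ := S.exists_core hm hK hth hl h5 hy
  have hne : A ≠ ⊥ := fun h => by
    rw [h, Subgroup.mem_bot] at hyA
    rw [hyA, orderOf_one] at hy
    exact hl.one_lt.ne hy
  obtain ⟨hT, hcard, -⟩ := S.cent_odd hm hK hth hk' hne hAk.dvd (cyclic_le_cent hA)
  have h2 : Nat.card ↥(Subgroup.centralizer (A : Set ↥S.Gr)) = bigOf (Fintype.card F) (3 ^ (m + 1)) k := by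
    rw [hCA]; exact S.card_cent hm hK hth hl h5 hy kt (hlk.trans kb)
  obtain ⟨a1, a2, a3, a4, a5, o1, o2, o3, o4, b1, b2, b3, b4⟩ := arith' (F := F) hm hK
  obtain rfl : k' = k := bigOf_inj a1 a2 a5 (pow_pos (by norm_num) _) b2 hk' hk (hcard.symm.trans h2)
  exact ⟨A, hA, hAk, hT, h2⟩

theorem two_elt (hK : Fintype.card F = 3 ^ (2 * m + 1)) {x : ↥S.Gr} (hx : orderOf x = 4) : False := by
  haveI : Fact (Nat.Prime 2) := ⟨Nat.prime_two⟩
  obtain ⟨P, hP⟩ := (IsPGroup.of_card (n := 2) (by rw [Nat.card_zpowers, hx]; rfl) :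
    IsPGroup 2 ↥(Subgroup.zpowers x)).exists_le_sylow
  have h := (S.sylow_two hK P).2 x (hP (Subgroup.mem_zpowers x))
  have := orderOf_dvd_of_pow_eq_one (show x ^ 2 = 1 by rw [pow_two]; exact h)
  rw [hx] at this
  norm_num at this

theorem three_elt (hK : Fintype.card F = 3 ^ (2 * m + 1)) {x : ↥S.Gr} {n : ℕ} (hx : orderOf x = 3 ^ n) :
    ∃ g : ↥S.Gr, g⁻¹ * x * g ∈ S.UU := by
  haveI : Fact (Nat.Prime 3) := ⟨Nat.prime_three⟩
  obtain ⟨P, hP⟩ := (IsPGroup.of_card (n := n) (by rw [Nat.card_zpowers, hx]) :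
    IsPGroup 3 ↥(Subgroup.zpowers x)).exists_le_sylow
  obtain ⟨g, rfl⟩ := MulAction.exists_smul_eq ↥S.Gr (Sylow.ofCard S.UU (S.card_U_fact hK)) P
  refine ⟨g, ?_⟩
  have h := hP (Subgroup.mem_zpowers x)
  rw [Sylow.coe_subgroup_smul, Subgroup.mem_pointwise_smul_iff_inv_smul_mem] at h
  simpa [mul_assoc] using h

theorem U_nine {x : ↥S.Gr} (hx : x ∈ S.UU) : x ^ 9 = 1 := by
  obtain ⟨t, u, w, rfl⟩ := S.mem_U.mp hx
  rw [show 9 = 3 * 3 from rfl, pow_mul, S.R_cube]
  exact S.cube_eq_one.mpr rfl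

theorem no_eighteen (hK : Fintype.card F = 3 ^ (2 * m + 1)) {x : ↥S.Gr} (hx : orderOf x = 18) : False := by
  haveI : Fact (Nat.Prime 3) := ⟨Nat.prime_three⟩
  have hb : orderOf (x ^ 2) = 3 ^ 2 := by rw [orderOf_pow' _ (by norm_num), hx]; rfl
  have ha : orderOf (x ^ 9) = 2 := by rw [orderOf_pow' _ (by norm_num), hx]; rfl
  obtain ⟨g, hg⟩ := S.three_elt hK hb
  set b := g⁻¹ * x ^ 2 * g with hbdef
  set a := g⁻¹ * x ^ 9 * g with hadef
  have hab : a * b = b * a := by
    calc a * b = g⁻¹ * (x ^ 9 * x ^ 2) * g := by rw [hadef, hbdef]; simp [mul_assoc]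
      _ = g⁻¹ * (x ^ 2 * x ^ 9) * g := by rw [← pow_add, ← pow_add, add_comm]
      _ = b * a := by rw [hadef, hbdef]; simp [mul_assoc]
  have hb9 : orderOf b = 9 := by
    rw [hbdef]
    nth_rw 2 [← inv_inv g]
    rw [show g⁻¹ * x ^ 2 * g⁻¹⁻¹ = MulAut.conj g⁻¹ (x ^ 2) from rfl, MulEquiv.orderOf_eq, hb]
    rfl
  have ha2 : orderOf a = 2 := by
    rw [hadef]
    nth_rw 2 [← inv_inv g]
    rw [show g⁻¹ * x ^ 9 * g⁻¹⁻¹ = MulAut.conj g⁻¹ (x ^ 9) from rfl, MulEquiv.orderOf_eq, ha]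
  have hb1 : b ≠ 1 := fun h => by rw [h, orderOf_one] at hb9; omega
  have haB : a ∈ S.BB := by
    by_contra hc
    refine hb1 (S.inter_conj hc hg ?_)
    rw [mul_assoc, ← hab, inv_mul_cancel_left]
    exact hg
  obtain ⟨t₁, u₁, w₁, v, hav⟩ := S.mem_B.mp haB
  obtain ⟨t, u, w, hbt⟩ := S.mem_U.mp hg
  have ht : t ≠ 0 := fun h => by
    have h3 : b ^ 3 = 1 := by rw [hbdef] at hbt ⊢; rw [hbt]; exact S.cube_eq_one.mpr h
    have := orderOf_dvd_of_pow_eq_one h3
    rw [hb9] at this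
    norm_num at this
  have haa : a * a = 1 := by rw [← pow_two, ← ha2, pow_orderOf_eq_one]
  have hv : v * v = 1 := by
    rw [hav, show S.R t₁ u₁ w₁ * S.D v * (S.R t₁ u₁ w₁ * S.D v) =
      S.R t₁ u₁ w₁ * (S.D v * S.R t₁ u₁ w₁ * (S.D v)⁻¹) * S.D (v * v) by rw [map_mul]; simp [mul_assoc],
      S.D_conj, S.R_mul] at haa
    exact (S.RD_inj (t' := 0) (u' := 0) (w' := 0) (v' := 1) (haa.trans (by rw [map_one, mul_one, S.R_zero]))).2.2.2
  rcases (by simpa using congrArg Units.val hv : (v : F) * v = 1) |> mul_self_eq_one_iff.mp with h1 | h1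
  · rw [Units.val_eq_one] at h1
    rw [h1, map_one, mul_one] at hav
    have h9 := S.U_nine (hav ▸ S.R_mem_U t₁ u₁ w₁ : a ∈ S.UU)
    have := orderOf_dvd_of_pow_eq_one h9
    rw [ha2] at this
    omega
  · have e := hab
    rw [hbdef] at hbt
    rw [hav, hbdef, hbt, show S.R t₁ u₁ w₁ * S.D v * S.R t u w =
        S.R t₁ u₁ w₁ * (S.D v * S.R t u w * (S.D v)⁻¹) * S.D v by simp [mul_assoc],
      S.D_conj, S.R_mul, ← mul_assoc, S.R_mul] at e
    have e1 := (S.RD_inj e).1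
    have hα : S.alpha v = -1 := by
      rw [alpha, h1, map_neg, map_one, Odd.neg_one_pow (show Odd 3 by decide)]
      ring
    rw [hα] at e1
    have h3 : (3 : F) = 0 := three_zero
    exact ht (by linear_combination e1 + t * h3)

theorem order_iff (hm : 1 ≤ m) (hK : Fintype.card F = 3 ^ (2 * m + 1)) (hth : ∀ x, S.th x = x ^ 3 ^ m) (d : ℕ) :
    (∃ g : ↥S.Gr, orderOf g = d) ↔
      (d ∣ 6 ∨ d ∣ 9 ∨ d ∣ Fintype.card F - 1 ∨ d ∣ (Fintype.card F + 1) / 2 ∨
        d ∣ Fintype.card F - 3 ^ (m + 1) + 1 ∨ d ∣ Fintype.card F + 3 ^ (m + 1) + 1) := by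
  obtain ⟨a1, a2, a3, a4, a5, o1, o2, o3, o4, b1, b2, b3, b4⟩ := arith' (F := F) hm hK
  constructor
  · rintro ⟨g, rfl⟩
    by_cases hbig : ∃ l : ℕ, l.Prime ∧ 5 ≤ l ∧ l ∣ orderOf g
    · obtain ⟨l, hl, h5, hlg⟩ := hbig
      set z := g ^ (orderOf g / l)
      have hz : orderOf z = l := orderOf_pow_orderOf_div (orderOf_pos g).ne' hlg
      have hgC : g ∈ Subgroup.centralizer ({z} : Set ↥S.Gr) :=
        Subgroup.mem_centralizer_singleton_iff.mpr (Commute.pow_self g _).eq.symm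
      rcases (S.exists_torus hK hth hl h5 hz).2 with ⟨hc, -⟩ | ⟨-, hexp, -⟩
      · have hd : orderOf g ∣ Nat.card ↥(Subgroup.centralizer ({z} : Set ↥S.Gr)) := by
          simpa [Subgroup.orderOf_mk] using
            orderOf_dvd_natCard (⟨g, hgC⟩ : ↥(Subgroup.centralizer ({z} : Set ↥S.Gr)))
        rcases hc with hc | hc | hc <;> rw [hc] at hd <;> simp [hd]
      · have hd : orderOf g ∣ (Fintype.card F + 1) / 2 :=
          orderOf_dvd_of_pow_eq_one (congrArg Subtype.val (hexp ⟨g, hgC⟩))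
        simp [hd]
    · push Not at hbig
      have hpow : ∀ n, n ∣ orderOf g → ∃ x : ↥S.Gr, orderOf x = n := fun n hn =>
        ⟨g ^ (orderOf g / n), orderOf_pow_orderOf_div (orderOf_pos g).ne' hn⟩
      have h4 : ¬ 4 ∣ orderOf g := fun h => by obtain ⟨x, hx⟩ := hpow 4 h; exact S.two_elt hK hx
      have h27 : ¬ 27 ∣ orderOf g := fun h => by
        obtain ⟨x, hx⟩ := hpow 27 h
        obtain ⟨c, hc⟩ := S.three_elt hK (x := x) (n := 3) (by rw [hx]; rfl)
        have := S.U_nine hc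
        have e : c⁻¹ * x * c = MulAut.conj c⁻¹ x := by simp
        rw [e, ← map_pow, MulEquiv.map_eq_one_iff] at this
        have := orderOf_dvd_of_pow_eq_one this
        rw [hx] at this
        norm_num at this
      have h18 : orderOf g ≠ 18 := fun h => S.no_eighteen hK h
      have hne : orderOf g ≠ 0 := (orderOf_pos g).ne'
      have hdiv : orderOf g ∣ 18 := by
        rw [← Nat.factorization_le_iff_dvd hne (by norm_num)]
        intro p
        by_cases hp : p.Prime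
        swap
        · rw [Nat.factorization_eq_zero_of_not_prime _ hp]; exact Nat.zero_le _
        by_cases hpd : p ∣ orderOf g
        swap
        · rw [Nat.factorization_eq_zero_of_not_dvd hpd]; exact Nat.zero_le _
        have hp5 : ¬ 5 ≤ p := fun h => hbig p hp h hpd
        have h18' : Nat.factorization 18 2 = 1 ∧ Nat.factorization 18 3 = 2 := by
          rw [show 18 = 2 ^ 1 * 3 ^ 2 from rfl, Nat.factorization_mul (by norm_num) (by norm_num)]
          rw [Finsupp.add_apply, Finsupp.add_apply, Nat.prime_two.factorization_pow, Nat.prime_three.factorization_pow]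
          simp [Finsupp.single_apply]
        have := hp.two_le
        interval_cases p
        · rw [h18'.1]
          by_contra hc
          exact h4 ((Nat.Prime.pow_dvd_iff_le_factorization Nat.prime_two hne).mpr (show 2 ≤ _ by omega) :
            2 ^ 2 ∣ orderOf g)
        · rw [h18'.2]
          by_contra hc
          exact h27 ((Nat.Prime.pow_dvd_iff_le_factorization Nat.prime_three hne).mpr (show 3 ≤ _ by omega) :
            3 ^ 3 ∣ orderOf g)
        · norm_num at hp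
      have := Nat.le_of_dvd (by norm_num) hdiv
      interval_cases h : orderOf g <;> first | omega | norm_num
  · intro hd
    have hdown : ∀ {n : ℕ}, (∃ x : ↥S.Gr, orderOf x = n) → d ∣ n → ∃ x : ↥S.Gr, orderOf x = d := by
      rintro n ⟨x, rfl⟩ h
      exact ⟨_, orderOf_pow_orderOf_div (orderOf_pos x).ne' h⟩
    have hcyc : ∀ k ∈ [Fintype.card F - 3 ^ (m + 1) + 1, Fintype.card F + 3 ^ (m + 1) + 1],
        ∃ x : ↥S.Gr, orderOf x = k := by
      intro k hk
      have hk' : k ∈ oddOrders (Fintype.card F) (3 ^ (m + 1)) := by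
        simp only [oddOrders, List.mem_cons, List.not_mem_nil, or_false] at hk ⊢
        tauto
      obtain ⟨A, hA, hAk, -⟩ := S.exists_kind hm hK hth hk'
      obtain ⟨a, ha⟩ := IsCyclic.exists_ofOrder_eq_natCard (α := ↥A)
      exact ⟨a, by rw [Subgroup.orderOf_coe, ha, hAk]⟩
    rcases hd with h | h | h | h | h | h
    · refine hdown ⟨S.D (-1) * S.R 0 1 0, ?_⟩ h
      haveI : Fact (Nat.Prime 3) := ⟨Nat.prime_three⟩
      haveI : Fact (Nat.Prime 2) := ⟨Nat.prime_two⟩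
      have e2 : orderOf (S.D (-1)) = 2 := orderOf_eq_prime (by
          rw [pow_two, ← map_mul, neg_one_mul, neg_neg, map_one])
        (fun e => neg_one_ne_one (F := F) (by
          simpa using congrArg Units.val (S.D_inj (e.trans (map_one S.D).symm))))
      have e3 : orderOf (S.R 0 1 0) = 3 := orderOf_eq_prime (S.cube_eq_one.mpr rfl)
        (fun e => by rw [← S.R_zero] at e; exact one_ne_zero (S.R_inj e).2.1)
      rw [(show Commute _ _ from S.a_comm_R 1).orderOf_mul_eq_mul_orderOf_of_coprime (by rw [e2, e3]; rfl), e2, e3]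
    · refine hdown ⟨S.R 1 0 0, ?_⟩ h
      haveI : Fact (Nat.Prime 3) := ⟨Nat.prime_three⟩
      exact orderOf_eq_prime_pow (n := 1)
        (fun e => one_ne_zero (S.cube_eq_one.mp (show S.R 1 0 0 ^ 3 = 1 by simpa using e)))
        (S.U_nine (S.R_mem_U 1 0 0))
    · obtain ⟨v, hv⟩ := IsCyclic.exists_ofOrder_eq_natCard (α := Fˣ)
      refine hdown ⟨S.D v, ?_⟩ h
      rw [orderOf_injective S.D S.D_inj, hv, Nat.card_units, Nat.card_eq_fintype_card]
    · obtain ⟨A, -, -, hT, hcard⟩ := S.exists_kind hm hK hth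
        (k := (Fintype.card F + 1) / 4) (by simp [oddOrders])
      rw [bigOf, if_neg (by omega), if_pos rfl] at hcard
      rcases hT.2 with ⟨hc, -⟩ | ⟨-, -, a, ha⟩
      · have : 0 < 3 ^ (m + 1) := pow_pos (by norm_num) _
        omega
      · exact hdown ⟨a, by rw [Subgroup.orderOf_coe, ha]⟩ h
    · exact hdown (hcyc _ (by simp)) h
    · exact hdown (hcyc _ (by simp)) h

end Tw

end Cfsg.Agent.SmallRee
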