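import Cfsg.Agent.Lib.SmallRee.Torus
import Cfsg.Agent.Lib.Chev.CardG2
import Cfsg.Agent.Lib.Chev.Gens

/-!
Regular elements of the split torus of G2, in coordinates given by the two fundamental roots.
-/

set_option autoImplicit false
set_option maxRecDepth 20000

namespace Cfsg.Agent.SmallRee

open Cfsg.Lie Cfsg.Agent.Chev

/-- Coordinates of the roots with respect to the two fundamental roots. -/
def cr (r : ℕ) : ℤ × ℤ :=
  [((-3 : ℤ), (-2 : ℤ)), (-3, -1), (-2, -1), (-1, -1), (-1, 0), (0, -1), (0, 1), (1, 0), (1, 1), (2, 1), (3, 1),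
    (3, 2)].getD r (0, 0)

/-- The images of the fundamental pair under the Weyl group. -/
def Wl : List (ℕ × ℕ) :=
  [(7, 6), (4, 10), (8, 5), (3, 11), (9, 1), (2, 11), (9, 0), (2, 10), (8, 0), (3, 6), (7, 1), (4, 5)]

/-- The permutation of the roots attached to an image of the fundamental pair. -/
def perm (P : ℕ × ℕ) (r : ℕ) : ℕ :=
  ((List.range 12).find? fun s => decide (cr s =
    ((cr r).1 * (cr P.1).1 + (cr r).2 * (cr P.2).1, (cr r).1 * (cr P.1).2 + (cr r).2 * (cr P.2).2))).getD 12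

theorem perm_ok : ∀ P ∈ Wl, P.1 < 12 ∧ P.2 < 12 ∧ ∀ r : Fin 12, perm P r.val < 12 ∧ cr (perm P r.val) =
    ((cr r.val).1 * (cr P.1).1 + (cr r.val).2 * (cr P.2).1, (cr r.val).1 * (cr P.1).2 + (cr r.val).2 * (cr P.2).2) := by
  decide +kernel

theorem Wl_closed : ∀ P ∈ Wl, ∀ i ∈ [0, 1], (G2.T.refl i P.1, G2.T.refl i P.2) ∈ Wl ∧
    ∀ r : Fin 12, G2.T.refl i (perm P r.val) = perm (G2.T.refl i P.1, G2.T.refl i P.2) r.val := by
  decide +kernel

theorem perm_id : ∀ r : Fin 12, perm (7, 6) r.val = r.val := by decide +kernel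

theorem exists_pair : ∀ w : List ℕ, (∀ i ∈ w, i < chevG2.rank) →
    ∃ P ∈ Wl, P.1 = piW G2.T w 7 ∧ P.2 = piW G2.T w 6 ∧ ∀ r < 12, piW G2.T w r = perm P r
  | [], _ => ⟨(7, 6), by decide, rfl, rfl, fun r hr => (perm_id ⟨r, hr⟩).symm⟩
  | i :: w, h => by
    obtain ⟨P, hP, h1, h2, h3⟩ := exists_pair w fun k hk => h k (List.mem_cons_of_mem _ hk)
    have hi : i ∈ [0, 1] := by
      have := h i List.mem_cons_self
      rw [rank_eq] at this
      simp only [List.mem_cons, List.not_mem_nil, or_false]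
      omega
    obtain ⟨h4, h5⟩ := Wl_closed P hP i hi
    refine ⟨_, h4, by rw [h1]; rfl, by rw [h2]; rfl, fun r hr => ?_⟩
    show G2.T.refl i (piW G2.T w r) = _
    rw [h3 r hr]
    exact h5 ⟨r, hr⟩

theorem cA_cr : ∀ r : Fin 12, (cr r.val).1 = 2 * G2.T.cA 0 r.val + 3 * G2.T.cA 1 r.val ∧
    (cr r.val).2 = G2.T.cA 0 r.val + 2 * G2.T.cA 1 r.val := by decide +kernel

variable {E : Type*} [Field E]

/-- The value of a root. -/
def val (r : ℕ) (v : Eˣ × Eˣ) : Eˣ := v.1 ^ (cr r).1 * v.2 ^ (cr r).2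

theorem val_mul (r : ℕ) (v w : Eˣ × Eˣ) : val r (v * w) = val r v * val r w := by
  simp only [val, Prod.fst_mul, Prod.snd_mul, mul_zpow]
  ac_rfl

theorem val_one (r : ℕ) : val r (1 : Eˣ × Eˣ) = 1 := by simp [val]

theorem val_seven (v : Eˣ × Eˣ) : val 7 v = v.1 := by simp [val, cr]

theorem val_six (v : Eˣ × Eˣ) : val 6 v = v.2 := by simp [val, cr]

theorem val_perm {P : ℕ × ℕ} (hP : P ∈ Wl) {r : ℕ} (hr : r < 12) (v : Eˣ × Eˣ) :
    val (perm P r) v = val r (val P.1 v, val P.2 v) := by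
  obtain ⟨-, -, h⟩ := perm_ok P hP
  simp only [val, (h ⟨r, hr⟩).2, mul_zpow, ← zpow_mul, zpow_add]
  simp only [mul_comm (cr r).1, mul_comm (cr r).2]
  ac_rfl

/-- The torus, in root coordinates. -/
def dg : Eˣ × Eˣ →* ↥(chevG2.group E) where
  toFun v := tor ((v.1 : E) ^ 2 * (v.2 : E)) ((v.1 : E) ^ 3 * (v.2 : E) ^ 2)
  map_one' := by
    simp only [Prod.fst_one, Prod.snd_one, Units.val_one, one_pow, mul_one]
    exact mul_eq_left.mp ((tor_mul one_ne_zero one_ne_zero one_ne_zero one_ne_zero).trans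
      (by rw [one_mul]) : (tor 1 1 : ↥(chevG2.group E)) * tor 1 1 = tor 1 1)
  map_mul' v w := by
    rw [tor_mul (mul_ne_zero (pow_ne_zero _ v.1.ne_zero) v.2.ne_zero)
      (mul_ne_zero (pow_ne_zero _ v.1.ne_zero) (pow_ne_zero _ v.2.ne_zero))
      (mul_ne_zero (pow_ne_zero _ w.1.ne_zero) w.2.ne_zero)
      (mul_ne_zero (pow_ne_zero _ w.1.ne_zero) (pow_ne_zero _ w.2.ne_zero))]
    simp only [Prod.fst_mul, Prod.snd_mul, Units.val_mul]
    congr 1 <;> ring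

theorem dg_mem (v : Eˣ × Eˣ) :
    ((dg v : ↥(chevG2.group E)) : GL chevG2.Idx E) ∈ chevG2.diagonalSubgroup E :=
  tor_mem (mul_ne_zero (pow_ne_zero _ v.1.ne_zero) v.2.ne_zero)
    (mul_ne_zero (pow_ne_zero _ v.1.ne_zero) (pow_ne_zero _ v.2.ne_zero))

theorem dg_conj (v : Eˣ × Eˣ) {r : ℕ} (hr : r < chevG2.nroots) (t : E) :
    dg v * X r t * (dg v)⁻¹ = X r ((val r v : E) * t) := by
  show tor _ _ * X r t * (tor _ _)⁻¹ = _
  rw [tor_conj (mul_ne_zero (pow_ne_zero _ v.1.ne_zero) v.2.ne_zero)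
    (mul_ne_zero (pow_ne_zero _ v.1.ne_zero) (pow_ne_zero _ v.2.ne_zero)) hr rfl rfl]
  obtain ⟨h1, h2⟩ := cA_cr ⟨r, nroots_eq ▸ hr⟩
  congr 2
  rw [val, h1, h2, Units.val_mul, Units.val_zpow_eq_zpow_val, Units.val_zpow_eq_zpow_val, mul_zpow, mul_zpow,
    ← zpow_natCast, ← zpow_natCast, ← zpow_natCast, ← zpow_mul, ← zpow_mul, ← zpow_mul, zpow_add₀ v.1.ne_zero,
    zpow_add₀ v.2.ne_zero]
  push_cast
  ac_rfl

theorem exists_dg {g : ↥(chevG2.group E)} (hg : (g : GL chevG2.Idx E) ∈ chevG2.diagonalSubgroup E) :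
    ∃ v, g = dg v := by
  obtain ⟨lam, mu, hl, hm, rfl⟩ := exists_tor hg
  refine ⟨(Units.mk0 _ (div_ne_zero (pow_ne_zero 2 hl) hm), Units.mk0 _ (div_ne_zero (pow_ne_zero 2 hm)
    (pow_ne_zero 3 hl))), ?_⟩
  show _ = tor _ _
  simp only [Units.val_mk0]
  congr 1 <;> field_simp

theorem xG_param {r : ℕ} (hr : r < chevG2.nroots) {a b : E} (h : (X r a : ↥(chevG2.group E)) = X r b) : a = b :=
  G2.okx.toOK.xG_injective hr (congrArg (fun z : ↥(chevG2.group E) => (z : GL chevG2.Idx E)) h)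

theorem dg_val_injective {v w : Eˣ × Eˣ} (h : dg v = dg w) : v = w := by
  have key : ∀ r < chevG2.nroots, val r v = val r w := by
    intro r hr
    have e := dg_conj v hr (1 : E)
    rw [h, dg_conj w hr, mul_one, mul_one] at e
    exact (Units.ext (xG_param hr e)).symm
  have h7 := key 7 (by decide +kernel)
  have h6 := key 6 (by decide +kernel)
  rw [val_seven, val_seven] at h7
  rw [val_six, val_six] at h6
  exact Prod.ext h7 h6

theorem dg_injective : Function.Injective (dg : Eˣ × Eˣ →* ↥(chevG2.group E)) := fun _ _ h => dg_val_injective h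

/-- No root takes the value one. -/
def Reg (v : Eˣ × Eˣ) : Prop := ∀ r < chevG2.nroots, val r v ≠ 1

theorem act_val {n : ↥(chevG2.group E)} {π : ℕ → ℕ} (hA : G2.okx.toOK.Act (n : GL chevG2.Idx E) π)
    {v v' : Eˣ × Eˣ} (h : n * dg v * n⁻¹ = dg v') {r : ℕ} (hr : r < chevG2.nroots) : val (π r) v' = val r v := by
  obtain ⟨a, ha, hc⟩ := hA.2.1 r hr
  have hπ := (hA.1 r hr).1
  have hn : ∀ t : E, n * X r t * n⁻¹ = X (π r) (a * t) := fun t => Subtype.ext (hc t).1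
  have e1 : dg v' * X (π r) (a * 1) * (dg v')⁻¹ = X (π r) (a * (val r v : E)) := by
    rw [← h, ← hn 1]
    calc n * dg v * n⁻¹ * (n * X r 1 * n⁻¹) * (n * dg v * n⁻¹)⁻¹
        = n * (dg v * X r 1 * (dg v)⁻¹) * n⁻¹ := by simp [mul_assoc]
      _ = _ := by rw [dg_conj v hr, mul_one, hn]
  rw [dg_conj v' hπ, mul_one] at e1
  have e2 := xG_param hπ e1
  rw [mul_comm] at e2
  exact Units.ext (mul_left_cancel₀ ha e2)

theorem um_conj {N : GL chevG2.Idx E} {d : GL chevG2.Idx E} (hd : d ∈ chevG2.diagonalSubgroup E)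
    {u : GL chevG2.Idx E} (hu : u ∈ Subgroup.closure {x : GL chevG2.Idx E | ∃ (r : ℕ) (t : E), chevG2.IsPosRoot r ∧
      (chevG2.rootSubgroup E r).map (MulAut.conj N).toMonoidHom ≤ chevG2.negUnipotent E ∧
      (x : Matrix chevG2.Idx chevG2.Idx E) = chevG2.x E r t}) :
    d * u * d⁻¹ ∈ Subgroup.closure {x : GL chevG2.Idx E | ∃ (r : ℕ) (t : E), chevG2.IsPosRoot r ∧
      (chevG2.rootSubgroup E r).map (MulAut.conj N).toMonoidHom ≤ chevG2.negUnipotent E ∧
      (x : Matrix chevG2.Idx chevG2.Idx E) = chevG2.x E r t} := by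
  set S := {x : GL chevG2.Idx E | ∃ (r : ℕ) (t : E), chevG2.IsPosRoot r ∧
      (chevG2.rootSubgroup E r).map (MulAut.conj N).toMonoidHom ≤ chevG2.negUnipotent E ∧
      (x : Matrix chevG2.Idx chevG2.Idx E) = chevG2.x E r t}
  suffices h : Subgroup.closure S ≤ (Subgroup.closure S).comap (MulAut.conj d).toMonoidHom from h hu
  refine (Subgroup.closure_le _).mpr fun x ⟨r, t, hr, hle, hx⟩ => ?_
  obtain ⟨a, -, ha⟩ := G2.okx.toOK.diag_conj_xG hd (G2.okx.toOK.isPos_iff.mp hr).1 t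
  rw [SetLike.mem_coe, Subgroup.mem_comap, MulEquiv.coe_toMonoidHom, MulAut.conj_apply, G2.okx.toOK.eq_xG hx, ha]
  exact Subgroup.subset_closure ⟨r, a * t, hr, hle, rfl⟩

theorem pos_comm_one {v : Eˣ × Eˣ} (hv : Reg v) {u : GL chevG2.Idx E} (hu : u ∈ chevG2.posUnipotent E)
    (h : ((dg v : ↥(chevG2.group E)) : GL chevG2.Idx E) * u * ((dg v : ↥(chevG2.group E)) : GL chevG2.Idx E)⁻¹ = u) :
    u = 1 := by
  rw [← G2.okx.K_half] at hu
  have hh : Tabs.half chevG2 = 6 := by decide +kernel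
  rw [hh] at hu
  obtain ⟨f, ⟨hf0, hf⟩, huniq⟩ := G2.okx.exists_unique_K 6 6 nroots_eq.symm (by omega) hu
  set d := ((dg v : ↥(chevG2.group E)) : GL chevG2.Idx E)
  have hw : ∀ L : List ℕ, (∀ r ∈ L, r < chevG2.nroots) →
      d * G2.okx.toOK.wordG (L.map fun r => (r, f r)) * d⁻¹ =
        G2.okx.toOK.wordG (L.map fun r => (r, (val r v : E) * f r)) := by
    intro L hL
    induction L with
    | nil => simp [OK.wordG]
    | cons r L ih =>
      have hc : ∀ (g : ℕ → E), G2.okx.toOK.wordG ((r :: L).map fun r => (r, g r)) =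
          G2.okx.toOK.xG r (g r) * G2.okx.toOK.wordG (L.map fun r => (r, g r)) := fun g => by simp [OK.wordG]
      rw [hc, hc, ← conj_mul, ih fun k hk => hL k (List.mem_cons_of_mem _ hk)]
      exact congrArg (· * _) (congrArg (fun z : ↥(chevG2.group E) => (z : GL chevG2.Idx E))
        (dg_conj v (hL r List.mem_cons_self) (f r)))
  have e := hw (List.range' 6 6) fun r hr => by
    rw [List.mem_range'_1] at hr; rw [nroots_eq]; omega
  rw [← hf, h] at e
  have h2 := huniq (fun r => (val r v : E) * f r)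
    ⟨fun r hr => by show (val r v : E) * f r = 0; rw [hf0 r hr, mul_zero], e⟩
  have hz : ∀ r, f r = 0 := by
    intro r
    by_cases hr : 6 ≤ r ∧ r < chevG2.nroots
    · have h3 : (val r v : E) * f r = f r := congrFun h2 r
      by_contra hne
      exact hv r hr.2 (Units.ext (mul_right_cancel₀ hne (h3.trans (one_mul _).symm)))
    · exact hf0 r hr
  rw [hf]
  simp [OK.wordG, hz, Function.comp_def, G2.okx.toOK.xG_zero]

theorem mono_of_conj {g : ↥(chevG2.group E)} {v v' : Eˣ × Eˣ} (hv : Reg v) (hv' : Reg v')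
    (h : g * dg v' * g⁻¹ = dg v) :
    (g : GL chevG2.Idx E) ∈ chevG2.monomialSubgroup E ∧ ∃ P ∈ Wl,
      G2.okx.toOK.Act (g : GL chevG2.Idx E) (perm P) ∧ val P.1 v = v'.1 ∧ val P.2 v = v'.2 := by
  obtain ⟨b, hb, n, hn, u, hu, he⟩ := G2.okx.bruhat_exists g.2
  set t := ((dg v : ↥(chevG2.group E)) : GL chevG2.Idx E)
  set t' := ((dg v' : ↥(chevG2.group E)) : GL chevG2.Idx E)
  set G := (g : GL chevG2.Idx E)
  have ht := dg_mem v
  have ht' := dg_mem v'
  have hG : G * t' * G⁻¹ = t := congrArg (fun z : ↥(chevG2.group E) => (z : GL chevG2.Idx E)) h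
  set d := t * (n * t'⁻¹ * n⁻¹) with hd
  have hdd : d ∈ chevG2.diagonalSubgroup E := mul_mem ht (G2.okx.diag_normal_conj hn (inv_mem ht'))
  have hbB : t * b * t⁻¹ * d ∈ chevG2.borelSubgroup E :=
    mul_mem (mul_mem (mul_mem (Subgroup.mem_sup_right ht) hb) (inv_mem (Subgroup.mem_sup_right ht)))
      (Subgroup.mem_sup_right hdd)
  have heq : t * b * t⁻¹ * d * n * (t' * u * t'⁻¹) = b * n * u := by
    have : t * G * t'⁻¹ = G := by rw [← hG]; simp [mul_assoc]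
    rw [← he]
    conv_rhs => rw [← this, he]
    simp [hd, mul_assoc]
  obtain ⟨h1, h2⟩ := (G2.okx.bruhat_unique hbB hb hn hn (um_conj ht' hu) hu heq).2 rfl
  have huP : u ∈ chevG2.posUnipotent E := by
    refine (Subgroup.closure_le (chevG2.posUnipotent E)).mpr ?_ hu
    rintro x ⟨r, s, hr, -, hx⟩
    rw [G2.okx.toOK.eq_xG hx]
    exact G2.okx.toOK.xG_mem_pos hr s
  have hu1 : u = 1 := pos_comm_one hv' huP h2
  obtain ⟨w, hw, c, hc, hbe⟩ := G2.okx.toOK.mem_borel hb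
  have h3 : t * w * t⁻¹ ∈ chevG2.posUnipotent E :=
    (Subgroup.mem_normalizer_iff.mp (G2.okx.toOK.diag_normalizes_pos ht) w).mp hw
  have h4 : w⁻¹ * (t * w * t⁻¹) = c * d⁻¹ * (t * c * t⁻¹)⁻¹ := by
    rw [hbe] at h1
    have e : t * w * t⁻¹ * (t * c * t⁻¹ * d) = w * c := by rw [← h1]; simp [mul_assoc]
    have e' : t * w * t⁻¹ = w * c * (t * c * t⁻¹ * d)⁻¹ := eq_mul_inv_iff_mul_eq.mpr e
    rw [e']
    simp [mul_assoc]
  have h5 : w⁻¹ * (t * w * t⁻¹) ∈ chevG2.posUnipotent E ⊓ chevG2.diagonalSubgroup E :=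
    Subgroup.mem_inf.mpr ⟨mul_mem (inv_mem hw) h3,
      h4 ▸ mul_mem (mul_mem hc (inv_mem hdd)) (inv_mem (mul_mem (mul_mem ht hc) (inv_mem ht)))⟩
  rw [G2.okx.toOK.pos_inf_diag, Subgroup.mem_bot, inv_mul_eq_one] at h5
  have hw1 : w = 1 := pos_comm_one hv hw h5.symm
  have hGe : G = c * n := by rw [he, hbe, hu1, hw1, one_mul, mul_one]
  have hmon : G ∈ chevG2.monomialSubgroup E := hGe ▸ mul_mem (Subgroup.mem_sup_left hc) hn
  refine ⟨hmon, ?_⟩
  obtain ⟨t₀, ht₀, ω, hω, hGw⟩ := G2.okx.toOK.mem_monomial.mp hmon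
  obtain ⟨P, hP, hP1, hP2, hPr⟩ := exists_pair ω hω
  have hA : G2.okx.toOK.Act G (piW G2.T ω) := by
    rw [hGw]
    exact ((G2.okx.toOK.act_diag ht₀).mul G2.okx.toOK (G2.okx.toOK.act_gW ω hω) :)
  have hA' : G2.okx.toOK.Act G (perm P) := by
    refine ⟨fun r hr => ?_, fun r hr => ?_, fun i s hs => ?_⟩
    · rw [← hPr r (nroots_eq ▸ hr), ← hPr _ (nroots_eq ▸ G2.okx.toOK.neg_lt hr)]
      exact hA.1 r hr
    · rw [← hPr r (nroots_eq ▸ hr)]
      exact hA.2.1 r hr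
    · obtain ⟨u, hu1, hu2⟩ := hA.2.2 i s hs
      exact ⟨u, hu1, hu2.trans (hPr _ (nroots_eq ▸ s.isLt))⟩
  refine ⟨P, hP, hA', ?_, ?_⟩
  · rw [← val_seven v']
    have := act_val hA h (r := 7) (by decide +kernel)
    rwa [← hP1] at this
  · rw [← val_six v']
    have := act_val hA h (r := 6) (by decide +kernel)
    rwa [← hP2] at this

/-- A pair fixing a regular element is trivial. -/
theorem fixed_pair_cert : ∀ P ∈ Wl, P ≠ (7, 6) → ∃ β : Fin 12, ∃ c₁ ∈ [-3, -2, -1, 0, 1, 2, (3 : ℤ)],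
    ∃ c₂ ∈ [-3, -2, -1, 0, 1, 2, (3 : ℤ)], ∃ k ∈ [1, 2, 3, (4 : ℕ)],
      c₁ * ((cr P.1).1 - 1) + c₂ * (cr P.2).1 = (k : ℤ) * (cr β.val).1 ∧
      c₁ * (cr P.1).2 + c₂ * ((cr P.2).2 - 1) = (k : ℤ) * (cr β.val).2 := by
  decide +kernel

theorem eq_one_of_pow {x : Eˣ} {l k : ℕ} (hl : l.Prime) (h3 : 3 < l) (hk : k ∈ [1, 2, 3, 4]) (hx : x ^ l = 1)
    (hxk : x ^ k = 1) : x = 1 := by
  refine orderOf_eq_one_iff.mp (Nat.eq_one_of_dvd_coprimes ?_ (orderOf_dvd_of_pow_eq_one hx)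
    (orderOf_dvd_of_pow_eq_one hxk))
  refine hl.coprime_iff_not_dvd.mpr fun hd => ?_
  fin_cases hk
  · have := Nat.le_of_dvd one_pos hd; omega
  · have := Nat.le_of_dvd two_pos hd; omega
  · have := Nat.le_of_dvd three_pos hd; omega
  · have h5 := Nat.le_of_dvd (by norm_num : 0 < 4) hd
    obtain rfl : l = 4 := by omega
    norm_num at hl

theorem pair_eq_one {P : ℕ × ℕ} (hP : P ∈ Wl) {v : Eˣ × Eˣ} {l : ℕ} (hl : l.Prime) (h3 : 3 < l)
    (hv : v ^ l = 1) (hreg : Reg v) (h1 : val P.1 v = v.1) (h2 : val P.2 v = v.2) : P = (7, 6) := by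
  by_contra hne
  obtain ⟨β, c₁, -, c₂, -, k, hk, e1, e2⟩ := fixed_pair_cert P hP hne
  have hpow : val β.val v ^ (k : ℤ) = 1 := by
    rw [val, mul_zpow, ← zpow_mul, ← zpow_mul, mul_comm _ (k : ℤ), mul_comm _ (k : ℤ), ← e1, ← e2]
    have a1 : (val P.1 v / v.1) ^ c₁ * (val P.2 v / v.2) ^ c₂ = 1 := by rw [h1, h2]; simp
    rw [← a1]
    simp only [val, div_eq_mul_inv, mul_zpow, inv_zpow', ← zpow_mul, zpow_add, zpow_sub]
    simp only [mul_sub, mul_one, zpow_sub, zpow_neg, zpow_add, div_eq_mul_inv, mul_comm _ c₁, mul_comm _ c₂]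
    simp only [mul_comm, mul_left_comm, mul_assoc]
  rw [zpow_natCast] at hpow
  refine hreg β.val (nroots_eq.symm ▸ β.isLt) (eq_one_of_pow hl h3 hk ?_ hpow)
  have : ∀ n : ℕ, val β.val (v ^ n) = val β.val v ^ n := fun n => by
    induction n with
    | zero => simp [val_one]
    | succ n ih => rw [pow_succ, pow_succ, val_mul, ih]
  rw [← this, hv, val_one]

theorem perm_ne_cert : ∀ P ∈ Wl, P = (7, 6) ∨ ∃ r : Fin 12, perm P r.val ≠ r.val := by decide +kernel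

end Cfsg.Agent.SmallRee
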