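import Cfsg.Agent.Lib.Chev.LexG2
import Cfsg.Prelude.Def_LieTwisted

/-!
One identity between words in the group of type G2 over the field with three elements.
-/

set_option autoImplicit false
set_option maxRecDepth 100000

namespace Cfsg.Agent.SmallRee

open Cfsg.Lie

/-- Numbering of the fourteen coordinates. -/
def num (i : Fin 14) : chevG2.Idx :=
  finSumFinEquiv.symm (Fin.cast (show 14 = chevG2.rank + chevG2.nroots by decide +kernel) i)

theorem num_surj (a : chevG2.Idx) : ∃ i, num i = a :=
  ⟨Fin.cast (show chevG2.rank + chevG2.nroots = 14 by decide +kernel) (finSumFinEquiv a), by simp [num]⟩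

theorem num_bij : Function.Bijective num :=
  ⟨fun i j h => Fin.cast_injective _ (finSumFinEquiv.symm.injective h), fun a => num_surj a⟩

/-- A root element applied to a vector. -/
def apX (r : ℕ) (c : ZMod 3) (v : List (ZMod 3)) : List (ZMod 3) :=
  List.ofFn fun i : Fin 14 => (List.ofFn fun j : Fin 14 => chevG2.x (ZMod 3) r c (num i) (num j) * v.getD j 0).sum

/-- A word applied to a vector. -/
def apW (w : List (ℕ × ZMod 3)) (v : List (ZMod 3)) : List (ZMod 3) := w.foldr (fun p u => apX p.1 p.2 u) v

theorem apX_get (r : ℕ) (c : ZMod 3) (v : List (ZMod 3)) (i : Fin 14) :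
    (apX r c v).getD i 0 = ∑ j : Fin 14, chevG2.x (ZMod 3) r c (num i) (num j) * v.getD j 0 := by
  rw [apX, List.getD_eq_getElem _ _ (by simp), List.getElem_ofFn, List.sum_ofFn]

theorem apW_get (v : List (ZMod 3)) : ∀ (w : List (ℕ × ZMod 3)) (i : Fin 14), (apW w v).getD i 0 =
    ∑ j : Fin 14, chevG2.wordMat (ZMod 3) w (num i) (num j) * v.getD j 0
  | [], i => by simp [apW, ChevalleyDatum.wordMat, Matrix.one_apply, num_bij.1.eq_iff]
  | p :: w, i => by
    have hw : chevG2.wordMat (ZMod 3) (p :: w) = chevG2.x (ZMod 3) p.1 p.2 * chevG2.wordMat (ZMod 3) w := by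
      simp [ChevalleyDatum.wordMat]
    rw [show apW (p :: w) v = apX p.1 p.2 (apW w v) from rfl, apX_get, hw]
    calc ∑ j : Fin 14, chevG2.x (ZMod 3) p.1 p.2 (num i) (num j) * (apW w v).getD j 0
        = ∑ j : Fin 14, ∑ k : Fin 14, chevG2.x (ZMod 3) p.1 p.2 (num i) (num j) *
            chevG2.wordMat (ZMod 3) w (num j) (num k) * v.getD k 0 := by
          refine Finset.sum_congr rfl fun j _ => ?_
          rw [apW_get v w j, Finset.mul_sum]
          exact Finset.sum_congr rfl fun k _ => (mul_assoc _ _ _).symm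
      _ = _ := by
          rw [Finset.sum_comm]
          refine Finset.sum_congr rfl fun k _ => ?_
          rw [← Finset.sum_mul, Matrix.mul_apply]
          congr 1

/-- A basis vector. -/
def unitV (j : Fin 14) : List (ZMod 3) := List.ofFn fun i : Fin 14 => if i = j then 1 else 0

theorem wordMat_eq_of_apW {w w' : List (ℕ × ZMod 3)} (h : ∀ j : Fin 14, apW w (unitV j) = apW w' (unitV j)) :
    chevG2.wordMat (ZMod 3) w = chevG2.wordMat (ZMod 3) w' := by
  ext a b
  obtain ⟨i, rfl⟩ := num_surj a
  obtain ⟨j, rfl⟩ := num_surj b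
  have h1 := apW_get (unitV j) w i
  have h2 := apW_get (unitV j) w' i
  rw [h j] at h1
  have hu : ∀ k : Fin 14, (unitV j).getD k 0 = if k = j then 1 else 0 := fun k => by
    rw [unitV, List.getD_eq_getElem _ _ (by simp), List.getElem_ofFn]
  simp only [hu, mul_ite, mul_one, mul_zero, Finset.sum_ite_eq', Finset.mem_univ, if_true] at h1 h2
  exact h1.symm.trans h2

/-- The left word: a product of a negative and a positive generator. -/
def leftW : List (ℕ × ZMod 3) :=
  [(3, 2), (2, 2), (1, 2), (0, 2), (7, 2), (6, 2), (8, 2), (10, 1), (11, 1)]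

/-- The right word: a generator, a torus element and a monomial element. -/
def rightW : List (ℕ × ZMod 3) :=
  [(8, 1), (9, 1), (10, 1), (11, 1)] ++ chevG2.hWord 7 (-1) ++ chevG2.hWord 6 (-1) ++
    [(8, 1), (3, 2), (8, 1), (10, 1), (1, 2), (10, 1)]

theorem word_id : chevG2.wordMat (ZMod 3) leftW = chevG2.wordMat (ZMod 3) rightW :=
  wordMat_eq_of_apW (by decide +kernel)

end Cfsg.Agent.SmallRee
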