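import Cfsg.Agent.Lib.SmallRee.Torus
import Cfsg.Agent.Lib.SmallRee.Three
import Mathlib.NumberTheory.LegendreSymbol.Basic

/-!
The small Ree group is the fixed subgroup of the twist; its normal form.
-/

set_option autoImplicit false
set_option maxRecDepth 20000

namespace Cfsg.Agent.SmallRee

open Cfsg.Lie Cfsg.Agent.Chev

variable {F : Type*} [Field F]

namespace Tw

variable (S : Tw F)

/-- The group generated by the two kinds of generators. -/
def G1 : Subgroup ↥(chevG2.group F) :=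
  Subgroup.closure {g | ∃ (b : Bool) (t u v : F), g = S.Rw b t u v}

theorem Rw_mem (b : Bool) (t u v : F) : S.Rw b t u v ∈ S.G1 := Subgroup.subset_closure ⟨b, t, u, v, rfl⟩

/-- The fixed subgroup. -/
def Fx : Subgroup ↥(chevG2.group F) := S.sg.eqLocus (MonoidHom.id _)

theorem mem_Fx {g : ↥(chevG2.group F)} : g ∈ S.Fx ↔ S.sg g = g := Iff.rfl

theorem G1_le_Fx [CharP F 3] : S.G1 ≤ S.Fx :=
  (Subgroup.closure_le _).mpr fun _ ⟨b, t, u, v, e⟩ => e ▸ S.sg_Rw b t u v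

theorem nn_mem [CharP F 3] (u : F) : S.nn u ∈ S.G1 := by
  rw [S.nn_word]; exact mul_mem (mul_mem (S.Rw_mem _ _ _ _) (S.Rw_mem _ _ _ _)) (S.Rw_mem _ _ _ _)

theorem n₀_mem [CharP F 3] : S.n₀ ∈ S.G1 := S.nn_mem 1

/-- Transfer of the identity over the field with three elements. -/
theorem three_transfer [CharP F 3] :
    G2.okx.toOK.wordG (leftW.map fun p => (p.1, ZMod.castHom (dvd_refl 3) F p.2)) =
      G2.okx.toOK.wordG (rightW.map fun p => (p.1, ZMod.castHom (dvd_refl 3) F p.2)) := by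
  haveI : Fact (Nat.Prime 3) := ⟨Nat.prime_three⟩
  have h : G2.okx.toOK.wordG (F := ZMod 3) leftW = G2.okx.toOK.wordG (F := ZMod 3) rightW :=
    Units.ext (((G2.okx.toOK.coe_wordG (F := ZMod 3) leftW).trans word_id).trans
      (G2.okx.toOK.coe_wordG (F := ZMod 3) rightW).symm)
  have h' := congrArg (mapG (ZMod.castHom (dvd_refl 3) F) chevG2) h
  rw [G2.okx.toOK.mapG_wordG (ZMod.castHom (dvd_refl 3) F) leftW,
    G2.okx.toOK.mapG_wordG (ZMod.castHom (dvd_refl 3) F) rightW] at h'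
  exact h'

theorem Ht_neg_one_mem [CharP F 3] : S.Ht (-1) ∈ S.G1 := by
  have hl : (-1 : F) ≠ 0 := neg_ne_zero.mpr one_ne_zero
  have h2 : (2 : F) = -1 := by
    have : ((3 : ℕ) : F) = 0 := CharP.cast_eq_zero F 3
    linear_combination this
  have h3 := three_transfer (F := F)
  simp only [leftW, rightW, ChevalleyDatum.hWord, ChevalleyDatum.nWord, List.map_cons, List.map_nil,
    List.cons_append, List.nil_append, map_one, map_neg, inv_neg, inv_one, neg_neg, map_ofNat, h2] at h3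
  have e1 : ((S.Rw false 0 1 1 * S.Rw true (-1) 1 1 : ↥(chevG2.group F)) : GL chevG2.Idx F) =
      G2.okx.toOK.wordG [(3, -1), (2, -1), (1, -1), (0, -1), (7, -1), (6, -1), (8, -1), (10, 1), (11, 1)] := by
    have h4 : (1 : F) + -1 * -1 = -1 := by linear_combination (h2 : (2 : F) = -1)
    have h5 : (1 : F) + (-1) ^ 2 * -1 = 0 := by ring
    simp only [Rw, Wd, Tl, map_neg, map_one, map_zero, h4, h5, Y_zero, one_mul, mul_one, zero_mul, mul_zero,
      zero_pow two_ne_zero, add_zero, Y, if_true, Bool.false_eq_true, if_false, X_zero]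
    simp [OK.wordG, coe_X, mul_assoc, G2.okx.toOK.xG_zero]
  have e2 : ((S.Rw true 0 1 1 * S.Ht (-1) * S.n₀ : ↥(chevG2.group F)) : GL chevG2.Idx F) =
      G2.okx.toOK.wordG ([(8, 1), (9, 1), (10, 1), (11, 1)] ++ chevG2.hWord 7 (-1) ++ chevG2.hWord 6 (-1) ++
        [(8, 1), (3, -1), (8, 1), (10, 1), (1, -1), (10, 1)]) := by
    rw [S.Ht_def, Units.val_neg, Units.val_one, map_neg, map_one, tor_eq_H hl hl, n₀, nn, map_one,
      N_eq (r := 8) (s := 3) (by decide +kernel) (by decide +kernel),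
      N_eq (r := 10) (s := 1) (by decide +kernel) (by decide +kernel)]
    simp [Rw, Wd, Tl, Y_zero, Y, OK.wordG, coe_X, H, OK.hG, mul_assoc, G2.okx.toOK.xG_zero]
  simp only [ChevalleyDatum.hWord, ChevalleyDatum.nWord, List.cons_append, List.nil_append, inv_neg, inv_one,
    neg_neg] at e2 h3
  have e : S.Rw false 0 1 1 * S.Rw true (-1) 1 1 = S.Rw true 0 1 1 * S.Ht (-1) * S.n₀ :=
    Subtype.ext (e1.trans (h3.trans e2.symm))
  have : S.Ht (-1) = (S.Rw true 0 1 1)⁻¹ * (S.Rw false 0 1 1 * S.Rw true (-1) 1 1) * S.n₀⁻¹ := by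
    rw [e]; simp [mul_assoc]
  rw [this]
  exact mul_mem (mul_mem (inv_mem (S.Rw_mem _ _ _ _)) (mul_mem (S.Rw_mem _ _ _ _) (S.Rw_mem _ _ _ _)))
    (inv_mem S.n₀_mem)

theorem sq_inv_formula {w : F} (hw : w ≠ 0) : S.th (S.th w ^ 3 / w) ^ 3 * (S.th w ^ 3 / w) = w ^ 2 := by
  have htw : S.th w ≠ 0 := (map_ne_zero S.th).mpr hw
  rw [map_div₀, map_pow, S.th_cube]
  field_simp

theorem Ht_mem [CharP F 3] [Fintype F] {m : ℕ} (hK : Fintype.card F = 3 ^ (2 * m + 1)) (v : Fˣ) :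
    S.Ht v ∈ S.G1 := by
  have hsq : ∀ w : Fˣ, S.Ht (w ^ 2) ∈ S.G1 := by
    intro w
    have hu : S.th (w : F) ^ 3 / (w : F) ≠ 0 :=
      div_ne_zero (pow_ne_zero _ ((map_ne_zero S.th).mpr w.ne_zero)) w.ne_zero
    have h := S.nn_mul hu
    have e : (Units.mk0 _ (mul_ne_zero (pow_ne_zero _ ((map_ne_zero S.th).mpr hu)) hu) : Fˣ) = w ^ 2 :=
      Units.ext (by rw [Units.val_mk0, Units.val_pow_eq_pow_val]; exact S.sq_inv_formula w.ne_zero)
    rw [← e, ← h]
    exact mul_mem (S.nn_mem _) (S.nn_mem _)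
  have h34 : Fintype.card F % 4 = 3 := by
    rw [hK, pow_succ, pow_mul, Nat.mul_mod, Nat.pow_mod]
    norm_num
  have hF : ringChar F ≠ 2 := by rw [ringChar.eq F 3]; norm_num
  have hval : ((v : F)) ^ (Fintype.card F / 2) = 1 ∨ (v : F) ^ (Fintype.card F / 2) = -1 :=
    FiniteField.pow_dichotomy hF v.ne_zero
  rcases hval with h | h
  · obtain ⟨c, hc⟩ := (FiniteField.isSquare_iff hF v.ne_zero).mpr h
    have hc0 : c ≠ 0 := fun e => v.ne_zero (by rw [hc, e, mul_zero])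
    have : v = Units.mk0 c hc0 ^ 2 := Units.ext (by rw [Units.val_pow_eq_pow_val, Units.val_mk0, pow_two]; exact hc)
    rw [this]; exact hsq _
  · have hodd : Odd (Fintype.card F / 2) := Nat.odd_iff.mpr (by omega)
    have hneg : (-(v : F)) ^ (Fintype.card F / 2) = 1 := by rw [hodd.neg_pow, h, neg_neg]
    obtain ⟨c, hc⟩ := (FiniteField.isSquare_iff hF (neg_ne_zero.mpr v.ne_zero)).mpr hneg
    have hc0 : c ≠ 0 := fun e => v.ne_zero (by rwa [e, mul_zero, neg_eq_zero] at hc)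
    have : v = -1 * Units.mk0 c hc0 ^ 2 := Units.ext (by
      rw [Units.val_mul, Units.val_neg, Units.val_one, Units.val_pow_eq_pow_val, Units.val_mk0, pow_two, ← hc]
      ring)
    rw [this, map_mul]; exact mul_mem S.Ht_neg_one_mem (hsq _)

theorem pi_pos : ∀ r : Fin 12, (6 ≤ r.val ↔ 6 ≤ G2.xtab.pi r.val) ∧ G2.xtab.pi r.val < 12 := by decide +kernel

theorem htf_pos {r : ℕ} (hr : r < chevG2.nroots) : 0 < G2.T.htf r ↔ 6 ≤ r := by
  have hh : Tabs.half chevG2 = 6 := by decide +kernel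
  rw [← hh]; exact G2.okx.pos_iff_half hr

theorem sg_pos {g : ↥(chevG2.group F)} (hg : (g : GL chevG2.Idx F) ∈ chevG2.posUnipotent F) :
    ((S.sg g : ↥(chevG2.group F)) : GL chevG2.Idx F) ∈ chevG2.posUnipotent F := by
  suffices h : ∀ x, x ∈ chevG2.posUnipotent F → ∀ g : ↥(chevG2.group F), (g : GL chevG2.Idx F) = x →
      ((S.sg g : ↥(chevG2.group F)) : GL chevG2.Idx F) ∈ chevG2.posUnipotent F from h _ hg g rfl
  intro x hx
  induction hx using Subgroup.closure_induction with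
  | mem y hy =>
    obtain ⟨r, t, hr, hy⟩ := hy
    intro g hg
    obtain ⟨hr1, hr2⟩ := G2.okx.toOK.isPos_iff.mp hr
    have e : g = X r t := Subtype.ext (hg.trans (G2.okx.toOK.eq_xG hy))
    rw [e, S.sg_X r hr1, coe_X]
    obtain ⟨h1, h2⟩ := pi_pos ⟨r, nroots_eq ▸ hr1⟩
    simp only at h1 h2
    have h3 : G2.xtab.pi r < chevG2.nroots := nroots_eq.symm ▸ h2
    exact G2.okx.toOK.xG_mem_pos (G2.okx.toOK.isPos_iff.mpr ⟨h3, (htf_pos h3).mpr (h1.mp ((htf_pos hr1).mp hr2))⟩) _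
  | one => intro g hg; rw [show g = 1 from Subtype.ext hg, map_one]; exact one_mem _
  | mul a b ha hb iha ihb =>
    intro g hg
    have hab : g = ⟨a, G2.okx.toOK.pos_le_group ha⟩ * ⟨b, G2.okx.toOK.pos_le_group hb⟩ := Subtype.ext hg
    rw [hab, map_mul]
    exact mul_mem (iha _ rfl) (ihb _ rfl)
  | inv a ha iha =>
    intro g hg
    have hab : g = (⟨a, G2.okx.toOK.pos_le_group ha⟩)⁻¹ := Subtype.ext hg
    rw [hab, map_inv]
    exact inv_mem (iha _ rfl)

theorem sg_diag {g : ↥(chevG2.group F)} (hg : (g : GL chevG2.Idx F) ∈ chevG2.diagonalSubgroup F) :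
    ((S.sg g : ↥(chevG2.group F)) : GL chevG2.Idx F) ∈ chevG2.diagonalSubgroup F := by
  obtain ⟨lam, mu, hl, hm, rfl⟩ := exists_tor hg
  rw [S.sg_tor hl hm]
  exact tor_mem ((map_ne_zero S.th).mpr hm) (pow_ne_zero _ ((map_ne_zero S.th).mpr hl))

theorem sg_borel {g : ↥(chevG2.group F)} (hg : (g : GL chevG2.Idx F) ∈ chevG2.borelSubgroup F) :
    ((S.sg g : ↥(chevG2.group F)) : GL chevG2.Idx F) ∈ chevG2.borelSubgroup F := by
  obtain ⟨u, hu, t, ht, e⟩ := G2.okx.toOK.mem_borel hg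
  have : g = ⟨u, G2.okx.toOK.pos_le_group hu⟩ * ⟨t, G2.okx.toOK.diag_le_group ht⟩ := Subtype.ext e
  rw [this, map_mul]
  exact mul_mem (Subgroup.mem_sup_left (S.sg_pos hu)) (Subgroup.mem_sup_right (S.sg_diag ht))

theorem n₀_conj [CharP F 3] : S.n₀ * X 8 (1 : F) * S.n₀⁻¹ = X 3 (-1) := by
  have h1 : N 8 (1 : F) * X 8 1 * (N 8 (1 : F))⁻¹ = X 3 (-1) := by
    refine Subtype.ext ?_
    rw [Subgroup.coe_mul, Subgroup.coe_mul, Subgroup.coe_inv, coe_X, coe_X]
    show G2.okx.toOK.nG 8 1 * _ * (G2.okx.toOK.nG 8 (1 : F))⁻¹ = _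
    rw [(G2.okx.toOK.rankOne_facts (F := F) (r := 8) (by decide +kernel)).2 1,
      show G2.T.neg 8 = 3 by decide +kernel]
  have h2 : Commute (N 10 (1 : F)) (X 8 1) := by
    rw [N_eq (r := 10) (s := 1) (by decide +kernel) (by decide +kernel)]
    exact ((pair_commute 8 10 (by simp) (by simp) _ _).symm.mul_left
      (pair_commute 8 1 (by simp) (by simp) _ _).symm).mul_left (pair_commute 8 10 (by simp) (by simp) _ _).symm
  rw [n₀, nn, map_one, mul_inv_rev]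
  calc N 8 (1 : F) * N 10 1 * X 8 1 * ((N 10 (1 : F))⁻¹ * (N 8 1)⁻¹)
      = N 8 (1 : F) * (N 10 1 * X 8 1) * (N 10 (1 : F))⁻¹ * (N 8 1)⁻¹ := by simp only [mul_assoc]
    _ = N 8 (1 : F) * X 8 1 * (N 8 (1 : F))⁻¹ := by rw [h2.eq]; simp [mul_assoc]
    _ = _ := h1

theorem commutes_pi {w : List ℕ} (hw : ∀ i ∈ w, i < chevG2.rank)
    (hfix : ∃ d : ↥(chevG2.group F), (d : GL chevG2.Idx F) ∈ chevG2.diagonalSubgroup F ∧
      ((S.sg ⟨G2.okx.toOK.gW F w, G2.okx.toOK.monomial_le_group (G2.okx.toOK.mem_monomial.mpr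
        ⟨1, one_mem _, w, hw, (one_mul _).symm⟩)⟩ : ↥(chevG2.group F)) : GL chevG2.Idx F) =
        G2.okx.toOK.gW F w * (d : GL chevG2.Idx F)) :
    ∀ r < chevG2.nroots, piW G2.T w (G2.xtab.pi r) = G2.xtab.pi (piW G2.T w r) := by
  obtain ⟨d, hd, he⟩ := hfix
  intro r hr
  set W := G2.okx.toOK.gW F w
  have hA := G2.okx.toOK.act_gW (F := F) w hw
  set Wg : ↥(chevG2.group F) := ⟨W, G2.okx.toOK.monomial_le_group (G2.okx.toOK.mem_monomial.mpr
    ⟨1, one_mem _, w, hw, (one_mul _).symm⟩)⟩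
  obtain ⟨a, ha, hc⟩ := hA.2.1 r hr
  have hwr := (hA.1 r hr).1
  have h1 : Wg * X r 1 * Wg⁻¹ = X (piW G2.T w r) (a * 1) := Subtype.ext (hc 1).1
  have h2 := congrArg (fun z => ((S.sg z : ↥(chevG2.group F)) : GL chevG2.Idx F)) h1
  simp only [map_mul, map_inv, S.sg_X r hr, S.sg_X _ hwr, Subgroup.coe_mul, Subgroup.coe_inv, coe_X, he] at h2
  obtain ⟨b, hb, hdb⟩ := G2.okx.toOK.diag_conj_xG hd
    (s := G2.xtab.pi r) (nroots_eq.symm ▸ (pi_pos ⟨r, nroots_eq ▸ hr⟩).2) (S.th 1 ^ G2.xtab.e r)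
  have hpr : G2.xtab.pi r < chevG2.nroots := nroots_eq.symm ▸ (pi_pos ⟨r, nroots_eq ▸ hr⟩).2
  obtain ⟨a', ha', hc'⟩ := hA.2.1 _ hpr
  rw [mul_inv_rev, show W * (d : GL chevG2.Idx F) * G2.okx.toOK.xG (G2.xtab.pi r) (S.th 1 ^ G2.xtab.e r) *
      ((d : GL chevG2.Idx F)⁻¹ * W⁻¹) = W * ((d : GL chevG2.Idx F) * G2.okx.toOK.xG (G2.xtab.pi r)
        (S.th 1 ^ G2.xtab.e r) * (d : GL chevG2.Idx F)⁻¹) * W⁻¹ by simp [mul_assoc], hdb, (hc' _).1] at h2
  refine G2.okx.toOK.xG_eq_iff (hA.1 _ hpr).1 (nroots_eq.symm ▸ (pi_pos ⟨_, nroots_eq ▸ hwr⟩).2) ?_ h2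
  rw [map_one, one_pow, mul_one]
  exact mul_ne_zero ha' hb

theorem word_cases {w : List ℕ} (hw : ∀ i ∈ w, i < chevG2.rank)
    (h : ∀ r < chevG2.nroots, piW G2.T w (G2.xtab.pi r) = G2.xtab.pi (piW G2.T w r)) :
    (∀ r < chevG2.nroots, 0 < G2.T.htf r → 0 < G2.T.htf (piW G2.T w r)) ∨
      ∀ r < chevG2.nroots, 0 < G2.T.htf r → G2.T.htf (piW G2.T w r) < 0 := by
  have hs : G2.T.smp 0 = 7 ∧ G2.T.smp 1 = 6 ∧ G2.xtab.pi 7 = 6 := by decide +kernel
  have h67 : 0 < G2.T.htf (piW G2.T w 7) ↔ 0 < G2.T.htf (piW G2.T w 6) := by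
    have h7 := G2.okx.piW_lt hw (show 7 < chevG2.nroots by decide +kernel)
    obtain ⟨h1, h2⟩ := pi_pos ⟨piW G2.T w 7, nroots_eq ▸ h7⟩
    simp only at h1 h2
    rw [← hs.2.2, h 7 (by decide +kernel), htf_pos h7, htf_pos (nroots_eq.symm ▸ h2)]
    exact h1
  have hi : ∀ i < chevG2.rank, G2.T.smp i = 7 ∨ G2.T.smp i = 6 := fun i hi => by
    rw [rank_eq] at hi
    rcases Nat.lt_succ_iff_lt_or_eq.mp hi with e | e
    · obtain rfl : i = 0 := by omega
      exact Or.inl hs.1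
    · obtain rfl : i = 1 := e
      exact Or.inr hs.2.1
  have hne : ∀ r < chevG2.nroots, G2.T.htf (piW G2.T w r) ≠ 0 := fun r hr =>
    G2.okx.toOK.ht_ne (G2.okx.piW_lt hw hr)
  by_cases hp : 0 < G2.T.htf (piW G2.T w 7)
  · left
    refine fun r hr h0 => G2.okx.pos_of_simple hw (fun i hi' => ?_) hr h0
    rcases hi i hi' with e | e <;> rw [e]
    · omega
    · have := h67.mp hp; omega
  · right
    obtain ⟨v, hv, hneg⟩ := G2.okx.exists_longest
    intro r hr h0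
    have hr' := G2.okx.piW_lt hw hr
    by_contra hc
    have hq : 0 < G2.T.htf (piW G2.T w r) := by have := hne r hr; omega
    have hvw : ∀ i ∈ v ++ w, i < chevG2.rank := fun i hi =>
      (List.mem_append.mp hi).elim (hv i) (hw i)
    have h1 : 0 < G2.T.htf (piW G2.T (v ++ w) r) := by
      refine G2.okx.pos_of_simple hvw (fun i hi' => ?_) hr h0
      rw [piW_append]
      have hsi := G2.okx.toOK.smp_lt hi'
      have hsi' := G2.okx.piW_lt hw hsi
      have hneg' : G2.T.htf (piW G2.T w (G2.T.smp i)) < 0 := by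
        have := hne _ hsi
        rcases hi i hi' with e | e <;> rw [e] at this ⊢
        · omega
        · have : ¬ 0 < G2.T.htf (piW G2.T w 6) := fun q => hp (h67.mpr q)
          omega
      have h3 : 0 < G2.T.htf (G2.T.neg (piW G2.T w (G2.T.smp i))) := by rw [G2.okx.toOK.ht_neg hsi']; omega
      have h4 := hneg _ (G2.okx.toOK.neg_lt hsi') h3
      rw [G2.okx.piW_neg hv hsi', G2.okx.toOK.ht_neg (G2.okx.piW_lt hv hsi')] at h4
      omega
    rw [piW_append] at h1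
    have := hneg _ hr' hq
    omega

theorem exists_act_n₀ [CharP F 3] : ∃ w : List ℕ, (∀ i ∈ w, i < chevG2.rank) ∧
    G2.okx.toOK.Act ((S.n₀ : ↥(chevG2.group F)) : GL chevG2.Idx F) (piW G2.T w) ∧
    (∀ r < chevG2.nroots, 0 < G2.T.htf r → G2.T.htf (piW G2.T w r) < 0) ∧
    ((S.n₀ : ↥(chevG2.group F)) : GL chevG2.Idx F) ∈ chevG2.monomialSubgroup F := by
  have hmon : ((S.n₀ : ↥(chevG2.group F)) : GL chevG2.Idx F) ∈ chevG2.monomialSubgroup F := by
    rw [n₀, nn, map_one, Subgroup.coe_mul]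
    exact mul_mem (G2.okx.toOK.nG_mem_monomial (by decide +kernel)) (G2.okx.toOK.nG_mem_monomial (by decide +kernel))
  obtain ⟨t, ht, w, hw, he⟩ := G2.okx.toOK.mem_monomial.mp hmon
  have hA : G2.okx.toOK.Act ((S.n₀ : ↥(chevG2.group F)) : GL chevG2.Idx F) (piW G2.T w) := by
    rw [he]; exact ((G2.okx.toOK.act_diag ht).mul G2.okx.toOK (G2.okx.toOK.act_gW w hw) :)
  have hWG := G2.okx.toOK.monomial_le_group (F := F)
    (G2.okx.toOK.mem_monomial.mpr ⟨1, one_mem _, w, hw, (one_mul _).symm⟩)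
  set tg : ↥(chevG2.group F) := ⟨t, G2.okx.toOK.diag_le_group ht⟩
  have hsplit : S.n₀ = tg * ⟨_, hWG⟩ := Subtype.ext he
  have hfix : S.sg S.n₀ = S.n₀ := S.G1_le_Fx S.n₀_mem
  rw [hsplit, map_mul] at hfix
  have hd : (((S.sg tg)⁻¹ * tg : ↥(chevG2.group F)) : GL chevG2.Idx F) ∈ chevG2.diagonalSubgroup F :=
    mul_mem (inv_mem (S.sg_diag ht)) ht
  have hnorm : (G2.okx.toOK.gW F w)⁻¹ * ((((S.sg tg)⁻¹ * tg : ↥(chevG2.group F))) : GL chevG2.Idx F) *
      G2.okx.toOK.gW F w ∈ chevG2.diagonalSubgroup F := by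
    have hmw : (G2.okx.toOK.gW F w)⁻¹ ∈ chevG2.monomialSubgroup F :=
      inv_mem (G2.okx.toOK.mem_monomial.mpr ⟨1, one_mem _, w, hw, (one_mul _).symm⟩)
    have := G2.okx.diag_normal_conj hmw hd
    rwa [inv_inv] at this
  have hcomm := S.commutes_pi hw ⟨⟨_, G2.okx.toOK.diag_le_group hnorm⟩, hnorm, by
    have h1 := congrArg (fun z : ↥(chevG2.group F) => ((S.sg tg)⁻¹ * z : ↥(chevG2.group F))) hfix
    simp only [inv_mul_cancel_left] at h1
    rw [h1]
    simp [mul_assoc]⟩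
  refine ⟨w, hw, hA, ?_, hmon⟩
  rcases word_cases hw hcomm with h | h
  · exfalso
    have hn0B : ((S.n₀ : ↥(chevG2.group F)) : GL chevG2.Idx F) ∈ chevG2.diagonalSubgroup F := by
      rw [he]; exact mul_mem ht (G2.okx.gW_mem_diag_of_pos _ w rfl hw h)
    have hp8 : chevG2.IsPosRoot 8 := G2.okx.toOK.isPos_iff.mpr ⟨by decide +kernel, (htf_pos (by decide +kernel)).mpr (by norm_num)⟩
    have hn3 : chevG2.IsNegRoot 3 := by
      refine G2.okx.toOK.isNeg_iff.mpr ⟨by decide +kernel, ?_⟩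
      have := G2.okx.toOK.ht_ne (show 3 < chevG2.nroots by decide +kernel)
      have := (htf_pos (show 3 < chevG2.nroots by decide +kernel)).not.mpr (by norm_num)
      omega
    have h1 := (Subgroup.mem_normalizer_iff.mp (G2.okx.toOK.diag_normalizes_pos hn0B) _).mp
      (G2.okx.toOK.xG_mem_pos hp8 (1 : F))
    have h2 : ((S.n₀ * X 8 (1 : F) * S.n₀⁻¹ : ↥(chevG2.group F)) : GL chevG2.Idx F) =
        G2.okx.toOK.xG 3 (-1) := by rw [S.n₀_conj]; rfl
    simp only [Subgroup.coe_mul, Subgroup.coe_inv, coe_X] at h2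
    rw [h2] at h1
    have h3 : G2.okx.toOK.xG 3 (-1 : F) ∈ chevG2.borelSubgroup F ⊓ chevG2.negUnipotent F :=
      Subgroup.mem_inf.mpr ⟨Subgroup.mem_sup_left h1, G2.okx.toOK.xG_mem_neg hn3 _⟩
    rw [G2.okx.toOK.borel_inf_neg, Subgroup.mem_bot] at h3
    exact one_ne_zero (neg_eq_zero.mp ((G2.okx.toOK.x_eq_one hn3.1 (-1 : F)).mp ((G2.okx.toOK.coe_xG 3 (-1 : F)).symm.trans ((congrArg Units.val h3).trans Units.val_one))))
  · exact h

theorem um_n₀ [CharP F 3] : Subgroup.closure {x : GL chevG2.Idx F | ∃ (r : ℕ) (t : F), chevG2.IsPosRoot r ∧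
    (chevG2.rootSubgroup F r).map (MulAut.conj ((S.n₀ : ↥(chevG2.group F)) : GL chevG2.Idx F)).toMonoidHom ≤
      chevG2.negUnipotent F ∧ (x : Matrix chevG2.Idx chevG2.Idx F) = chevG2.x F r t} = chevG2.posUnipotent F := by
  obtain ⟨w, hw, hA, hneg, -⟩ := S.exists_act_n₀
  refine le_antisymm ((Subgroup.closure_le _).mpr fun x ⟨r, t, hr, _, hx⟩ =>
    Subgroup.subset_closure ⟨r, t, hr, hx⟩) ((Subgroup.closure_le _).mpr fun x ⟨r, t, hr, hx⟩ => ?_)
  obtain ⟨h1, h2⟩ := G2.okx.toOK.isPos_iff.mp hr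
  exact Subgroup.subset_closure ⟨r, t, hr, (G2.okx.conj_root_le_neg_iff hA h1).mpr (hneg r h1 h2), hx⟩

theorem fixed_borel [CharP F 3] [Finite F] {g : ↥(chevG2.group F)}
    (hg : (g : GL chevG2.Idx F) ∈ chevG2.borelSubgroup F) (h : S.sg g = g) :
    ∃ (t x y : F) (v : Fˣ), g = S.Rw true t x y * S.Ht v := by
  obtain ⟨u, hu, d, hd, e⟩ := G2.okx.toOK.mem_borel hg
  set ug : ↥(chevG2.group F) := ⟨u, G2.okx.toOK.pos_le_group hu⟩
  set dg : ↥(chevG2.group F) := ⟨d, G2.okx.toOK.diag_le_group hd⟩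
  have hsplit : g = ug * dg := Subtype.ext e
  rw [hsplit, map_mul] at h
  have h1 : ug⁻¹ * S.sg ug = dg * (S.sg dg)⁻¹ := by
    rw [eq_mul_inv_iff_mul_eq, mul_assoc, h, inv_mul_cancel_left]
  have h2 : ((ug⁻¹ * S.sg ug : ↥(chevG2.group F)) : GL chevG2.Idx F) ∈
      chevG2.posUnipotent F ⊓ chevG2.diagonalSubgroup F := by
    refine Subgroup.mem_inf.mpr ⟨mul_mem (inv_mem hu) (S.sg_pos (g := ug) hu), ?_⟩
    rw [h1]; exact mul_mem hd (inv_mem (S.sg_diag (g := dg) hd))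
  rw [G2.okx.toOK.pos_inf_diag, Subgroup.mem_bot] at h2
  have h3 : ug⁻¹ * S.sg ug = 1 := Subtype.ext h2
  have hu' : S.sg ug = ug := (inv_mul_eq_one.mp h3).symm
  rw [hu'] at h
  obtain ⟨v, hv⟩ := S.fixed_diag hd (mul_left_cancel h)
  obtain ⟨t, x, y, hu''⟩ := S.fixed_pos hu hu'
  exact ⟨t, x, y, v, by rw [hsplit, hv, hu'']⟩

theorem fixed_cases [CharP F 3] [Finite F] {g : ↥(chevG2.group F)} (h : S.sg g = g) :
    (∃ (t x y : F) (v : Fˣ), g = S.Rw true t x y * S.Ht v) ∨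
      ∃ (t x y : F) (v : Fˣ) (t' x' y' : F), g = S.Rw true t x y * S.Ht v * S.n₀ * S.Rw true t' x' y' := by
  obtain ⟨b, hb, n, hn, u, hu, e⟩ := G2.okx.bruhat_exists g.2
  obtain ⟨t₀, ht₀, w, hw, rfl⟩ := G2.okx.toOK.mem_monomial.mp hn
  set W := G2.okx.toOK.gW F w with hW
  have hWm : W ∈ chevG2.monomialSubgroup F := G2.okx.toOK.mem_monomial.mpr ⟨1, one_mem _, w, hw, (one_mul _).symm⟩
  have hAn : G2.okx.toOK.Act (t₀ * W) (piW G2.T w) :=
    ((G2.okx.toOK.act_diag ht₀).mul G2.okx.toOK (G2.okx.toOK.act_gW w hw) :)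
  set Wg : ↥(chevG2.group F) := ⟨W, G2.okx.toOK.monomial_le_group hWm⟩
  set bg : ↥(chevG2.group F) := ⟨b * t₀, mul_mem (G2.okx.toOK.borel_le_group hb) (G2.okx.toOK.diag_le_group ht₀)⟩
  have hbg : (bg : GL chevG2.Idx F) ∈ chevG2.borelSubgroup F := mul_mem hb (Subgroup.mem_sup_right ht₀)
  have huP : u ∈ chevG2.posUnipotent F := by
    refine (Subgroup.closure_le (chevG2.posUnipotent F)).mpr ?_ hu
    rintro x ⟨r, t, hr, -, hx⟩
    exact Subgroup.subset_closure ⟨r, t, hr, hx⟩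
  set ug : ↥(chevG2.group F) := ⟨u, G2.okx.toOK.pos_le_group huP⟩
  have hsplit : g = bg * Wg * ug := Subtype.ext (e.trans (by simp [bg, Wg, ug, mul_assoc]))
  have hcomm : ∀ r < chevG2.nroots, piW G2.T w (G2.xtab.pi r) = G2.xtab.pi (piW G2.T w r) := by
    -- the image of the monomial part lies in the same double coset
    have hsW : ((S.sg Wg : ↥(chevG2.group F)) : GL chevG2.Idx F) ∈ chevG2.monomialSubgroup F := by
      suffices hN : ∀ (v : List ℕ), (∀ i ∈ v, i < chevG2.rank) → ∀ Vg : ↥(chevG2.group F),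
          (Vg : GL chevG2.Idx F) = G2.okx.toOK.gW F v →
          ((S.sg Vg : ↥(chevG2.group F)) : GL chevG2.Idx F) ∈ chevG2.monomialSubgroup F from hN w hw Wg rfl
      intro v hv
      induction v with
      | nil => intro Vg hV; rw [show Vg = 1 from Subtype.ext hV, map_one]; exact one_mem _
      | cons i v ih =>
        intro Vg hV
        have hi := hv i List.mem_cons_self
        have hv' : ∀ k ∈ v, k < chevG2.rank := fun k hk => hv k (List.mem_cons_of_mem _ hk)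
        have hs := G2.okx.toOK.smp_lt hi
        have e2 : Vg = N (G2.T.smp i) 1 * ⟨G2.okx.toOK.gW F v, G2.okx.toOK.monomial_le_group
            (G2.okx.toOK.mem_monomial.mpr ⟨1, one_mem _, v, hv', (one_mul _).symm⟩)⟩ :=
          Subtype.ext (hV.trans (G2.okx.toOK.gW_cons i v))
        rw [e2, map_mul, S.sg_N hs, map_one, one_pow, Subgroup.coe_mul]
        exact mul_mem (G2.okx.toOK.nG_mem_monomial (nroots_eq.symm ▸ (pi_pos ⟨_, nroots_eq ▸ hs⟩).2)) (ih hv' _ rfl)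
    have heq : ((bg : GL chevG2.Idx F)) * W * u =
        ((S.sg bg : ↥(chevG2.group F)) : GL chevG2.Idx F) * ((S.sg Wg : ↥(chevG2.group F)) : GL chevG2.Idx F) *
          ((S.sg ug : ↥(chevG2.group F)) : GL chevG2.Idx F) := by
      have h' := h
      rw [hsplit, map_mul, map_mul] at h'
      exact (congrArg Subtype.val h').symm
    obtain ⟨b', hb', n', hn', u', hu', e'⟩ :=
      G2.okx.bruhat_exists (G2.okx.toOK.monomial_le_group hsW)
    set P := G2.okx.bnPair (F := F)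
    have h1 : Cfsg.Agent.BN.InDC P Wg (S.sg Wg) := by
      refine Cfsg.Agent.BN.inDC_iff.mpr ⟨bg⁻¹ * S.sg bg, mul_mem (inv_mem hbg) (S.sg_borel hbg),
        S.sg ug * ug⁻¹, mul_mem (Subgroup.mem_sup_left (S.sg_pos huP)) (inv_mem (Subgroup.mem_sup_left huP)),
        Subtype.ext ?_⟩
      simp only [Subgroup.coe_mul, Subgroup.coe_inv]
      calc W = (bg : GL chevG2.Idx F)⁻¹ * ((bg : GL chevG2.Idx F) * W * u) * u⁻¹ := by simp [mul_assoc]
        _ = _ := by rw [heq]; simp [mul_assoc, ug]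
    have h2 := Cfsg.Agent.BN.eqv_of_inDC (P := P) (n := Wg) (n' := S.sg Wg) hWm hsW h1
    have h3 : W⁻¹ * ((S.sg Wg : ↥(chevG2.group F)) : GL chevG2.Idx F) ∈ chevG2.diagonalSubgroup F := by
      rw [← G2.okx.toOK.borel_inf_monomial]
      exact Subgroup.mem_inf.mpr ⟨h2.1, mul_mem (inv_mem hWm) hsW⟩
    exact S.commutes_pi hw ⟨⟨_, G2.okx.toOK.diag_le_group h3⟩, h3, by simp [W, Wg]⟩
  rcases word_cases hw hcomm with hp | hn
  · refine Or.inl (S.fixed_borel ?_ h)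
    rw [e]
    exact mul_mem (mul_mem hb (Subgroup.mem_sup_right (mul_mem ht₀ (G2.okx.gW_mem_diag_of_pos _ w rfl hw hp))))
      (Subgroup.mem_sup_left huP)
  · right
    obtain ⟨w', hw', hA', hneg', hmon'⟩ := S.exists_act_n₀
    set n0G := ((S.n₀ : ↥(chevG2.group F)) : GL chevG2.Idx F) with hn0G
    have hd : W * n0G⁻¹ ∈ chevG2.diagonalSubgroup F := by
      obtain ⟨t', ht', v, hv, hev⟩ := G2.okx.toOK.mem_monomial.mp (mul_mem hWm (inv_mem hmon'))
      have hAv : G2.okx.toOK.Act (t' * G2.okx.toOK.gW F v * n0G) (piW G2.T v ∘ piW G2.T w') :=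
        ((G2.okx.toOK.act_diag ht').mul G2.okx.toOK (G2.okx.toOK.act_gW v hv)).mul G2.okx.toOK hA'
      rw [← hev, inv_mul_cancel_right] at hAv
      rw [hev]
      refine mul_mem ht' (G2.okx.gW_mem_diag_of_pos _ v rfl hv fun r hr h0 => ?_)
      have hback : ∃ s < chevG2.nroots, 0 < G2.T.htf s ∧ piW G2.T w' s = G2.T.neg r := by
        have hinj : ∀ a, a < chevG2.nroots → ∀ b, b < chevG2.nroots → piW G2.T w' a = piW G2.T w' b → a = b := by
          intro a ha b hb hab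
          obtain ⟨ca, hca, hca'⟩ := hA'.2.1 a ha
          obtain ⟨cb, hcb, hcb'⟩ := hA'.2.1 b hb
          have e1 := (hca' (ca⁻¹ * 1)).1
          have e2 := (hcb' (cb⁻¹ * 1)).1
          rw [mul_inv_cancel_left₀ hca] at e1
          rw [mul_inv_cancel_left₀ hcb, ← hab, ← e1] at e2
          exact G2.okx.toOK.xG_eq_iff ha hb (mul_ne_zero (inv_ne_zero hca) one_ne_zero)
            (mul_left_cancel (mul_right_cancel e2)).symm
        have hmap : Set.MapsTo (piW G2.T w') ↑((Finset.range chevG2.nroots).filter fun s => 0 < G2.T.htf s)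
            ↑((Finset.range chevG2.nroots).filter fun s => G2.T.htf s < 0) := by
          intro s hs
          simp only [Finset.coe_filter, Finset.mem_range, Set.mem_setOf_eq] at hs ⊢
          exact ⟨G2.okx.piW_lt hw' hs.1, hneg' s hs.1 hs.2⟩
        have hcard : ((Finset.range chevG2.nroots).filter fun s => G2.T.htf s < 0).card ≤
            ((Finset.range chevG2.nroots).filter fun s => 0 < G2.T.htf s).card := by
          refine Finset.card_le_card_of_injOn G2.T.neg ?_ ?_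
          · intro s hs
            simp only [Finset.coe_filter, Finset.mem_range, Set.mem_setOf_eq] at hs ⊢
            exact ⟨G2.okx.toOK.neg_lt hs.1, by rw [G2.okx.toOK.ht_neg hs.1]; omega⟩
          · intro a ha b hb hab
            simp only [Finset.coe_filter, Finset.mem_range, Set.mem_setOf_eq] at ha hb
            rw [← G2.okx.toOK.neg_neg' ha.1, hab, G2.okx.toOK.neg_neg' hb.1]
        have hsurj := Finset.surj_on_of_inj_on_of_card_le (fun s _ => piW G2.T w' s)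
          (fun s hs => hmap hs) (fun a b ha hb => hinj a (Finset.mem_range.mp (Finset.mem_filter.mp ha).1) b
            (Finset.mem_range.mp (Finset.mem_filter.mp hb).1)) hcard (G2.T.neg r)
          (Finset.mem_filter.mpr ⟨Finset.mem_range.mpr (G2.okx.toOK.neg_lt hr),
            by rw [G2.okx.toOK.ht_neg hr]; omega⟩)
        obtain ⟨s, hs, hse⟩ := hsurj
        exact ⟨s, Finset.mem_range.mp (Finset.mem_filter.mp hs).1, (Finset.mem_filter.mp hs).2, hse.symm⟩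
      obtain ⟨s, hs, hs0, hse⟩ := hback
      have e3 := G2.okx.toOK.act_unique (G2.okx.toOK.act_gW (F := F) w hw) hAv hs
      rw [Function.comp_apply, hse, G2.okx.piW_neg hv hr] at e3
      have e4 := hn s hs hs0
      rw [e3, G2.okx.toOK.ht_neg (G2.okx.piW_lt hv hr)] at e4
      omega
    set b' : ↥(chevG2.group F) := bg * (Wg * S.n₀⁻¹)
    have hb'B : (b' : GL chevG2.Idx F) ∈ chevG2.borelSubgroup F :=
      mul_mem hbg (Subgroup.mem_sup_right hd)
    have hsplit' : g = b' * S.n₀ * ug := by rw [hsplit]; simp [b', mul_assoc]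
    have hfx : S.sg S.n₀ = S.n₀ := S.G1_le_Fx S.n₀_mem
    have h' := h
    rw [hsplit', map_mul, map_mul, hfx] at h'
    have heq := congrArg Subtype.val h'
    simp only [Subgroup.coe_mul] at heq
    obtain ⟨hbb, huu⟩ := (G2.okx.bruhat_unique (S.sg_borel hb'B) hb'B hmon' hmon'
      (by rw [S.um_n₀]; exact S.sg_pos (g := ug) huP) (by rw [S.um_n₀]; exact huP) heq).2 rfl
    obtain ⟨t, x, y, v, e1⟩ := S.fixed_borel hb'B (Subtype.ext hbb)
    obtain ⟨t', x', y', e2⟩ := S.fixed_pos huP (Subtype.ext huu : S.sg ug = ug)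
    exact ⟨t, x, y, v, t', x', y', by rw [hsplit', e1, e2]⟩

theorem Fx_eq [CharP F 3] [Fintype F] {m : ℕ} (hK : Fintype.card F = 3 ^ (2 * m + 1)) : S.Fx = S.G1 := by
  refine le_antisymm (fun g hg => ?_) S.G1_le_Fx
  rcases S.fixed_cases hg with ⟨t, x, y, v, rfl⟩ | ⟨t, x, y, v, t', x', y', rfl⟩
  · exact mul_mem (S.Rw_mem _ _ _ _) (S.Ht_mem hK v)
  · exact mul_mem (mul_mem (mul_mem (S.Rw_mem _ _ _ _) (S.Ht_mem hK v)) S.n₀_mem) (S.Rw_mem _ _ _ _)

end Tw

end Cfsg.Agent.SmallRee
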