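import Cfsg.Agent.Lib.SmallRee.Embed
import Mathlib.GroupTheory.SpecificGroups.Cyclic
import Mathlib.GroupTheory.OrderOfElement

/-!
The four maximal tori of the small Ree groups: centralisers of elements of prime order at least five.
-/

set_option autoImplicit false
set_option maxRecDepth 20000

namespace Cfsg.Agent.SmallRee

open Cfsg.Lie Cfsg.Agent.Chev

section Pairs

variable {A : Type*} [CommGroup A]

/-- Pairs satisfying two multiplicative equations. -/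
def KK (a b c d : ℤ) : Subgroup (A × A) where
  carrier := {v | v.1 ^ a * v.2 ^ b = 1 ∧ v.1 ^ c * v.2 ^ d = 1}
  one_mem' := by simp
  mul_mem' := by
    rintro v w ⟨h1, h2⟩ ⟨h3, h4⟩
    simp only [Set.mem_ofPred_eq, Prod.fst_mul, Prod.snd_mul, mul_zpow]
    exact ⟨by rw [mul_mul_mul_comm, h1, h3, mul_one], by rw [mul_mul_mul_comm, h2, h4, mul_one]⟩
  inv_mem' := by
    rintro v ⟨h1, h2⟩
    simp only [Set.mem_ofPred_eq, Prod.fst_inv, Prod.snd_inv, inv_zpow]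
    exact ⟨by rw [← mul_inv, h1, inv_one], by rw [← mul_inv, h2, inv_one]⟩

theorem mem_KK {a b c d : ℤ} {v : A × A} :
    v ∈ KK a b c d ↔ v.1 ^ a * v.2 ^ b = 1 ∧ v.1 ^ c * v.2 ^ d = 1 := Iff.rfl

theorem mem_powKer {x : A} {n : ℕ} : x ∈ (powMonoidHom n : A →* A).ker ↔ x ^ n = 1 := Iff.rfl

theorem pow_natAbs_iff {x : A} {z : ℤ} : x ^ z.natAbs = 1 ↔ x ^ z = 1 := by
  rw [← orderOf_dvd_iff_pow_eq_one, ← orderOf_dvd_iff_zpow_eq_one, Int.natCast_dvd]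

theorem KK_neg (a b c d : ℤ) : (KK (-a) (-b) (-c) (-d) : Subgroup (A × A)) = KK a b c d := by
  ext v
  simp only [mem_KK, zpow_neg, ← mul_inv, inv_eq_one]

/-- One unit coefficient eliminates a coordinate. -/
noncomputable def KKunit {a b c d : ℤ} (ha : a * a = 1) :
    ↥(KK a b c d : Subgroup (A × A)) ≃* ↥((powMonoidHom (a * d - b * c).natAbs : A →* A).ker) where
  toFun v := ⟨v.1.2, by
    obtain ⟨h1, h2⟩ := mem_KK.mp v.2
    have e : v.1.1 = v.1.2 ^ (-(a * b)) := by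
      have := congrArg (· ^ a) (mul_eq_one_iff_eq_inv.mp h1)
      simp only [← zpow_mul, ha, zpow_one, inv_zpow', neg_mul] at this
      rw [this]; congr 1; ring
    rw [e, ← zpow_mul, ← zpow_add] at h2
    rw [mem_powKer, pow_natAbs_iff,
      show a * d - b * c = (-(a * b) * c + d) * a by linear_combination (b * c) * ha, zpow_mul, h2, one_zpow]⟩
  invFun y := ⟨(y.1 ^ (-(a * b)), y.1), by
    have h := pow_natAbs_iff.mp (mem_powKer.mp y.2)
    refine mem_KK.mpr ⟨?_, ?_⟩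
    · rw [← zpow_mul, ← zpow_add, show -(a * b) * a + b = 0 by linear_combination -b * ha, zpow_zero]
    · rw [← zpow_mul, ← zpow_add, show -(a * b) * c + d = (a * d - b * c) * a by linear_combination -d * ha,
        zpow_mul, h, one_zpow]⟩
  left_inv v := by
    obtain ⟨h1, -⟩ := mem_KK.mp v.2
    refine Subtype.ext (Prod.ext ?_ rfl)
    show v.1.2 ^ (-(a * b)) = v.1.1
    have := congrArg (· ^ a) (mul_eq_one_iff_eq_inv.mp h1)
    simp only [← zpow_mul, ha, zpow_one, inv_zpow', neg_mul] at this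
    rw [this]; congr 1; ring
  right_inv _ := rfl
  map_mul' _ _ := rfl

/-- Exchange of the coordinates. -/
def KKswap (a b c d : ℤ) : ↥(KK a b c d : Subgroup (A × A)) ≃* ↥(KK d c b a : Subgroup (A × A)) where
  toFun v := ⟨v.1.swap, mem_KK.mpr ⟨by rw [mul_comm]; exact v.2.2, by rw [mul_comm]; exact v.2.1⟩⟩
  invFun v := ⟨v.1.swap, mem_KK.mpr ⟨by rw [mul_comm]; exact v.2.2, by rw [mul_comm]; exact v.2.1⟩⟩
  left_inv _ := rfl
  right_inv _ := rfl
  map_mul' _ _ := rfl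

/-- The case of even coefficients. -/
def KKeven (s t : ℤ) : ↥(KK 2 (2 * s) (2 * t) (-2) : Subgroup (A × A)) ≃*
    ↥((powMonoidHom (2 * (1 + s * t)).natAbs : A →* A).ker) × ↥((powMonoidHom 2 : A →* A).ker) where
  toFun v := (⟨v.1.1, by
    obtain ⟨h1, h2⟩ := mem_KK.mp v.2
    have e : v.1.2 ^ (2 : ℤ) = v.1.1 ^ (2 * t) := by
      rw [zpow_neg] at h2
      exact (mul_inv_eq_one.mp h2).symm
    rw [zpow_mul, e, ← zpow_mul, ← zpow_add] at h1
    rw [mem_powKer, pow_natAbs_iff, show 2 * (1 + s * t) = 2 + 2 * t * s by ring, h1]⟩,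
    ⟨v.1.1 ^ t * (v.1.2)⁻¹, by
      obtain ⟨-, h2⟩ := mem_KK.mp v.2
      rw [mem_powKer, mul_pow, inv_pow, ← zpow_natCast, ← zpow_natCast, ← zpow_mul, mul_comm t]
      rw [zpow_neg] at h2
      exact_mod_cast h2⟩)
  invFun p := ⟨(p.1.1, p.1.1 ^ t * (p.2.1)⁻¹), by
    have h := pow_natAbs_iff.mp (mem_powKer.mp p.1.2)
    have hw : p.2.1 ^ (2 : ℤ) = 1 := by exact_mod_cast mem_powKer.mp p.2.2
    refine mem_KK.mpr ⟨?_, ?_⟩
    · rw [mul_zpow, ← zpow_mul, ← mul_assoc, ← zpow_add, inv_zpow, zpow_mul (p.2.1 : A), hw, one_zpow, inv_one,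
        mul_one, show (2 : ℤ) + t * (2 * s) = 2 * (1 + s * t) by ring, h]
    · rw [mul_zpow, ← zpow_mul, ← mul_assoc, ← zpow_add, show 2 * t + t * -2 = 0 by ring, zpow_zero, one_mul,
        inv_zpow, zpow_neg, hw, inv_one, inv_one]⟩
  left_inv v := by
    refine Subtype.ext (Prod.ext rfl ?_)
    show v.1.1 ^ t * (v.1.1 ^ t * (v.1.2)⁻¹)⁻¹ = v.1.2
    rw [mul_inv, inv_inv, mul_inv_cancel_left]
  right_inv p := by
    refine Prod.ext rfl (Subtype.ext ?_)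
    show p.1.1 ^ t * (p.1.1 ^ t * (p.2.1)⁻¹)⁻¹ = p.2.1
    rw [mul_inv, inv_inv, mul_inv_cancel_left]
  map_mul' v w := by
    refine Prod.ext rfl (Subtype.ext ?_)
    show (v.1.1 * w.1.1) ^ t * (v.1.2 * w.1.2)⁻¹ = v.1.1 ^ t * (v.1.2)⁻¹ * (w.1.1 ^ t * (w.1.2)⁻¹)
    rw [mul_zpow, mul_inv, mul_mul_mul_comm]

theorem card_powKer [IsCyclic A] [Finite A] {n : ℕ} (h : n ∣ Nat.card A) :
    Nat.card ↥((powMonoidHom n : A →* A).ker) = n := by
  rw [IsCyclic.card_powMonoidHom_ker, Nat.gcd_eq_right h]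

end Pairs

/-- The shape of a maximal torus. -/
def IsTorusGp (q r : ℕ) (G : Type*) [Group G] : Prop :=
  IsMulCommutative G ∧ (((Nat.card G = q - 1 ∨ Nat.card G = q - r + 1 ∨ Nat.card G = q + r + 1) ∧ IsCyclic G) ∨
    (Nat.card G = q + 1 ∧ (∀ x : G, x ^ ((q + 1) / 2) = 1) ∧ ∃ a : G, orderOf a = (q + 1) / 2))

theorem IsTorusGp.congr {q r : ℕ} {G H : Type*} [Group G] [Group H] (h : IsTorusGp q r G) (f : G ≃* H) :
    IsTorusGp q r H := by
  obtain ⟨⟨⟨hc⟩⟩, h⟩ := h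
  refine ⟨⟨⟨fun a b => f.symm.injective (by rw [map_mul, map_mul, hc])⟩⟩, ?_⟩
  rw [← Nat.card_congr f.toEquiv]
  rcases h with ⟨h1, h2⟩ | ⟨h1, h2, a, ha⟩
  · exact Or.inl ⟨h1, isCyclic_of_surjective f.toMonoidHom f.surjective⟩
  · refine Or.inr ⟨h1, fun x => f.symm.injective (by rw [map_pow, h2, map_one]), f a, ?_⟩
    rw [← ha]
    exact orderOf_injective f.toMonoidHom f.injective a

theorem pair_cert : ∀ P ∈ Wl, ((((cr P.1).1 ∈ [(1 : ℤ), -1]) ∨ (cr P.2).2 ∈ [(1 : ℤ), -1]) ∧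
    ((cr P.1).1 * (cr P.2).2 - (cr P.2).1 * (cr P.1).2, 3 * (cr P.1).2 + (cr P.2).1) ∈
      [((1 : ℤ), (0 : ℤ)), (-1, 3), (-1, -3)]) ∨ P = (2, 11) ∨ P = (9, 0) := by
  decide +kernel

theorem unit_sq {a : ℤ} (h : a ∈ [(1 : ℤ), -1]) : a * a = 1 := by
  fin_cases h <;> norm_num

section Sol

variable {E : Type*} [Field E]

/-- The fixed points of a twisted Frobenius on the split torus. -/
def Sol (P : ℕ × ℕ) (e : ℕ) : Subgroup (Eˣ × Eˣ) :=
  KK (cr P.1).1 ((cr P.1).2 - e) ((cr P.2).1 - 3 * e) (cr P.2).2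

theorem mem_Sol {P : ℕ × ℕ} {e : ℕ} {v : Eˣ × Eˣ} :
    v ∈ Sol P e ↔ val P.1 v = v.2 ^ e ∧ val P.2 v = v.1 ^ (3 * e) := by
  simp only [Sol, mem_KK, val]
  rw [zpow_sub, zpow_sub, ← mul_assoc, mul_inv_eq_one, zpow_natCast, mul_right_comm, mul_inv_eq_one,
    show ((3 : ℤ) * e) = ((3 * e : ℕ) : ℤ) by push_cast; rfl, zpow_natCast]

theorem sol_struct [Finite E] {P : ℕ × ℕ} (hP : P ∈ Wl) {e j : ℕ} (he : e = 2 * j + 1)
    (hN : Nat.card E = (3 * e ^ 2) ^ 6) : IsTorusGp (3 * e ^ 2) (3 * e) ↥(Sol P e : Subgroup (Eˣ × Eˣ)) := by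
  haveI : IsCyclic Eˣ := inferInstance
  refine ⟨⟨⟨fun a b => mul_comm a b⟩⟩, ?_⟩
  have hq : 1 ≤ 3 * e ^ 2 := by nlinarith
  have hcard : Nat.card Eˣ = (3 * e ^ 2) ^ 6 - 1 := by rw [Nat.card_units, hN]
  have hdvd : ∀ (z w : ℤ), z * w = (3 * (e : ℤ) ^ 2) ^ 6 - 1 → z.natAbs ∣ Nat.card Eˣ := by
    intro z w h
    rw [hcard, ← Int.natCast_dvd_natCast, Int.natAbs_dvd, Nat.cast_sub (Nat.one_le_pow _ _ hq)]
    exact ⟨w, by push_cast; rw [h]⟩
  have hee : e ≤ e ^ 2 := Nat.le_self_pow two_ne_zero e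
  rcases pair_cert P hP with ⟨hu, hdk⟩ | hP2
  · left
    set a₁ := (cr P.1).1
    set b₁ := (cr P.1).2
    set a₂ := (cr P.2).1
    set b₂ := (cr P.2).2
    set Δ := a₁ * b₂ - (b₁ - e) * (a₂ - 3 * e) with hΔ
    have hΔ' : Δ = (a₁ * b₂ - a₂ * b₁) + (3 * b₁ + a₂) * e - 3 * (e : ℤ) ^ 2 := by rw [hΔ]; ring
    obtain ⟨hd, hD⟩ : Δ.natAbs ∣ Nat.card Eˣ ∧
        (Δ.natAbs = 3 * e ^ 2 - 1 ∨ Δ.natAbs = 3 * e ^ 2 - 3 * e + 1 ∨ Δ.natAbs = 3 * e ^ 2 + 3 * e + 1) := by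
      simp only [List.mem_cons, List.not_mem_nil, or_false, Prod.mk.injEq] at hdk
      have hc : ((e ^ 2 : ℕ) : ℤ) = (e : ℤ) ^ 2 := by push_cast; rfl
      rcases hdk with ⟨h1, h2⟩ | ⟨h1, h2⟩ | ⟨h1, h2⟩ <;> rw [h1, h2] at hΔ'
      · exact ⟨hdvd _ (-(((3 * (e : ℤ) ^ 2) ^ 3 + 1) * ((3 * (e : ℤ) ^ 2) ^ 2 + 3 * (e : ℤ) ^ 2 + 1)))
          (by rw [hΔ']; ring), Or.inl (by omega)⟩
      · exact ⟨hdvd _ (-(((3 * (e : ℤ) ^ 2) ^ 3 - 1) * (3 * (e : ℤ) ^ 2 + 1) * (3 * (e : ℤ) ^ 2 + 3 * e + 1)))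
          (by rw [hΔ']; ring), Or.inr (Or.inl (by omega))⟩
      · exact ⟨hdvd _ (-(((3 * (e : ℤ) ^ 2) ^ 3 - 1) * (3 * (e : ℤ) ^ 2 + 1) * (3 * (e : ℤ) ^ 2 - 3 * e + 1)))
          (by rw [hΔ']; ring), Or.inr (Or.inr (by omega))⟩
    obtain ⟨f⟩ : Nonempty (↥(Sol P e : Subgroup (Eˣ × Eˣ)) ≃* ↥((powMonoidHom Δ.natAbs : Eˣ →* Eˣ).ker)) := by
      rcases hu with hu | hu
      · exact ⟨KKunit (unit_sq hu)⟩
      · have h : Δ = b₂ * a₁ - (a₂ - 3 * e) * (b₁ - e) := by rw [hΔ]; ring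
        rw [h]
        exact ⟨(KKswap _ _ _ _).trans (KKunit (unit_sq hu))⟩
    rw [Nat.card_congr f.toEquiv, card_powKer hd]
    exact ⟨hD, isCyclic_of_surjective f.symm.toMonoidHom f.symm.surjective⟩
  · right
    obtain ⟨s, t, hSol, hst⟩ : ∃ s t : ℤ, (Sol P e : Subgroup (Eˣ × Eˣ)) = KK 2 (2 * s) (2 * t) (-2) ∧
        1 + s * t = 3 * (j : ℤ) * (j + 1) + 1 := by
      have h1 : cr 2 = (-2, -1) ∧ cr 11 = (3, 2) ∧ cr 9 = (2, 1) ∧ cr 0 = (-3, -2) := by decide +kernel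
      rcases hP2 with rfl | rfl
      · refine ⟨(j : ℤ) + 1, 3 * j, ?_, by ring⟩
        rw [← KK_neg, Sol, h1.1, h1.2.1, he]
        congr 1 <;> push_cast <;> ring
      · refine ⟨-(j : ℤ), -3 * (j + 1), ?_, by ring⟩
        rw [Sol, h1.2.2.1, h1.2.2.2, he]
        congr 1 <;> push_cast <;> ring
    rw [hSol]
    let k : ℕ := 3 * j * (j + 1) + 1
    have h4 : 3 * e ^ 2 + 1 = 4 * k := by simp only [k]; rw [he]; ring
    have hkk : (2 * (1 + s * t)).natAbs = 2 * k := by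
      rw [hst, show (2 * (3 * (j : ℤ) * (j + 1) + 1)) = ((2 * k : ℕ) : ℤ) by simp only [k]; push_cast; rfl,
        Int.natAbs_natCast]
    have hd4 : 4 * k ∣ Nat.card Eˣ := by
      have := hdvd ((3 * e ^ 2 + 1 : ℕ) : ℤ) (((3 * (e : ℤ) ^ 2) ^ 2 - 3 * (e : ℤ) ^ 2 + 1) * ((3 * (e : ℤ) ^ 2) ^ 3 - 1))
        (by push_cast; ring)
      rwa [Int.natAbs_natCast, h4] at this
    have hd2 : 2 * k ∣ Nat.card Eˣ := (Dvd.intro 2 (by ring)).trans hd4
    have hd22 : 2 ∣ Nat.card Eˣ := (dvd_mul_right 2 k).trans hd2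
    have hf := KKeven (A := Eˣ) s t
    rw [hkk] at hf
    have hexp : (3 * e ^ 2 + 1) / 2 = 2 * k := by omega
    refine ⟨?_, fun x => hf.injective ?_, ?_⟩
    · rw [Nat.card_congr hf.toEquiv, Nat.card_prod, card_powKer hd2, card_powKer hd22]; omega
    · rw [map_pow, map_one, hexp]
      refine Prod.ext (Subtype.ext ?_) (Subtype.ext ?_)
      · exact mem_powKer.mp (hf x).1.2
      · show ((hf x).2 : Eˣ) ^ (2 * k) = 1
        rw [pow_mul, mem_powKer.mp (hf x).2.2, one_pow]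
    · obtain ⟨a, ha⟩ := IsCyclic.exists_ofOrder_eq_natCard (α := ↥((powMonoidHom (2 * k) : Eˣ →* Eˣ).ker))
      refine ⟨hf.symm (a, 1), ?_⟩
      rw [MulEquiv.orderOf_eq, Prod.orderOf, orderOf_one, Nat.lcm_one_right, ha,
        card_powKer hd2, hexp]

end Sol

variable {F : Type*} [Field F] {E : Type*} [Field E]

theorem diag_of_act {g : GL chevG2.Idx E} (hg : g ∈ chevG2.monomialSubgroup E) {π : ℕ → ℕ}
    (hA : G2.okx.toOK.Act g π) (hπ : ∀ r < chevG2.nroots, π r = r) : g ∈ chevG2.diagonalSubgroup E := by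
  obtain ⟨t₀, ht₀, ω, hω, rfl⟩ := G2.okx.toOK.mem_monomial.mp hg
  have hA' : G2.okx.toOK.Act (t₀ * G2.okx.toOK.gW E ω) (piW G2.T ω) :=
    ((G2.okx.toOK.act_diag ht₀).mul G2.okx.toOK (G2.okx.toOK.act_gW ω hω) :)
  refine mul_mem ht₀ (G2.okx.gW_mem_diag_of_pos _ ω rfl hω fun r hr h0 => ?_)
  rwa [← G2.okx.toOK.act_unique hA hA' hr, hπ r hr]

theorem perm_fund : ∀ P ∈ Wl, perm P 7 = P.1 ∧ perm P 6 = P.2 ∧ (∃ r : Fin 12, perm P r.val = 7) ∧
    ∃ r : Fin 12, perm P r.val = 6 := by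
  decide +kernel

namespace Tw

variable (S : Tw F)

theorem Gr_le : S.Gr ≤ chevG2.group F := fun g hg => by
  obtain ⟨h, -, rfl⟩ := S.mem_Gr.mp hg
  exact h.2

/-- The inclusion into the Chevalley group. -/
def toG : ↥S.Gr →* ↥(chevG2.group F) := Subgroup.inclusion S.Gr_le

theorem toG_injective : Function.Injective S.toG := Subgroup.inclusion_injective _

theorem sg_toG (x : ↥S.Gr) : S.sg (S.toG x) = S.toG x :=
  S.mem_Gr'.mp (show ((S.toG x : ↥(chevG2.group F)) : GL chevG2.Idx F) ∈ S.Gr from x.2)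

variable [CharP F 3] [Fintype F]

theorem prime_facts {m : ℕ} (hK : Fintype.card F = 3 ^ (2 * m + 1)) {l : ℕ} (hl : l.Prime) (h5 : 5 ≤ l)
    (hd : l ∣ Nat.card ↥S.Gr) : 7 ≤ l ∧ l ∣ Fintype.card F ^ 6 - 1 := by
  rw [S.card_Gr] at hd
  have hq5 : Fintype.card F % 5 = 2 ∨ Fintype.card F % 5 = 3 := by
    rw [hK]
    clear hd hK
    induction m with
    | zero => right; rfl
    | succ m ih =>
      rw [show 2 * (m + 1) + 1 = 2 * m + 1 + 2 by ring, pow_add]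
      omega
  set q := Fintype.card F
  have hq1 : 1 ≤ q := Fintype.card_pos
  have hl5 : l ≠ 5 := by
    rintro rfl
    rcases (Nat.Prime.dvd_mul (by norm_num)).mp hd with h | h
    · rcases (Nat.Prime.dvd_mul (by norm_num)).mp h with h | h
      · have := (by norm_num : Nat.Prime 5).dvd_of_dvd_pow h
        omega
      · omega
    · have h3 : (q ^ 3 + 1) % 5 = (q % 5 * (q % 5) * (q % 5) + 1) % 5 := by
        simp [Nat.add_mod, Nat.pow_mod, Nat.mul_mod, pow_succ]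
      rcases hq5 with h' | h' <;> rw [h'] at h3 <;> omega
  refine ⟨?_, ?_⟩
  · by_contra hc
    interval_cases l <;> first | omega | norm_num at hl
  · have hlq : ¬ l ∣ q := fun h => by
      have h3 := (Nat.prime_dvd_prime_iff_eq hl Nat.prime_three).mp (hl.dvd_of_dvd_pow (hK ▸ h))
      omega
    rcases hl.dvd_mul.mp hd with h | h
    · rcases hl.dvd_mul.mp h with h | h
      · exact absurd (hl.dvd_of_dvd_pow h) hlq
      · exact h.trans (Nat.sub_one_dvd_pow_sub_one q 6)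
    · refine h.trans ⟨q ^ 3 - 1, ?_⟩
      have h1 : q ^ 6 - 1 = (q ^ 3) ^ 2 - 1 ^ 2 := by rw [← pow_mul, one_pow]
      rw [h1, Nat.sq_sub_sq]

theorem exists_torus {m : ℕ} (hK : Fintype.card F = 3 ^ (2 * m + 1)) (hth : ∀ x, S.th x = x ^ 3 ^ m) {y : ↥S.Gr}
    {l : ℕ} (hl : l.Prime) (h5 : 5 ≤ l) (hord : orderOf y = l) :
    IsTorusGp (Fintype.card F) (3 ^ (m + 1)) ↥(Subgroup.centralizer ({y} : Set ↥S.Gr)) := by
  classical
  obtain ⟨h7, hdvd⟩ := S.prime_facts hK hl h5 (hord ▸ orderOf_dvd_natCard y)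
  obtain ⟨E, iE, iC, ⟨B⟩⟩ := S.exists_big hK hth
  haveI := B.finE
  have hm : B.m = m := by
    have := Nat.pow_right_injective (le_refl 2 |>.trans (by norm_num : 2 ≤ 3)) (B.card_F.symm.trans hK)
    omega
  have hordG : orderOf (S.toG y) = l := by rw [orderOf_injective S.toG S.toG_injective, hord]
  obtain ⟨g, v, hreg, hvl, hgv, hn⟩ := B.exists_position (S.sg_toG y) hl h7 hdvd hordG
  set n := g⁻¹ * B.sE g with hndef
  have hreg' : Reg (B.tw v) := by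
    intro r hr h1
    obtain ⟨hπ, -, hππ, -⟩ := short_long ⟨r, nroots_eq ▸ hr⟩
    simp only at hπ hππ
    have hπ' : G2.xtab.pi r < chevG2.nroots := nroots_eq.symm ▸ hπ
    have e := congrArg B.sE (dg_conj v hπ' (1 : E))
    rw [map_mul, map_mul, map_inv, B.sE_X _ hπ', B.sE_X _ hπ', hππ, B.sE_dg, dg_conj _ hr, one_pow, one_pow,
      mul_one, mul_one] at e
    have e2 := xG_param hr e
    rw [h1, Units.val_one] at e2
    have h2 : val (G2.xtab.pi r) v ^ (3 ^ B.m * G2.xtab.e (G2.xtab.pi r)) = 1 :=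
      Units.ext (by rw [Units.val_pow_eq_pow_val, pow_mul, ← e2, Units.val_one])
    obtain ⟨-, hee, -, -⟩ := short_long ⟨G2.xtab.pi r, hπ⟩
    simp only at hee
    refine hreg _ hπ' (orderOf_eq_one_iff.mp (Nat.eq_one_of_dvd_coprimes (k := orderOf (val (G2.xtab.pi r) v)) ?_
      (orderOf_dvd_of_pow_eq_one (by rw [← val_pow, hvl, val_one] : val (G2.xtab.pi r) v ^ l = 1))
      (orderOf_dvd_of_pow_eq_one h2)))
    have h3 : Nat.Coprime l 3 := (Nat.coprime_primes hl Nat.prime_three).mpr (by omega)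
    rcases hee with h | h <;> rw [h]
    · exact Nat.Coprime.mul_right (h3.pow_right _) h3
    · rw [mul_one]; exact h3.pow_right _
  obtain ⟨hmon, P, hP, hA, hP1, hP2⟩ := mono_of_conj hreg hreg' hn
  obtain ⟨hp7, hp6, ⟨r7, hr7⟩, ⟨r6, hr6⟩⟩ := perm_fund P hP
  have h6 : 6 < chevG2.nroots := by decide +kernel
  have h7' : 7 < chevG2.nroots := by decide +kernel
  have hchar : ∀ w w' : Eˣ × Eˣ, n * dg (B.tw w) * n⁻¹ = dg w' →
      val P.1 w' = (B.tw w).1 ∧ val P.2 w' = (B.tw w).2 := by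
    intro w w' h
    refine ⟨?_, ?_⟩
    · rw [← hp7, act_val hA h h7', val_seven]
    · rw [← hp6, act_val hA h h6, val_six]
  have hrange : ∀ w ∈ (Sol P (3 ^ B.m) : Subgroup (Eˣ × Eˣ)), n * dg (B.tw w) * n⁻¹ = dg w := by
    intro w hw
    rw [mem_Sol] at hw
    obtain ⟨w', hw'⟩ := exists_dg (g := n * dg (B.tw w) * n⁻¹)
      (by push_cast; exact G2.okx.diag_normal_conj hmon (dg_mem _))
    rw [hw']
    have key : ∀ r : Fin 12, val (perm P r.val) w' = val (perm P r.val) w := fun r => by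
      rw [act_val hA hw' (nroots_eq.symm ▸ r.isLt), val_perm hP r.isLt, hw.1, hw.2]
      rfl
    have k7 := key r7
    have k6 := key r6
    rw [hr7, val_seven, val_seven] at k7
    rw [hr6, val_six, val_six] at k6
    exact congrArg dg (Prod.ext k7 k6)
  have hfixed : ∀ w : ↥(Sol P (3 ^ B.m) : Subgroup (Eˣ × Eˣ)), ∃ x : ↥S.Gr, B.inc (S.toG x) = g * dg w.1 * g⁻¹ := by
    intro w
    obtain ⟨x, hx, hx'⟩ := B.descend (h := g * dg w.1 * g⁻¹) (by
      rw [map_mul, map_mul, map_inv, B.sE_dg]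
      have := hrange w.1 w.2
      rw [hndef] at this
      conv_rhs => rw [← this]
      simp [mul_assoc])
    refine ⟨⟨(x : GL chevG2.Idx F), S.mem_Gr'.mpr hx⟩, ?_⟩
    rw [← hx']; rfl
  choose φ hφ using hfixed
  let ι : ↥S.Gr →* ↥(chevG2.group E) := B.inc.comp S.toG
  have hι : Function.Injective ι := B.inc_injective.comp S.toG_injective
  let Φ : ↥(Sol P (3 ^ B.m) : Subgroup (Eˣ × Eˣ)) →* ↥S.Gr := MonoidHom.mk' φ fun a b => hι (by
    rw [map_mul]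
    show B.inc (S.toG (φ (a * b))) = B.inc (S.toG (φ a)) * B.inc (S.toG (φ b))
    rw [hφ, hφ, hφ, Subgroup.coe_mul, map_mul]
    simp [mul_assoc])
  have hΦ : ∀ w, ι (Φ w) = g * dg w.1 * g⁻¹ := hφ
  have hinj : Function.Injective Φ := fun a b h => Subtype.ext (dg_injective (mul_left_cancel (mul_right_cancel
    (by rw [← hΦ, ← hΦ, h] : g * dg a.1 * g⁻¹ = g * dg b.1 * g⁻¹))))
  have hy' : ι y = g * dg v * g⁻¹ := hgv.symm
  have hrng : Φ.range = Subgroup.centralizer ({y} : Set ↥S.Gr) := by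
    ext x
    rw [Subgroup.mem_centralizer_singleton_iff]
    constructor
    · rintro ⟨w, rfl⟩
      refine hι ?_
      rw [map_mul, map_mul, hΦ, hy']
      have : dg w.1 * dg v = dg v * dg w.1 := by rw [← map_mul, ← map_mul, mul_comm]
      calc g * dg w.1 * g⁻¹ * (g * dg v * g⁻¹) = g * (dg w.1 * dg v) * g⁻¹ := by simp [mul_assoc]
        _ = g * (dg v * dg w.1) * g⁻¹ := by rw [this]
        _ = _ := by simp [mul_assoc]
    · intro hx
      set h := g⁻¹ * ι x * g with hh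
      have hc : h * dg v * h⁻¹ = dg v := by
        have e := congrArg ι hx
        rw [map_mul, map_mul, hy'] at e
        calc h * dg v * h⁻¹ = g⁻¹ * (ι x * (g * dg v * g⁻¹)) * (ι x)⁻¹ * g := by rw [hh]; simp [mul_assoc]
          _ = _ := by rw [e]; simp [mul_assoc]
      obtain ⟨hmon', P', hP', hA', e1, e2⟩ := mono_of_conj hreg hreg hc
      obtain rfl := pair_eq_one hP' hl (by omega) hvl hreg e1 e2
      obtain ⟨w, hw⟩ := exists_dg (diag_of_act hmon' hA' fun r hr => perm_id ⟨r, nroots_eq ▸ hr⟩)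
      have hfix : B.sE (ι x) = ι x := by
        show B.sE (B.inc (S.toG x)) = _
        rw [B.sE_inc, S.sg_toG]
        rfl
      have hιx : ι x = g * dg w * g⁻¹ := by rw [← hw, hh]; simp [mul_assoc]
      rw [hιx, map_mul, map_mul, map_inv, B.sE_dg] at hfix
      have hnw : n * dg (B.tw w) * n⁻¹ = dg w := by
        calc n * dg (B.tw w) * n⁻¹ = g⁻¹ * (B.sE g * dg (B.tw w) * (B.sE g)⁻¹) * g := by
              rw [hndef]; simp [mul_assoc]
          _ = dg w := by rw [hfix]; simp [mul_assoc]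
      obtain ⟨f1, f2⟩ := hchar w w hnw
      refine ⟨⟨w, mem_Sol.mpr ⟨f1, f2⟩⟩, hι ?_⟩
      rw [hΦ, hιx]
  have hq : Fintype.card F = 3 * (3 ^ m) ^ 2 := by rw [hK, ← pow_mul, mul_comm m 2, pow_succ']
  have hr : 3 ^ (m + 1) = 3 * 3 ^ m := pow_succ' 3 m
  obtain ⟨j, hj⟩ : Odd (3 ^ m) := Odd.pow (by decide)
  have hs := sol_struct (E := E) hP (e := 3 ^ m) hj (by rw [B.card_E, hq])
  rw [← hq, ← hr, ← hm] at hs
  rw [← hrng, ← hm]
  exact hs.congr (MonoidHom.ofInjective hinj)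

end Tw

end Cfsg.Agent.SmallRee
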