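import Cfsg.Agent.Lib.SmallRee.Basic
import Cfsg.Agent.Lib.Chev.TorusKer
import Cfsg.Agent.Lib.Chev.RankOne

/-!
The fixed torus of the twist, and the monomial element.
-/

set_option autoImplicit false
set_option maxRecDepth 20000

namespace Cfsg.Agent.SmallRee

open Cfsg.Lie Cfsg.Agent.Chev

variable {F : Type*} [Field F]

/-- Parameters of a torus element. -/
def cpar (lam mu : F) (i : ℕ) : F := if i = 0 then lam else mu

theorem cpar_ne {lam mu : F} (hl : lam ≠ 0) (hm : mu ≠ 0) (i : ℕ) : cpar lam mu i ≠ 0 := by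
  unfold cpar; split <;> assumption

theorem rank_eq : chevG2.rank = 2 := by decide +kernel

theorem nroots_eq : chevG2.nroots = 12 := by decide +kernel

theorem prod_two (f : ℕ → F) : ∏ i ∈ Finset.range chevG2.rank, f i = f 0 * f 1 := by
  rw [rank_eq, Finset.prod_range_succ, Finset.prod_range_one]

/-- A torus element in the group. -/
def tor (lam mu : F) : ↥(chevG2.group F) := ⟨G2.okx.toOK.torG (cpar lam mu), G2.okx.toOK.wordG_mem _⟩

theorem coe_tor (lam mu : F) : ((tor lam mu : ↥(chevG2.group F)) : GL chevG2.Idx F) = G2.okx.toOK.torG (cpar lam mu) :=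
  rfl

theorem tor_mul {a b c d : F} (ha : a ≠ 0) (hb : b ≠ 0) (hc : c ≠ 0) (hd : d ≠ 0) :
    tor a b * tor c d = tor (a * c) (b * d) := by
  refine Subtype.ext ?_
  rw [Subgroup.coe_mul, coe_tor, coe_tor, coe_tor,
    G2.okx.toOK.torG_mul (fun i _ => cpar_ne ha hb i) (fun i _ => cpar_ne hc hd i)]
  congr 1
  funext i
  by_cases e : i = 0 <;> simp [cpar, e]

theorem tor_eq_of {lam mu : F} {c : ℕ → F} (hc : ∀ i < chevG2.rank, c i ≠ 0) (h0 : c 0 = lam) (h1 : c 1 = mu) :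
    G2.okx.toOK.torG c = G2.okx.toOK.torG (cpar lam mu) := by
  have hl : lam ≠ 0 := h0 ▸ hc 0 (by rw [rank_eq]; omega)
  have hm : mu ≠ 0 := h1 ▸ hc 1 (by rw [rank_eq]; omega)
  refine Units.ext ?_
  rw [G2.okx.toOK.coe_torG hc, G2.okx.toOK.coe_torG (fun i _ => cpar_ne hl hm i)]
  congr 1; funext a
  rcases a with a | s
  · rfl
  · simp only [Sum.elim_inr, prod_two, h0, h1]
    simp [cpar]

theorem exists_tor {g : ↥(chevG2.group F)} (hg : (g : GL chevG2.Idx F) ∈ chevG2.diagonalSubgroup F) :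
    ∃ lam mu : F, lam ≠ 0 ∧ mu ≠ 0 ∧ g = tor lam mu := by
  obtain ⟨c, hc, hg'⟩ := G2.okx.toOK.mem_diag.mp hg
  exact ⟨c 0, c 1, hc 0 (by rw [rank_eq]; omega), hc 1 (by rw [rank_eq]; omega),
    Subtype.ext (hg'.trans (tor_eq_of hc rfl rfl))⟩

theorem tor_mem {lam mu : F} (hl : lam ≠ 0) (hm : mu ≠ 0) :
    ((tor lam mu : ↥(chevG2.group F)) : GL chevG2.Idx F) ∈ chevG2.diagonalSubgroup F :=
  G2.okx.toOK.mem_diag.mpr ⟨_, fun i _ => cpar_ne hl hm i, rfl⟩

theorem tor_conj {lam mu : F} (hl : lam ≠ 0) (hm : mu ≠ 0) {r : ℕ} (hr : r < chevG2.nroots) {A B : ℤ}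
    (hA : G2.T.cA 0 r = A) (hB : G2.T.cA 1 r = B) (t : F) :
    tor lam mu * X r t * (tor lam mu)⁻¹ = X r (lam ^ A * mu ^ B * t) := by
  refine Subtype.ext ?_
  rw [Subgroup.coe_mul, Subgroup.coe_mul, Subgroup.coe_inv, coe_tor, coe_X, coe_X,
    G2.okx.toOK.torG_xG (fun i _ => cpar_ne hl hm i) hr, prod_two, hA, hB]
  simp [cpar]

theorem tor_inj [Finite F] {a b c d : F} (ha : a ≠ 0) (hb : b ≠ 0) (hc : c ≠ 0) (hd : d ≠ 0)
    (h : tor a b = tor c d) : a = c ∧ b = d := by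
  have e : tor (a / c) (b / d) = (1 : ↥(chevG2.group F)) := by
    have := tor_mul (div_ne_zero ha hc) (div_ne_zero hb hd) hc hd
    rw [div_mul_cancel₀ _ hc, div_mul_cancel₀ _ hd, h] at this
    exact mul_eq_right.mp this
  let u : Fin chevG2.rank → Fˣ := fun i => if i.val = 0 then Units.mk0 (a / c) (div_ne_zero ha hc)
    else Units.mk0 (b / d) (div_ne_zero hb hd)
  have e1 : G2.okx.toOK.torG (OK.param u) = 1 := by
    rw [tor_eq_of (lam := a / c) (mu := b / d) (fun i _ => OK.param_ne u i)]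
    · exact congrArg Subtype.val e
    · rw [OK.param, dif_pos (by rw [rank_eq]; omega)]; simp [u]
    · rw [OK.param, dif_pos (by rw [rank_eq]; omega)]; simp [u]
  have h2 : u ∈ (monoMap (G := Fˣ) (OK.torMat chevG2 G2.T)).ker := G2.okx.toOK.torG_eq_one_iff.mp e1
  rw [G2.torus_ker F, Subgroup.mem_bot] at h2
  have k0 := congrArg Units.val (congrFun h2 ⟨0, by rw [rank_eq]; omega⟩)
  have k1 := congrArg Units.val (congrFun h2 ⟨1, by rw [rank_eq]; omega⟩)
  simp [u] at k0 k1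
  exact ⟨(div_eq_one_iff_eq hc).mp k0, (div_eq_one_iff_eq hd).mp k1⟩

/-- The monomial element of a root. -/
def N (r : ℕ) (t : F) : ↥(chevG2.group F) := ⟨G2.okx.toOK.nG r t, G2.okx.toOK.wordG_mem _⟩

/-- The diagonal element of a root. -/
def H (r : ℕ) (t : F) : ↥(chevG2.group F) := ⟨G2.okx.toOK.hG r t, G2.okx.toOK.wordG_mem _⟩

theorem N_eq {r : ℕ} (hr : r < chevG2.nroots) {s : ℕ} (hs : G2.T.neg r = s) (t : F) :
    N r t = X r t * X s (-t⁻¹) * X r t := by
  subst hs; exact Subtype.ext (G2.okx.toOK.nG_eq hr t)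

theorem H_eq (r : ℕ) (t : F) : H r t = N r t * N r (-1) := Subtype.ext (G2.okx.toOK.hG_eq r t)

theorem H_tor {r : ℕ} (hr : r < chevG2.nroots) {t : F} (ht : t ≠ 0) {A B : ℤ} (hA : G2.T.cC r 0 = A)
    (hB : G2.T.cC r 1 = B) : H r t = tor (t ^ A) (t ^ B) := by
  refine Subtype.ext ((G2.okx.toOK.hG_eq_torG hr ht).trans (tor_eq_of (fun i _ => zpow_ne_zero _ ht) ?_ ?_))
  · rw [hA]
  · rw [hB]

theorem tor_eq_H {lam mu : F} (hl : lam ≠ 0) (hm : mu ≠ 0) : tor lam mu = H 7 lam * H 6 mu := by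
  rw [H_tor (r := 7) (A := 1) (B := 0) (by decide +kernel) hl (by decide +kernel) (by decide +kernel),
    H_tor (r := 6) (A := 0) (B := 1) (by decide +kernel) hm (by decide +kernel) (by decide +kernel),
    zpow_one, zpow_zero, zpow_zero, zpow_one, tor_mul hl one_ne_zero one_ne_zero hm, mul_one, one_mul]

namespace Tw

variable (S : Tw F)

theorem root_ok : ∀ r : Fin 12, G2.xtab.pi r.val < chevG2.nroots ∧
    G2.xtab.e (G2.T.neg r.val) = G2.xtab.e r.val ∧ G2.xtab.pi (G2.T.neg r.val) = G2.T.neg (G2.xtab.pi r.val) ∧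
    Odd (G2.xtab.e r.val) := by decide +kernel

theorem sg_N {r : ℕ} (hr : r < chevG2.nroots) (t : F) :
    S.sg (N r t) = N (G2.xtab.pi r) (S.th t ^ G2.xtab.e r) := by
  obtain ⟨h1, h2, h3, h4⟩ := root_ok ⟨r, nroots_eq ▸ hr⟩
  simp only at h1 h2 h3 h4
  rw [N_eq hr rfl, N_eq h1 rfl, map_mul, map_mul, S.sg_X r hr, S.sg_X _ (G2.okx.toOK.neg_lt hr), h2, h3,
    map_neg, map_inv₀, h4.neg_pow, inv_pow]

theorem sg_H {r : ℕ} (hr : r < chevG2.nroots) (t : F) :
    S.sg (H r t) = H (G2.xtab.pi r) (S.th t ^ G2.xtab.e r) := by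
  obtain ⟨-, -, -, h4⟩ := root_ok ⟨r, nroots_eq ▸ hr⟩
  rw [H_eq, H_eq, map_mul, S.sg_N hr, S.sg_N hr, map_neg, map_one, h4.neg_one_pow]

theorem sg_tor {lam mu : F} (hl : lam ≠ 0) (hm : mu ≠ 0) : S.sg (tor lam mu) = tor (S.th mu) (S.th lam ^ 3) := by
  have h1 : G2.xtab.pi 7 = 6 ∧ G2.xtab.pi 6 = 7 ∧ G2.xtab.e 7 = 3 ∧ G2.xtab.e 6 = 1 := by decide +kernel
  have hl' : S.th lam ^ 3 ≠ 0 := pow_ne_zero _ ((map_ne_zero S.th).mpr hl)
  have hm' : S.th mu ≠ 0 := (map_ne_zero S.th).mpr hm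
  rw [tor_eq_H hl hm, map_mul, S.sg_H (by decide +kernel), S.sg_H (by decide +kernel), h1.1, h1.2.1, h1.2.2.1,
    h1.2.2.2, pow_one,
    H_tor (r := 7) (A := 1) (B := 0) (by decide +kernel) hm' (by decide +kernel) (by decide +kernel),
    H_tor (r := 6) (A := 0) (B := 1) (by decide +kernel) hl' (by decide +kernel) (by decide +kernel),
    zpow_one, zpow_zero, zpow_zero, zpow_one, tor_mul one_ne_zero hl' hm' one_ne_zero, mul_one, one_mul]

theorem th_ne (v : Fˣ) : S.th (v : F) ≠ 0 := (map_ne_zero S.th).mpr v.ne_zero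

/-- The fixed torus. -/
def Ht : Fˣ →* ↥(chevG2.group F) where
  toFun v := tor (S.th (v : F)) (v : F)
  map_one' := by
    rw [Units.val_one, map_one]
    exact mul_eq_left.mp ((tor_mul one_ne_zero one_ne_zero one_ne_zero one_ne_zero).trans
      (by rw [one_mul]) : (tor 1 1 : ↥(chevG2.group F)) * tor 1 1 = tor 1 1)
  map_mul' v w := by
    rw [tor_mul (S.th_ne v) v.ne_zero (S.th_ne w) w.ne_zero, Units.val_mul, map_mul]

theorem Ht_def (v : Fˣ) : S.Ht v = tor (S.th (v : F)) (v : F) := rfl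

theorem sg_Ht (v : Fˣ) : S.sg (S.Ht v) = S.Ht v := by
  rw [S.Ht_def, S.sg_tor (S.th_ne v) v.ne_zero, S.th_cube]

theorem Ht_inj [Finite F] : Function.Injective S.Ht := fun v w h =>
  Units.ext (tor_inj (S.th_ne v) v.ne_zero (S.th_ne w) w.ne_zero h).2

theorem fixed_diag [Finite F] {g : ↥(chevG2.group F)} (hg : (g : GL chevG2.Idx F) ∈ chevG2.diagonalSubgroup F)
    (h : S.sg g = g) : ∃ v : Fˣ, g = S.Ht v := by
  obtain ⟨lam, mu, hl, hm, rfl⟩ := exists_tor hg
  rw [S.sg_tor hl hm] at h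
  obtain ⟨h1, -⟩ := tor_inj ((map_ne_zero S.th).mpr hm) (pow_ne_zero _ ((map_ne_zero S.th).mpr hl)) hl hm h
  exact ⟨Units.mk0 mu hm, by rw [S.Ht_def, Units.val_mk0, h1]⟩

/-- The monomial elements of the orthogonal pair. -/
def nn (u : F) : ↥(chevG2.group F) := N 8 (S.th u) * N 10 u

theorem pair_commute [CharP F 3] : ∀ (r s : ℕ), r ∈ [8, 3] → s ∈ [10, 1] → ∀ a b : F, Commute (X r a) (X s b) := by
  intro r s hr hs a b
  have h : ∀ r ∈ [8, 3], ∀ s ∈ [10, 1], XTab.comB G2.T 3 r s = true ∧ r < chevG2.nroots ∧ s < chevG2.nroots := by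
    decide +kernel
  obtain ⟨h1, h2, h3⟩ := h r hr s hs
  exact commute_X h2 h3 h1 a b

theorem commute_N [CharP F 3] (a b : F) : Commute (N 8 a) (N 10 b) := by
  rw [N_eq (r := 8) (s := 3) (by decide +kernel) (by decide +kernel),
    N_eq (r := 10) (s := 1) (by decide +kernel) (by decide +kernel)]
  have c : ∀ (r s : ℕ), r ∈ [8, 3] → s ∈ [10, 1] → ∀ a b : F, Commute (X r a) (X s b) := pair_commute
  have h1 : ∀ r ∈ [8, 3], ∀ z : F, Commute (X r z) (X 10 b * X 1 (-b⁻¹) * X 10 b) := fun r hr z =>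
    ((c r 10 hr (by simp) _ _).mul_right (c r 1 hr (by simp) _ _)).mul_right (c r 10 hr (by simp) _ _)
  exact ((h1 8 (by simp) _).mul_left (h1 3 (by simp) _)).mul_left (h1 8 (by simp) _)

theorem Rw_pair (b : Bool) (u : F) : S.Rw b 0 u 0 = Y b 8 (S.th u) * Y b 10 u := by
  simp [Rw, Wd, Tl, Y_zero]

theorem nn_word [CharP F 3] (u : F) : S.nn u = S.Rw true 0 u 0 * S.Rw false 0 u⁻¹ 0 * S.Rw true 0 u 0 := by
  rw [nn, N_eq (r := 8) (s := 3) (by decide +kernel) (by decide +kernel),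
    N_eq (r := 10) (s := 1) (by decide +kernel) (by decide +kernel), S.Rw_pair, S.Rw_pair, map_inv₀]
  set a := X 8 (S.th u)
  set b := X 3 (-(S.th u)⁻¹)
  set c := X 10 u
  set d := X 1 (-u⁻¹)
  have hac : Commute a c := pair_commute 8 10 (by simp) (by simp) _ _
  have had : Commute a d := pair_commute 8 1 (by simp) (by simp) _ _
  have hbc : Commute b c := pair_commute 3 10 (by simp) (by simp) _ _
  show a * b * a * (c * d * c) = a * c * (b * d) * (a * c)
  calc a * b * a * (c * d * c) = a * b * (a * c) * (d * c) := by simp only [mul_assoc]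
    _ = a * (b * c) * (a * d) * c := by rw [hac.eq]; simp only [mul_assoc]
    _ = a * c * (b * d) * (a * c) := by rw [hbc.eq, had.eq]; simp only [mul_assoc]

/-- The fixed monomial element. -/
def n₀ : ↥(chevG2.group F) := S.nn 1

theorem nn_mul [CharP F 3] {u : F} (hu : u ≠ 0) :
    S.nn u * S.nn (-1) = S.Ht (Units.mk0 (S.th u ^ 3 * u) (mul_ne_zero (pow_ne_zero _ ((map_ne_zero S.th).mpr hu)) hu)) := by
  have htu : S.th u ≠ 0 := (map_ne_zero S.th).mpr hu
  rw [nn, nn, map_neg, map_one]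
  calc N 8 (S.th u) * N 10 u * (N 8 (-1) * N 10 (-1))
      = N 8 (S.th u) * (N 10 u * N 8 (-1)) * N 10 (-1) := by simp only [mul_assoc]
    _ = H 8 (S.th u) * H 10 u := by rw [← (commute_N (-1) u).eq, H_eq, H_eq]; simp only [mul_assoc]
    _ = _ := by
      rw [H_tor (r := 8) (A := 1) (B := 3) (by decide +kernel) htu (by decide +kernel) (by decide +kernel),
        H_tor (r := 10) (A := 1) (B := 1) (by decide +kernel) hu (by decide +kernel) (by decide +kernel),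
        zpow_one, zpow_one, zpow_ofNat, tor_mul htu (pow_ne_zero _ htu) hu hu, S.Ht_def, Units.val_mk0]
      congr 1
      rw [map_mul, map_pow, S.th_cube, mul_comm]

end Tw

end Cfsg.Agent.SmallRee
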