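import Cfsg.Agent.Lib.SmallRee.Tori
import Mathlib.GroupTheory.PGroup

/-!
Consequences of the torus structure: cyclic Sylow subgroups, centralisers and conjugacy of cyclic subgroups.
-/

set_option autoImplicit false
set_option maxRecDepth 20000

namespace Cfsg.Agent.SmallRee

open scoped Pointwise

section Generic

variable {G : Type*} [Group G] [Finite G]

theorem sub_cyclic_eq {Z H H' : Subgroup G} [IsCyclic ↥Z] (h : H ≤ Z) (h' : H' ≤ Z)
    (hc : Nat.card ↥H' = Nat.card ↥H) : H = H' := by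
  classical
  haveI := Fintype.ofFinite ↥Z
  set n := Nat.card ↥H
  have hn : 0 < n := Nat.card_pos
  let T : Finset ↥Z := Finset.univ.filter fun x => x ^ n = 1
  have key : ∀ K : Subgroup G, K ≤ Z → Nat.card ↥K = n → ∀ x : ↥Z, (x : G) ∈ K ↔ x ∈ T := by
    intro K hK hKn
    have hs : (K.subgroupOf Z : Set ↥Z).toFinset ⊆ T := fun x hx => by
      simp only [Set.mem_toFinset, SetLike.mem_coe, Subgroup.mem_subgroupOf] at hx
      simp only [T, Finset.mem_filter, Finset.mem_univ, true_and]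
      exact Subtype.ext (by
        rw [SubgroupClass.coe_pow, Subgroup.coe_one, ← hKn]
        exact congrArg Subtype.val (pow_card_eq_one' (x := (⟨x, hx⟩ : ↥K))))
    have hT : T.card ≤ n := IsCyclic.card_pow_eq_one_le hn
    have hKc : ((K.subgroupOf Z : Set ↥Z).toFinset).card = n := by
      rw [← Set.ncard_eq_toFinset_card', ← Nat.card_coe_set_eq, SetLike.coe_sort_coe,
        Nat.card_congr (Subgroup.subgroupOfEquivOfLe hK).toEquiv, hKn]
    have he := Finset.eq_of_subset_of_card_le hs (hT.trans hKc.ge)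
    intro x
    rw [← he, Set.mem_toFinset, SetLike.mem_coe, Subgroup.mem_subgroupOf]
  ext g
  exact ⟨fun hg => (key H' h' hc ⟨g, h hg⟩).mpr ((key H h rfl ⟨g, h hg⟩).mp hg),
    fun hg => (key H h rfl ⟨g, h' hg⟩).mpr ((key H' h' hc ⟨g, h' hg⟩).mp hg)⟩

/-- A torus has a cyclic subgroup containing all its subgroups of odd order. -/
theorem torus_odd_part {q r : ℕ} (hq : 2 ∣ q + 1) {C : Subgroup G} (hC : IsTorusGp q r ↥C) :
    ∃ a ∈ C, ∀ H ≤ C, Odd (Nat.card ↥H) → H ≤ Subgroup.zpowers a := by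
  rcases hC with ⟨⟨⟨hcomm⟩⟩, ⟨-, hcyc⟩ | ⟨hcard, -, a, ha⟩⟩
  · obtain ⟨a, ha⟩ := IsCyclic.exists_generator (α := ↥C)
    refine ⟨a, a.2, fun H hH _ x hx => ?_⟩
    obtain ⟨k, hk⟩ := Subgroup.mem_zpowers_iff.mp (ha ⟨x, hH hx⟩)
    exact Subgroup.mem_zpowers_iff.mpr ⟨k, congrArg Subtype.val hk⟩
  · refine ⟨a, a.2, fun H hH hodd x hx => ?_⟩
    have hidx : (Subgroup.zpowers a).index = 2 := by
      have h1 := (Subgroup.zpowers a).card_mul_index
      rw [Nat.card_zpowers, ha, hcard] at h1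
      have h2 : (q + 1) / 2 * 2 = q + 1 := Nat.div_mul_cancel hq
      have h3 : 0 < (q + 1) / 2 := by omega
      exact mul_left_cancel₀ h3.ne' (h1.trans h2.symm)
    set y : ↥C := ⟨x, hH hx⟩
    have ho : Odd (orderOf y) := by
      rw [← Subgroup.orderOf_coe y]
      refine hodd.of_dvd_nat ?_
      have h := orderOf_dvd_natCard (⟨x, hx⟩ : ↥H)
      rwa [← Subgroup.orderOf_coe] at h
    have hmem : y ∈ Subgroup.zpowers a := by
      obtain ⟨k, hk⟩ := ho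
      have h2 : y = (y * y) ^ (k + 1) := by
        rw [← pow_two, ← pow_mul, show 2 * (k + 1) = orderOf y + 1 by omega, pow_succ, pow_orderOf_eq_one, one_mul]
      rw [h2]
      exact pow_mem (Subgroup.mul_self_mem_of_index_two hidx y) _
    obtain ⟨k, hk⟩ := Subgroup.mem_zpowers_iff.mp hmem
    exact Subgroup.mem_zpowers_iff.mpr ⟨k, congrArg Subtype.val hk⟩

theorem torus_odd {q r : ℕ} (hq : 2 ∣ q + 1) {C : Subgroup G} (hC : IsTorusGp q r ↥C) {H : Subgroup G} (hH : H ≤ C)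
    (ho : Odd (Nat.card ↥H)) :
    IsCyclic ↥H ∧ ∀ H' ≤ C, Nat.card ↥H' = Nat.card ↥H → H = H' := by
  obtain ⟨a, -, ha⟩ := torus_odd_part hq hC
  exact ⟨Subgroup.isCyclic_of_le (ha H hH ho),
    fun H' hH' hc => sub_cyclic_eq (ha H hH ho) (ha H' hH' (hc ▸ ho)) hc⟩

end Generic

/-- The four torus orders. -/
def torusOrders (q r : ℕ) : List ℕ := [q - 1, q + 1, q - r + 1, q + r + 1]

theorem arith {q r e : ℕ} (hq : q = 3 * e ^ 2) (hr : r = 3 * e) (he : Odd e) (h3 : 3 ≤ e) :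
    3 * r ≤ q ∧ 26 ≤ q - 1 ∧ 2 ∣ q + 1 ∧ 4 ∣ q + 1 ∧ q % 8 = 3 ∧ Odd ((q - 1) / 2) ∧ Odd ((q + 1) / 4) ∧
      Odd (q - r + 1) ∧ Odd (q + r + 1) ∧ q % 3 = 0 ∧ r % 3 = 0 ∧ 7 ≤ (q + 1) / 4 ∧ 19 ≤ q - r + 1 := by
  obtain ⟨j, rfl⟩ := he
  have h8 : (2 * j + 1) ^ 2 = 4 * (j * (j + 1)) + 1 := by ring
  obtain ⟨c, hc⟩ := Nat.even_mul_succ_self j
  have he2 : 3 * (2 * j + 1) ≤ (2 * j + 1) ^ 2 := by rw [pow_two]; exact Nat.mul_le_mul_right _ h3
  simp only [Nat.odd_iff]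
  subst hq hr
  omega

/-- A prime at least five divides at most one torus order. -/
theorem orders_unique {q r : ℕ} (hr : r ≤ q) (hrr : r * r = 3 * q) {l D D' : ℕ} (hl : l.Prime) (h5 : 5 ≤ l)
    (hlq : ¬ l ∣ q) (hD : D ∈ torusOrders q r) (hD' : D' ∈ torusOrders q r) (h : l ∣ D) (h' : l ∣ D') : D = D' := by
  have hq1 : 1 ≤ q := Nat.one_le_iff_ne_zero.mpr fun h => hlq (h ▸ dvd_zero l)
  have hz : ∀ {z : ℕ}, l ∣ z → (l : ℤ) ∣ (z : ℤ) := fun h => Int.natCast_dvd_natCast.mpr h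
  have hlz : ∀ {z : ℕ}, 0 < z → z < 5 → ¬ (l : ℤ) ∣ (z : ℤ) := fun hz1 hz2 hd => by
    have := Nat.le_of_dvd hz1 (Int.natCast_dvd_natCast.mp hd)
    omega
  have hne2 : ¬ (l : ℤ) ∣ 2 := hlz (z := 2) (by norm_num) (by norm_num)
  have hne3 : ¬ (l : ℤ) ∣ 3 := hlz (z := 3) (by norm_num) (by norm_num)
  have hlr : ¬ (l : ℤ) ∣ (r : ℤ) := fun hd => by
    have h1 : (l : ℤ) ∣ ((3 * q : ℕ) : ℤ) := by rw [← hrr]; push_cast; exact hd.mul_right _
    rcases hl.dvd_mul.mp (Int.natCast_dvd_natCast.mp h1) with h | h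
    · have := Nat.le_of_dvd (by norm_num) h; omega
    · exact hlq h
  have hp : Prime (l : ℤ) := Nat.prime_iff_prime_int.mp hl
  have hzq : ¬ (l : ℤ) ∣ (q : ℤ) := fun h => hlq (Int.natCast_dvd_natCast.mp h)
  have hrr' : (r : ℤ) * r = 3 * q := by exact_mod_cast hrr
  have h2r : ∀ x : ℤ, x = 2 * r → ¬ (l : ℤ) ∣ x := fun x hx hd => by
    subst hx; rcases hp.dvd_or_dvd hd with h | h
    · exact hne2 h
    · exact hlr h
  -- pairwise exclusion
  have k1 : ¬ ((l : ℤ) ∣ (q : ℤ) - 1 ∧ (l : ℤ) ∣ (q : ℤ) + 1) := fun ⟨a, b⟩ => by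
    have := dvd_sub b a; exact hne2 (by simpa using this)
  have k2 : ∀ x : ℤ, x = (q : ℤ) + 1 - r ∨ x = (q : ℤ) + 1 + r → (l : ℤ) ∣ x →
      ¬ (l : ℤ) ∣ (q : ℤ) - 1 ∧ ¬ (l : ℤ) ∣ (q : ℤ) + 1 := by
    intro x hx hd
    have hprod : (l : ℤ) ∣ ((q : ℤ) + 1) * (q + 1) - r * r := by
      rcases hx with rfl | rfl
      · rw [show ((q : ℤ) + 1) * (q + 1) - r * r = (q + 1 - r) * (q + 1 + r) by ring]; exact hd.mul_right _
      · rw [show ((q : ℤ) + 1) * (q + 1) - r * r = (q + 1 + r) * (q + 1 - r) by ring]; exact hd.mul_right _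
    rw [hrr', show ((q : ℤ) + 1) * (q + 1) - 3 * q = q * (q - 1) + 1 by ring] at hprod
    refine ⟨fun h1 => ?_, fun h1 => ?_⟩
    · have := dvd_sub hprod (h1.mul_left (q : ℤ))
      rw [add_sub_cancel_left] at this
      exact hp.not_dvd_one this
    · have := dvd_sub hprod (h1.mul_left ((q : ℤ) - 2))
      rw [show (q : ℤ) * (q - 1) + 1 - (q - 2) * (q + 1) = 3 by ring] at this
      exact hne3 this
  have k3 : ¬ ((l : ℤ) ∣ (q : ℤ) + 1 - r ∧ (l : ℤ) ∣ (q : ℤ) + 1 + r) := fun ⟨a, b⟩ =>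
    h2r _ (by ring) (dvd_sub b a)
  have c1 : ((q - 1 : ℕ) : ℤ) = (q : ℤ) - 1 := by omega
  have c2 : ((q + 1 : ℕ) : ℤ) = (q : ℤ) + 1 := by omega
  have c3 : ((q - r + 1 : ℕ) : ℤ) = (q : ℤ) + 1 - r := by omega
  have c4 : ((q + r + 1 : ℕ) : ℤ) = (q : ℤ) + 1 + r := by omega
  simp only [torusOrders, List.mem_cons, List.not_mem_nil, or_false] at hD hD'
  have e21 := fun a b => (k2 _ (Or.inl rfl) a).1 b
  have e22 := fun a b => (k2 _ (Or.inl rfl) a).2 b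
  have e31 := fun a b => (k2 _ (Or.inr rfl) a).1 b
  have e32 := fun a b => (k2 _ (Or.inr rfl) a).2 b
  have z1 : l ∣ q - 1 → (l : ℤ) ∣ (q : ℤ) - 1 := fun h => c1 ▸ hz h
  have z2 : l ∣ q + 1 → (l : ℤ) ∣ (q : ℤ) + 1 := fun h => c2 ▸ hz h
  have z3 : l ∣ q - r + 1 → (l : ℤ) ∣ (q : ℤ) + 1 - r := fun h => c3 ▸ hz h
  have z4 : l ∣ q + r + 1 → (l : ℤ) ∣ (q : ℤ) + 1 + r := fun h => c4 ▸ hz h
  rcases hD with rfl | rfl | rfl | rfl <;> rcases hD' with rfl | rfl | rfl | rfl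
  · rfl
  · exact (k1 ⟨z1 h, z2 h'⟩).elim
  · exact (e21 (z3 h') (z1 h)).elim
  · exact (e31 (z4 h') (z1 h)).elim
  · exact (k1 ⟨z1 h', z2 h⟩).elim
  · rfl
  · exact (e22 (z3 h') (z2 h)).elim
  · exact (e32 (z4 h') (z2 h)).elim
  · exact (e21 (z3 h) (z1 h')).elim
  · exact (e22 (z3 h) (z2 h')).elim
  · rfl
  · exact (k3 ⟨z3 h, z4 h'⟩).elim
  · exact (e31 (z4 h) (z1 h')).elim
  · exact (e32 (z4 h) (z2 h')).elim
  · exact (k3 ⟨z3 h', z4 h⟩).elim
  · rfl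

/-- The orders of the four kinds of cyclic subgroups. -/
def oddOrders (q r : ℕ) : List ℕ := [(q - 1) / 2, (q + 1) / 4, q - r + 1, q + r + 1]

/-- The orders of the corresponding tori. -/
def bigOf (q r k : ℕ) : ℕ :=
  if k = (q - 1) / 2 then q - 1 else if k = (q + 1) / 4 then q + 1 else k

namespace Tw

variable {F : Type*} [Field F] (S : Tw F) [CharP F 3] [Fintype F] {m : ℕ}

theorem arith' (hm : 1 ≤ m) (hK : Fintype.card F = 3 ^ (2 * m + 1)) :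
    3 * 3 ^ (m + 1) ≤ Fintype.card F ∧ 26 ≤ Fintype.card F - 1 ∧ 2 ∣ Fintype.card F + 1 ∧ 4 ∣ Fintype.card F + 1 ∧
      Fintype.card F % 8 = 3 ∧ Odd ((Fintype.card F - 1) / 2) ∧ Odd ((Fintype.card F + 1) / 4) ∧
      Odd (Fintype.card F - 3 ^ (m + 1) + 1) ∧ Odd (Fintype.card F + 3 ^ (m + 1) + 1) ∧ Fintype.card F % 3 = 0 ∧
      3 ^ (m + 1) % 3 = 0 ∧ 7 ≤ (Fintype.card F + 1) / 4 ∧ 19 ≤ Fintype.card F - 3 ^ (m + 1) + 1 :=
  arith (e := 3 ^ m) (by rw [hK, ← pow_mul, mul_comm m 2, pow_succ']) (pow_succ' 3 m) (Odd.pow (by decide))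
    (le_self_pow₀ (by norm_num) (by omega))

theorem card_torus {q r : ℕ} {G : Type*} [Group G] (h : IsTorusGp q r G) : Nat.card G ∈ torusOrders q r := by
  rcases h.2 with ⟨h1 | h1 | h1, -⟩ | ⟨h1, -⟩ <;> simp [torusOrders, h1]

/-- The centraliser of an element of prime order at least five dividing a torus order. -/
theorem card_cent (hm : 1 ≤ m) (hK : Fintype.card F = 3 ^ (2 * m + 1)) (hth : ∀ x, S.th x = x ^ 3 ^ m) {y : ↥S.Gr}
    {l : ℕ} (hl : l.Prime) (h5 : 5 ≤ l) (hord : orderOf y = l) {D : ℕ}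
    (hD : D ∈ torusOrders (Fintype.card F) (3 ^ (m + 1))) (hlD : l ∣ D) :
    Nat.card ↥(Subgroup.centralizer ({y} : Set ↥S.Gr)) = D := by
  have hC := S.exists_torus hK hth hl h5 hord
  have hyC : y ∈ Subgroup.centralizer ({y} : Set ↥S.Gr) := Subgroup.mem_centralizer_singleton_iff.mpr rfl
  refine orders_unique (by have := (arith' (F := F) hm hK).1; omega) ?_ hl h5 ?_ (card_torus hC) hD ?_ hlD
  · rw [hK, ← pow_add, ← pow_succ']; congr 1; omega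
  · intro h
    have := (Nat.prime_dvd_prime_iff_eq hl Nat.prime_three).mp (hl.dvd_of_dvd_pow (hK ▸ h))
    omega
  · rw [← hord]
    simpa [Subgroup.orderOf_mk] using orderOf_dvd_natCard (⟨y, hyC⟩ : ↥(Subgroup.centralizer ({y} : Set ↥S.Gr)))

theorem sylow_cyclic (hm : 1 ≤ m) (hK : Fintype.card F = 3 ^ (2 * m + 1)) (hth : ∀ x, S.th x = x ^ 3 ^ m) {p : ℕ}
    [hp : Fact p.Prime] (h5 : 5 ≤ p) {P : Subgroup ↥S.Gr} (hP : IsPGroup p ↥P) : IsCyclic ↥P := by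
  rcases subsingleton_or_nontrivial ↥P with h | h
  · infer_instance
  haveI := hP.center_nontrivial
  have hcen : IsPGroup p ↥(Subgroup.center ↥P) := hP.to_subgroup _
  obtain ⟨n, hn⟩ := hcen.exists_card_eq
  have hdvd : p ∣ Nat.card ↥(Subgroup.center ↥P) := by
    rw [hn]
    refine dvd_pow_self p fun h0 => ?_
    rw [h0, pow_zero] at hn
    exact (Finite.one_lt_card (α := ↥(Subgroup.center ↥P))).ne' hn
  obtain ⟨z, hz⟩ := exists_prime_orderOf_dvd_card' p hdvd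
  have hzo : orderOf ((z : ↥P) : ↥S.Gr) = p := by rw [Subgroup.orderOf_coe, Subgroup.orderOf_coe, hz]
  have hle : P ≤ Subgroup.centralizer ({((z : ↥P) : ↥S.Gr)} : Set ↥S.Gr) := fun x hx =>
    Subgroup.mem_centralizer_singleton_iff.mpr (congrArg Subtype.val (Subgroup.mem_center_iff.mp z.2 ⟨x, hx⟩))
  have hodd : Odd (Nat.card ↥P) := by
    obtain ⟨k, hk⟩ := hP.exists_card_eq
    rw [hk]
    exact (hp.out.odd_of_ne_two (by omega)).pow
  exact (torus_odd (arith' hm hK).2.2.1 (S.exists_torus hK hth hp.out h5 hzo) hle hodd).1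

theorem prime_conj (hm : 1 ≤ m) (hK : Fintype.card F = 3 ^ (2 * m + 1)) (hth : ∀ x, S.th x = x ^ 3 ^ m) {l : ℕ}
    (hl : l.Prime) (h5 : 5 ≤ l) {y z : ↥S.Gr} (hy : orderOf y = l) (hz : orderOf z = l) :
    ∃ g : ↥S.Gr, (Subgroup.zpowers y).map (MulAut.conj g).toMonoidHom = Subgroup.zpowers z := by
  haveI : Fact l.Prime := ⟨hl⟩
  have hyp : IsPGroup l ↥(Subgroup.zpowers y) := IsPGroup.of_card (n := 1) (by rw [Nat.card_zpowers, hy, pow_one])
  have hzp : IsPGroup l ↥(Subgroup.zpowers z) := IsPGroup.of_card (n := 1) (by rw [Nat.card_zpowers, hz, pow_one])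
  obtain ⟨P, hP⟩ := hyp.exists_le_sylow
  obtain ⟨Q, hQ⟩ := hzp.exists_le_sylow
  obtain ⟨g, rfl⟩ := MulAction.exists_smul_eq ↥S.Gr P Q
  refine ⟨g, ?_⟩
  haveI := S.sylow_cyclic hm hK hth h5 (g • P).2
  refine sub_cyclic_eq (Z := ((g • P : Sylow l ↥S.Gr) : Subgroup ↥S.Gr)) ?_ hQ ?_
  · rintro _ ⟨x, hx, rfl⟩
    rw [Sylow.coe_subgroup_smul, Subgroup.mem_pointwise_smul_iff_inv_smul_mem]
    simpa [mul_assoc] using hP hx
  · rw [Subgroup.card_map_of_injective (MulAut.conj g).injective, Nat.card_zpowers, Nat.card_zpowers, hy, hz]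

theorem oddOrders_spec (hm : 1 ≤ m) (hK : Fintype.card F = 3 ^ (2 * m + 1)) {k : ℕ}
    (hk : k ∈ oddOrders (Fintype.card F) (3 ^ (m + 1))) :
    Odd k ∧ ¬ 3 ∣ k ∧ 1 < k ∧ k ∣ bigOf (Fintype.card F) (3 ^ (m + 1)) k ∧
      bigOf (Fintype.card F) (3 ^ (m + 1)) k ∈ torusOrders (Fintype.card F) (3 ^ (m + 1)) := by
  obtain ⟨a1, a2, a3, a4, a5, o1, o2, o3, o4, b1, b2, b3, b4⟩ := arith' (F := F) hm hK
  simp only [oddOrders, List.mem_cons, List.not_mem_nil, or_false] at hk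
  generalize Fintype.card F = q at *
  generalize 3 ^ (m + 1) = R at *
  clear hK hm
  rcases hk with rfl | rfl | rfl | rfl
  · refine ⟨o1, by omega, by omega, ?_, by simp [bigOf, torusOrders]⟩
    rw [bigOf, if_pos rfl]
    exact Dvd.intro 2 (by omega)
  · refine ⟨o2, by omega, by omega, ?_, ?_⟩ <;> rw [bigOf, if_neg (by omega), if_pos rfl]
    · exact Dvd.intro 4 (by omega)
    · simp [torusOrders]
  · refine ⟨o3, by omega, by omega, ?_, ?_⟩ <;> rw [bigOf, if_neg (by omega), if_neg (by omega)]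
    simp [torusOrders]
  · refine ⟨o4, by omega, by omega, ?_, ?_⟩ <;> rw [bigOf, if_neg (by omega), if_neg (by omega)]
    simp [torusOrders]

theorem dvd_five {d k : ℕ} (hk2 : Odd k) (hk3 : ¬ 3 ∣ k) (hd : d ∣ k) {l : ℕ} (hl : l.Prime) (hld : l ∣ d) :
    5 ≤ l := by
  by_contra hc
  have h2 := hl.two_le
  interval_cases l
  · exact hk2.not_two_dvd_nat (hld.trans hd)
  · exact hk3 (hld.trans hd)
  · norm_num at hl

/-- The centraliser of a nontrivial commutative subgroup of odd order dividing one of the four numbers. -/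
theorem cent_odd (hm : 1 ≤ m) (hK : Fintype.card F = 3 ^ (2 * m + 1)) (hth : ∀ x, S.th x = x ^ 3 ^ m) {k : ℕ}
    (hk : k ∈ oddOrders (Fintype.card F) (3 ^ (m + 1))) {A : Subgroup ↥S.Gr} (hA : A ≠ ⊥) (hd : Nat.card ↥A ∣ k)
    (hAA : A ≤ Subgroup.centralizer (A : Set ↥S.Gr)) :
    IsTorusGp (Fintype.card F) (3 ^ (m + 1)) ↥(Subgroup.centralizer (A : Set ↥S.Gr)) ∧
      Nat.card ↥(Subgroup.centralizer (A : Set ↥S.Gr)) = bigOf (Fintype.card F) (3 ^ (m + 1)) k ∧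
      ∀ y ∈ A, y ≠ 1 → ∀ x, (x * y = y * x → x ∈ Subgroup.centralizer (A : Set ↥S.Gr)) := by
  obtain ⟨ko, k3, -, kb, kt⟩ := oddOrders_spec hm hK hk
  have key : ∀ z ∈ A, ∀ l : ℕ, l.Prime → orderOf z = l →
      Subgroup.centralizer ({z} : Set ↥S.Gr) = Subgroup.centralizer (A : Set ↥S.Gr) ∧
      IsTorusGp (Fintype.card F) (3 ^ (m + 1)) ↥(Subgroup.centralizer ({z} : Set ↥S.Gr)) ∧
      Nat.card ↥(Subgroup.centralizer ({z} : Set ↥S.Gr)) = bigOf (Fintype.card F) (3 ^ (m + 1)) k := by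
    intro z hz l hl hzl
    have hld : l ∣ Nat.card ↥A := by
      rw [← hzl]; simpa [Subgroup.orderOf_mk] using orderOf_dvd_natCard (⟨z, hz⟩ : ↥A)
    have h5 := dvd_five ko k3 hd hl hld
    have hT := S.exists_torus hK hth hl h5 hzl
    refine ⟨le_antisymm (fun x hx => ?_) (Subgroup.centralizer_le (Set.singleton_subset_iff.mpr hz)), hT,
      S.card_cent hm hK hth hl h5 hzl kt ((hld.trans hd).trans kb)⟩
    refine Subgroup.mem_centralizer_iff.mpr fun a ha => ?_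
    have haC : a ∈ Subgroup.centralizer ({z} : Set ↥S.Gr) :=
      Subgroup.centralizer_le (Set.singleton_subset_iff.mpr hz) (hAA ha)
    exact congrArg Subtype.val (hT.1.is_comm.comm ⟨a, haC⟩ ⟨x, hx⟩)
  obtain ⟨x, hx, hx1⟩ := (Subgroup.bot_or_exists_ne_one A).resolve_left hA
  obtain ⟨l, hl, hlo⟩ := Nat.exists_prime_and_dvd (fun h => hx1 (orderOf_eq_one_iff.mp h) : orderOf x ≠ 1)
  have hz : orderOf (x ^ (orderOf x / l)) = l := orderOf_pow_orderOf_div (orderOf_pos x).ne' hlo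
  obtain ⟨h1, h2, h3⟩ := key _ (pow_mem hx _) l hl hz
  rw [h1] at h2 h3
  refine ⟨h2, h3, fun y hy hy1 w hw => ?_⟩
  obtain ⟨p, hp, hpo⟩ := Nat.exists_prime_and_dvd (fun h => hy1 (orderOf_eq_one_iff.mp h) : orderOf y ≠ 1)
  rw [← (key _ (pow_mem hy _) p hp (orderOf_pow_orderOf_div (orderOf_pos y).ne' hpo)).1]
  exact Subgroup.mem_centralizer_singleton_iff.mpr (Commute.pow_right (show Commute w y from hw) _).eq

theorem cyclic_le_cent {G : Type*} [Group G] {A : Subgroup G} (hA : IsCyclic ↥A) :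
    A ≤ Subgroup.centralizer (A : Set G) := by
  obtain ⟨g, hg⟩ := hA.exists_generator
  intro x hx
  refine Subgroup.mem_centralizer_iff.mpr fun y hy => ?_
  obtain ⟨i, hi⟩ := Subgroup.mem_zpowers_iff.mp (hg ⟨x, hx⟩)
  obtain ⟨j, hj⟩ := Subgroup.mem_zpowers_iff.mp (hg ⟨y, hy⟩)
  have : (⟨y, hy⟩ : ↥A) * ⟨x, hx⟩ = ⟨x, hx⟩ * ⟨y, hy⟩ := by rw [← hi, ← hj, ← zpow_add, ← zpow_add, add_comm]
  exact congrArg Subtype.val this

theorem cent_sub_eq (hm : 1 ≤ m) (hK : Fintype.card F = 3 ^ (2 * m + 1)) (hth : ∀ x, S.th x = x ^ 3 ^ m) {k : ℕ}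
    (hk : k ∈ oddOrders (Fintype.card F) (3 ^ (m + 1))) {A A₀ : Subgroup ↥S.Gr} (hA : IsCyclic ↥A)
    (hd : Nat.card ↥A ∣ k) (hle : A₀ ≤ A) (h0 : A₀ ≠ ⊥) :
    Subgroup.centralizer (A₀ : Set ↥S.Gr) = Subgroup.centralizer (A : Set ↥S.Gr) := by
  have hne : A ≠ ⊥ := fun h => h0 (le_bot_iff.mp (h ▸ hle))
  obtain ⟨x, hx, hx1⟩ := (Subgroup.bot_or_exists_ne_one A₀).resolve_left h0
  refine le_antisymm (fun w hw => ?_) (Subgroup.centralizer_le hle)
  exact (S.cent_odd hm hK hth hk hne hd (cyclic_le_cent hA)).2.2 x (hle hx) hx1 w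
    (Subgroup.mem_centralizer_iff.mp hw x hx).symm

theorem cyclic_conj (hm : 1 ≤ m) (hK : Fintype.card F = 3 ^ (2 * m + 1)) (hth : ∀ x, S.th x = x ^ 3 ^ m) {k d : ℕ}
    (hk : k ∈ oddOrders (Fintype.card F) (3 ^ (m + 1))) (hdk : d ∣ k) {A B : Subgroup ↥S.Gr} (hA : IsCyclic ↥A)
    (hB : IsCyclic ↥B) (hAd : Nat.card ↥A = d) (hBd : Nat.card ↥B = d) :
    ∃ g : ↥S.Gr, B = A.map (MulAut.conj g).toMonoidHom := by
  obtain ⟨ko, k3, -⟩ := oddOrders_spec hm hK hk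
  by_cases hd1 : d = 1
  · subst hd1
    exact ⟨1, by rw [Subgroup.card_eq_one.mp hBd, Subgroup.card_eq_one.mp hAd, Subgroup.map_bot]⟩
  obtain ⟨l, hl, hld⟩ := Nat.exists_prime_and_dvd hd1
  haveI : Fact l.Prime := ⟨hl⟩
  have h5 := dvd_five ko k3 hdk hl hld
  obtain ⟨a, ha⟩ := exists_prime_orderOf_dvd_card' (G := ↥A) l (hAd.symm ▸ hld)
  obtain ⟨b, hb⟩ := exists_prime_orderOf_dvd_card' (G := ↥B) l (hBd.symm ▸ hld)
  rw [← Subgroup.orderOf_coe] at ha hb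
  obtain ⟨g, hg⟩ := S.prime_conj hm hK hth hl h5 ha hb
  refine ⟨g, ?_⟩
  have hbne : B ≠ ⊥ := fun h => hd1 (by rw [← hBd, h, Subgroup.card_bot])
  obtain ⟨hT, -, hall⟩ := S.cent_odd hm hK hth hk hbne (hBd ▸ hdk) (cyclic_le_cent hB)
  have hb1 : (b : ↥S.Gr) ≠ 1 := fun h => hl.ne_one (by rw [← hb, h, orderOf_one])
  have hBle : B ≤ Subgroup.centralizer (B : Set ↥S.Gr) := cyclic_le_cent hB
  have hcard : Nat.card ↥(A.map (MulAut.conj g).toMonoidHom) = Nat.card ↥B := by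
    rw [Subgroup.card_map_of_injective (MulAut.conj g).injective, hAd, hBd]
  refine (torus_odd (arith' hm hK).2.2.1 hT hBle ?_).2 _ ?_ hcard
  · rw [hBd]; exact ko.of_dvd_nat hdk
  · rintro _ ⟨x, hx, rfl⟩
    refine hall b b.2 hb1 _ ?_
    obtain ⟨i, hi⟩ := Subgroup.mem_zpowers_iff.mp
      (hg.symm ▸ Subgroup.mem_zpowers (b : ↥S.Gr) : (b : ↥S.Gr) ∈ (Subgroup.zpowers (a : ↥S.Gr)).map _).choose_spec.1
    have hb' : MulAut.conj g ((a : ↥S.Gr) ^ i) = b := by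
      rw [hi]
      exact (hg.symm ▸ Subgroup.mem_zpowers (b : ↥S.Gr) : (b : ↥S.Gr) ∈ (Subgroup.zpowers (a : ↥S.Gr)).map _).choose_spec.2
    rw [← hb', MulEquiv.coe_toMonoidHom, ← map_mul, ← map_mul]
    exact congrArg _ (Commute.zpow_right (show Commute x (a : ↥S.Gr) from
      (Subgroup.mem_centralizer_iff.mp (cyclic_le_cent hA hx) a a.2).symm) i).eq

end Tw

end Cfsg.Agent.SmallRee
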