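import Cfsg.Agent.Lib.Classical.SL2Two
import Mathlib.GroupTheory.SemidirectProduct
import Mathlib.LinearAlgebra.Matrix.SpecialLinearGroup
import Mathlib.FieldTheory.Finite.Basic

/-!
Groups with a non-trivial normal 3-subgroup whose element orders are those of a small Ree group that are
not divisors of the orders of its two largest tori.
-/

set_option autoImplicit false

open scoped MatrixGroups

namespace Cfsg.Agent.TruncRee

variable {F : Type} [Field F] [CharP F 3] {N : ℕ}

local notation "M2" => Matrix (Fin 2) (Fin 2) F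
local notation "S2" => Matrix.SpecialLinearGroup (Fin 2) F

/-- The twisted second factor. -/
def tw (A : M2) : M2 := (A.map (frobenius F 3)).transpose

theorem tw_mul (A B : M2) : tw (A * B) = tw B * tw A := by
  rw [tw, Matrix.map_mul, Matrix.transpose_mul, tw, tw]

theorem tw_one : tw (1 : M2) = 1 := by
  rw [tw, Matrix.map_one _ (map_zero _) (map_one _), Matrix.transpose_one]

theorem tw_add (A B : M2) : tw (A + B) = tw A + tw B := by
  rw [tw, Matrix.map_add _ (map_add _), Matrix.transpose_add, tw, tw]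

theorem tw_smul (c : F) (A : M2) : tw (c • A) = c ^ 3 • tw A := by
  ext i j; simp [tw, frobenius_def, mul_pow]

theorem tw_zero : tw (0 : M2) = 0 := by
  rw [tw, Matrix.map_zero _ (map_zero _), Matrix.transpose_zero]

theorem tw_neg (A : M2) : tw (-A) = -tw A := by
  rw [eq_neg_iff_add_eq_zero, ← tw_add, neg_add_cancel, tw_zero]

/-- The sign as a scalar. -/
def sgn (e : ℤˣ) : F := ((e : ℤ) : F)

theorem sgn_sq (e : ℤˣ) : sgn e * sgn e = (1 : F) := by
  rcases Int.units_eq_one_or e with rfl | rfl <;> simp [sgn]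

/-- The action on several copies of the tensor module. -/
def rep : ℤˣ × S2 →* Module.End F (Fin N → M2) where
  toFun x :=
    { toFun := fun v i => (sgn x.1 : F) • ((x.2 : M2) * v i * tw (x.2 : M2))
      map_add' := fun v w => by funext i; simp [Matrix.mul_add, Matrix.add_mul, smul_add]
      map_smul' := fun c v => by funext i; simp [smul_comm c] }
  map_one' := by
    refine LinearMap.ext fun v => funext fun i => ?_
    simp [sgn, tw_one]
  map_mul' x y := by
    refine LinearMap.ext fun v => funext fun i => ?_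
    simp [sgn, tw_mul, Matrix.mul_assoc, smul_smul]

theorem rep_apply (e : ℤˣ) (A : S2) (v : Fin N → M2) (i : Fin N) :
    rep (e, A) v i = (sgn e : F) • ((A : M2) * v i * tw (A : M2)) := rfl

theorem rep_neg (e : ℤˣ) {A B : S2} (h : (B : M2) = -(A : M2)) : (rep (e, B) : Module.End F (Fin N → M2)) = rep (e, A) := by
  refine LinearMap.ext fun v => funext fun i => ?_
  rw [rep_apply, rep_apply, h, tw_neg, neg_mul, neg_mul, mul_neg, neg_neg]

theorem three_eq_zero : (3 : F) = 0 := by exact_mod_cast CharP.cast_eq_zero F 3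

theorem two_ne : (2 : F) ≠ 0 := fun h => by
  have h1 : (1 : F) = 0 := by linear_combination three_eq_zero (F := F) - h
  exact one_ne_zero h1

theorem add_inv_eq (A : S2) : (A : M2) + ((A⁻¹ : S2) : M2) = (A : M2).trace • (1 : M2) := by
  rw [Matrix.SpecialLinearGroup.coe_inv, Matrix.adjugate_fin_two, Matrix.trace_fin_two]
  ext i j
  fin_cases i <;> fin_cases j <;> simp [add_comm]

theorem inv_mul' (A : S2) : ((A⁻¹ : S2) : M2) * (A : M2) = 1 := by
  rw [← Matrix.SpecialLinearGroup.coe_mul, inv_mul_cancel, Matrix.SpecialLinearGroup.coe_one]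

theorem mul_inv' (A : S2) : (A : M2) * ((A⁻¹ : S2) : M2) = 1 := by
  rw [← Matrix.SpecialLinearGroup.coe_mul, mul_inv_cancel, Matrix.SpecialLinearGroup.coe_one]

theorem scalar_sq {b : F} {B : S2} (h : (B : M2) = b • 1) : b * b = 1 := by
  have := B.2
  rwa [h, Matrix.det_smul, Matrix.det_one, mul_one, Fintype.card_fin, sq] at this

variable [Fintype F]

/-- A semisimple square with a fixed point acts trivially. -/
theorem sq_trivial {k : ℕ} (B : S2) (hB : B ^ k = 1) (hk4 : ¬ 4 ∣ k) (hk3 : ¬ 3 ∣ k) {X : M2} (hX : X ≠ 0)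
    (hfix : (B : M2) * X * tw (B : M2) = X) : (rep (1, B) : Module.End F (Fin N → M2)) = 1 := by
  set t := (B : M2).trace
  have hc : tw (B : M2) * tw ((B⁻¹ : S2) : M2) = 1 := by rw [← tw_mul, inv_mul', tw_one]
  have h1 : (B : M2) * X = X * tw ((B⁻¹ : S2) : M2) := by
    conv_rhs => rw [← hfix]
    rw [Matrix.mul_assoc _ (tw (B : M2)), hc, Matrix.mul_one]
  have h2 : ((B⁻¹ : S2) : M2) * X = X * tw (B : M2) := by
    conv_lhs => rw [← hfix]
    rw [← Matrix.mul_assoc, ← Matrix.mul_assoc, inv_mul', Matrix.one_mul]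
  have ht : (t - t ^ 3) • X = 0 := by
    rw [sub_smul, sub_eq_zero]
    calc t • X = ((B : M2) + ((B⁻¹ : S2) : M2)) * X := by rw [add_inv_eq, Matrix.smul_mul, Matrix.one_mul]
      _ = X * tw ((B : M2) + ((B⁻¹ : S2) : M2)) := by
        rw [Matrix.add_mul, h1, h2, tw_add, Matrix.mul_add, add_comm]
      _ = t ^ 3 • X := by rw [add_inv_eq, tw_smul, tw_one, Matrix.mul_smul, Matrix.mul_one]
  have ht' : t * (1 - t) * (1 + t) = 0 := by
    linear_combination (smul_eq_zero.mp ht).resolve_right hX
  have hsq : (B : M2) * B = t • (B : M2) - 1 := by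
    rw [Classical.SL2.sq_eq, B.2, one_smul]
  have h12 : B ^ 12 = 1 := by
    have hcast : ∀ c : F, c * c = 1 → ((B : M2) - c • 1) * ((B : M2) - c • 1) = 0 → B ^ 6 = 1 := by
      intro c hc2 hz
      refine Subtype.ext ?_
      rw [Matrix.SpecialLinearGroup.coe_pow, Matrix.SpecialLinearGroup.coe_one]
      haveI : CharP M2 3 := charP_of_injective_algebraMap (algebraMap F M2).injective 3
      have h3 : (B : M2) ^ 3 = (c • 1 : M2) ^ 3 := by
        have e := (Commute.refl (B : M2)).pow_left 1
        have h0 : ((B : M2) - c • 1) ^ 3 = 0 := by rw [pow_succ, sq, hz, zero_mul]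
        rwa [sub_pow_char_of_commute _ ((Commute.one_right (B : M2)).smul_right c), sub_eq_zero] at h0
      rw [show (6 : ℕ) = 3 * 2 from rfl, pow_mul, h3, ← pow_mul, smul_pow, one_pow,
        show c ^ (3 * 2) = (c * c) ^ 3 by ring, hc2, one_pow, one_smul]
    rcases mul_eq_zero.mp ht' with h | h
    · rcases mul_eq_zero.mp h with h | h
      · refine Subtype.ext ?_
        rw [Matrix.SpecialLinearGroup.coe_pow, Matrix.SpecialLinearGroup.coe_one,
          show (12 : ℕ) = 2 * 6 from rfl, pow_mul, sq, hsq, h, zero_smul, zero_sub]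
        exact Even.neg_one_pow ⟨3, rfl⟩
      · rw [show (12 : ℕ) = 6 * 2 from rfl, pow_mul, hcast (-1) (by ring) ?_, one_pow]
        rw [sub_mul, mul_sub, mul_sub, hsq]
        have e : t = 1 := by linear_combination -h
        rw [e]
        simp only [Matrix.smul_mul, Matrix.mul_smul, Matrix.one_mul, Matrix.mul_one, smul_smul]
        refine Eq.trans ?_ (show (3 : F) • (B : M2) = 0 by rw [three_eq_zero, zero_smul])
        module
    · rw [show (12 : ℕ) = 6 * 2 from rfl, pow_mul, hcast 1 (by ring) ?_, one_pow]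
      rw [sub_mul, mul_sub, mul_sub, hsq]
      have e : t = -1 := by linear_combination h
      rw [e]
      simp only [Matrix.smul_mul, Matrix.mul_smul, Matrix.one_mul, Matrix.mul_one, smul_smul]
      refine Eq.trans ?_ (show (-3 : F) • (B : M2) = 0 by rw [three_eq_zero, neg_zero, zero_smul])
      module
  have h2' : B * B = 1 := by
    rw [← sq, ← orderOf_dvd_iff_pow_eq_one]
    have hd := Nat.dvd_gcd (orderOf_dvd_of_pow_eq_one hB) (orderOf_dvd_of_pow_eq_one h12)
    refine hd.trans ?_
    have h12' : Nat.gcd k 12 ∣ 12 := Nat.gcd_dvd_right _ _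
    have hle := Nat.le_of_dvd (by norm_num) h12'
    have hk := Nat.gcd_dvd_left k 12
    interval_cases hg : Nat.gcd k 12 <;> first | omega | norm_num at h12' ⊢
  have hscal : ∃ b : F, (B : M2) = b • 1 := by
    rcases (Classical.SL2Two.sq_eq_one_iff two_ne B).mp h2' with rfl | rfl
    · exact ⟨1, by simp⟩
    · exact ⟨-1, by simp [Classical.SL2Two.coe_negOne]⟩
  obtain ⟨b, hb⟩ := hscal
  refine LinearMap.ext fun v => funext fun i => ?_
  rw [rep_apply, hb, tw_smul, tw_one, Matrix.smul_mul, Matrix.one_mul, Matrix.mul_smul, Matrix.mul_one, smul_smul,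
    smul_smul, Module.End.one_apply]
  have hb2 := scalar_sq hb
  rw [show sgn (1 : ℤˣ) * b ^ 3 * b = (1 : F) by simp [sgn]; linear_combination (b * b + 1) * hb2, one_smul]


/-- Every element is killed by `q - 1` or `q + 1`, or is a signed unipotent. -/
theorem trichotomy {α : ℕ} (hF : Fintype.card F = 3 ^ α) (A : S2) :
    A ^ (Fintype.card F - 1) = 1 ∨ A ^ (Fintype.card F + 1) = 1 ∨
      ((A : M2) - 1) * ((A : M2) - 1) = 0 ∨ ((A : M2) + 1) * ((A : M2) + 1) = 0 := by
  set t := (A : M2).trace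
  have hs : (A : M2) * A = t • (A : M2) - 1 := by rw [Classical.SL2.sq_eq, A.2, one_smul]
  by_cases hD : t ^ 2 - 4 = 0
  · have h : (t - 1) * (t + 1) = 0 := by linear_combination hD + three_eq_zero (F := F)
    right; right
    rcases mul_eq_zero.mp h with h | h
    · right
      rw [sub_eq_zero.mp h] at hs
      simp only [add_mul, mul_add, hs, one_smul, one_mul, mul_one]
      refine Eq.trans ?_ (show (3 : F) • (A : M2) = 0 by rw [three_eq_zero, zero_smul])
      module
    · left
      rw [eq_neg_of_add_eq_zero_left h] at hs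
      simp only [sub_mul, mul_sub, hs, one_mul, mul_one]
      refine Eq.trans ?_ (show (-3 : F) • (A : M2) = 0 by rw [three_eq_zero, neg_zero, zero_smul])
      module
  haveI : CharP M2 3 := charP_of_injective_algebraMap (algebraMap F M2).injective 3
  set I : M2 := ((A⁻¹ : S2) : M2)
  set q := Fintype.card F with hq
  have hodd : Odd q := hF ▸ Odd.pow (by decide)
  obtain ⟨j, hj⟩ := hodd
  have hcomm : Commute (A : M2) I := (mul_inv' A).trans (inv_mul' A).symm
  have hadd : (A : M2) ^ q + I ^ q = t • 1 := by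
    rw [hF, ← add_pow_char_pow_of_commute 3 α hcomm, add_inv_eq, smul_pow, one_pow, ← hF, FiniteField.pow_card]
  have hE : ((A : M2) - I) ^ 2 = (t ^ 2 - 4) • 1 := by
    have e : ((A : M2) - I) ^ 2 + (4 : F) • (1 : M2) = ((A : M2) + I) ^ 2 := by
      rw [sq, sq, sub_mul, mul_sub, mul_sub, add_mul, mul_add, mul_add, mul_inv', inv_mul']
      module
    rw [add_inv_eq, smul_pow, one_pow] at e
    rw [sub_smul, eq_sub_iff_add_eq, e]
  have hsub : (A : M2) ^ q - I ^ q = (t ^ 2 - 4) ^ j • ((A : M2) - I) := by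
    rw [hF, ← sub_pow_char_pow_of_commute 3 α hcomm, ← hF, hj, pow_succ, pow_mul, hE, smul_pow, one_pow,
      Matrix.smul_mul, Matrix.one_mul]
  have hsum : (2 : F) • (A : M2) ^ q = ((A : M2) + I) + (t ^ 2 - 4) ^ j • ((A : M2) - I) := by
    rw [← hsub, add_inv_eq, ← hadd]; module
  have hpm : (t ^ 2 - 4) ^ j = 1 ∨ (t ^ 2 - 4) ^ j = -1 := by
    rw [← mul_self_eq_one_iff, ← pow_add]
    have h := FiniteField.pow_card_sub_one_eq_one (t ^ 2 - 4) hD
    rwa [← hq, show q - 1 = j + j by omega] at h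
  have hres : A ^ q = A ∨ A ^ q = A⁻¹ := by
    rcases hpm with h | h <;> rw [h] at hsum
    · left
      refine Subtype.ext ?_
      rw [Matrix.SpecialLinearGroup.coe_pow]
      refine smul_right_injective M2 two_ne (?_ : (2 : F) • _ = (2 : F) • _)
      rw [hsum]; module
    · right
      refine Subtype.ext ?_
      rw [Matrix.SpecialLinearGroup.coe_pow]
      refine smul_right_injective M2 two_ne (?_ : (2 : F) • _ = (2 : F) • I)
      rw [hsum]; module
  rcases hres with h | h
  · left
    have : A ^ (q - 1) * A = 1 * A := by rw [← pow_succ, show q - 1 + 1 = q by omega, h, one_mul]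
    exact mul_right_cancel this
  · right; left
    rw [pow_succ, h, inv_mul_cancel]

/-- The acting group. -/
abbrev Act (F : Type) [Field F] [CharP F 3] (N : ℕ) :=
  ↥((rep : ℤˣ × Matrix.SpecialLinearGroup (Fin 2) F →* Module.End F (Fin N → Matrix (Fin 2) (Fin 2) F)).toHomUnits.range)

/-- The action by automorphisms. -/
def phi (F : Type) [Field F] [CharP F 3] (N : ℕ) :
    Act F N →* MulAut (Multiplicative (Fin N → Matrix (Fin 2) (Fin 2) F)) :=
  (MulAutMultiplicative (Fin N → Matrix (Fin 2) (Fin 2) F)).symm.toMonoidHom.comp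
    ((DistribMulAction.toAddAut (Module.End F (Fin N → Matrix (Fin 2) (Fin 2) F))ˣ
      (Fin N → Matrix (Fin 2) (Fin 2) F)).comp (Subgroup.subtype _))

/-- The group. -/
abbrev Grp (F : Type) [Field F] [CharP F 3] (N : ℕ) :=
  Multiplicative (Fin N → Matrix (Fin 2) (Fin 2) F) ⋊[phi F N] Act F N

/-- The operator of an element of the acting group. -/
def opOf (g : Act F N) : Module.End F (Fin N → M2) := (g.1 : (Module.End F (Fin N → M2))ˣ)

omit [Fintype F] in
theorem pow_spec (h : Grp F N) (k : ℕ) :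
    (h ^ k).right = h.right ^ k ∧
      Multiplicative.toAdd (h ^ k).left =
        (∑ i ∈ Finset.range k, opOf h.right ^ i) (Multiplicative.toAdd h.left) := by
  induction k with
  | zero => simp
  | succ k ih =>
    rw [pow_succ', SemidirectProduct.mul_right, SemidirectProduct.mul_left, ih.1, pow_succ', toAdd_mul,
      Finset.sum_range_succ']
    refine ⟨rfl, ?_⟩
    show _ + opOf h.right (Multiplicative.toAdd (h ^ k).left) = _
    rw [ih.2, add_comm, LinearMap.add_apply, pow_zero, Module.End.one_apply]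
    congr 1
    simp only [pow_succ', ← Finset.mul_sum, Module.End.mul_apply]

omit [Fintype F] in
theorem pow_eq_one (h : Grp F N) (k : ℕ) (h1 : opOf h.right ^ k = 1)
    (h2 : (∑ i ∈ Finset.range k, opOf h.right ^ i) (Multiplicative.toAdd h.left) = 0) : h ^ k = 1 := by
  obtain ⟨e1, e2⟩ := pow_spec h k
  refine SemidirectProduct.ext ?_ ?_
  · rw [SemidirectProduct.one_left]; exact Multiplicative.toAdd.injective (e2.trans h2)
  · rw [e1, SemidirectProduct.one_right]
    exact Subtype.ext (Units.ext h1)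

omit [Fintype F] in
theorem geom_cube {R : Type*} [Ring R] [CharP R 3] {T : R} (h : (T - 1) ^ 3 = 0) :
    T ^ 3 = 1 := by
  rw [sub_pow_char_of_commute _ (Commute.one_right T), one_pow, sub_eq_zero] at h
  exact h

omit [Fintype F] in
theorem geom_neg {R : Type*} [Ring R] {T : R} (h : T ^ 3 = 1) :
    (-T) ^ 6 = 1 ∧ ∑ i ∈ Finset.range 6, (-T) ^ i = 0 := by
  have q3 : (-T) ^ 3 = -1 := by rw [Odd.neg_pow (show Odd 3 by decide), h]
  refine ⟨by rw [show (6 : ℕ) = 3 * 2 from rfl, pow_mul, q3, neg_one_sq], ?_⟩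
  rw [show (6 : ℕ) = 3 + 3 from rfl, Finset.sum_range_add]
  simp only [pow_add, q3, neg_one_mul, Finset.sum_neg_distrib, add_neg_cancel]

omit [Fintype F] in
theorem end_three (X : Module.End F (Fin N → M2)) : X + X + X = 0 := by
  rw [show X + X + X = (3 : F) • X by module, three_eq_zero, zero_smul]

omit [Fintype F] in
/-- A unipotent acts with a nilpotent part of class three. -/
theorem unip_nil (A : S2) (hA : ((A : M2) - 1) * ((A : M2) - 1) = 0) :
    ((rep (1, A) : Module.End F (Fin N → M2)) - 1) ^ 3 = 0 := by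
  set K : M2 := (A : M2) - 1 with hK
  set L : M2 := tw K with hL
  have hA' : (A : M2) = 1 + K := by rw [hK]; abel
  have hLL : L * L = 0 := by rw [hL, ← tw_mul, hA, tw_zero]
  have hD : ∀ (v : Fin N → M2) i, (rep (1, A) - 1) v i = K * v i + v i * L + K * v i * L := by
    intro v i
    rw [LinearMap.sub_apply, Pi.sub_apply, rep_apply, Module.End.one_apply, hA', tw_add, tw_one]
    simp only [sgn, Units.val_one, Int.cast_one, one_smul, Matrix.add_mul, Matrix.mul_add, Matrix.one_mul, Matrix.mul_one]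
    abel
  refine LinearMap.ext fun v => funext fun i => ?_
  rw [pow_succ, pow_two, Module.End.mul_apply, Module.End.mul_apply, hD, hD, hD]
  have e1 : ∀ Y : M2, K * (K * Y) = 0 := fun Y => by rw [← Matrix.mul_assoc, hA, Matrix.zero_mul]
  simp only [Matrix.mul_add, Matrix.add_mul, Matrix.mul_assoc, hLL, e1, Matrix.mul_zero, add_zero, zero_add,
    LinearMap.zero_apply, Pi.zero_apply, Matrix.zero_mul]

theorem orders_le {α : ℕ} (hα : Odd α) (hF : Fintype.card F = 3 ^ α) (h : Grp F N) :
    orderOf h ∣ 6 ∨ orderOf h ∣ 9 ∨ orderOf h ∣ Fintype.card F - 1 ∨ orderOf h ∣ (Fintype.card F + 1) / 2 := by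
  haveI : CharP (Module.End F (Fin N → M2)) 3 ∨ N = 0 := by
    rcases Nat.eq_zero_or_pos N with h | h
    · exact Or.inr h
    · haveI : Nonempty (Fin N) := ⟨⟨0, h⟩⟩
      exact Or.inl (charP_of_injective_algebraMap (algebraMap F (Module.End F (Fin N → M2))).injective 3)
  obtain ⟨⟨e, A⟩, he⟩ := h.right.2
  have hT : opOf h.right = rep (e, A) := by
    show (h.right.1 : (Module.End F (Fin N → M2))ˣ).val = _
    rw [← he]; rfl
  set q := Fintype.card F with hq
  obtain ⟨l, hl⟩ := hα
  have hq8 : q % 8 = 3 := by rw [hF, hl, pow_succ, pow_mul, Nat.mul_mod, Nat.pow_mod]; norm_num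
  have hq3 : q % 3 = 0 := by rw [hF, hl, pow_succ]; exact Nat.mul_mod_left _ _
  -- the two basic cases
  have hinv : opOf h.right ^ 2 = 1 → orderOf h ∣ 6 := fun h2 => by
    refine orderOf_dvd_of_pow_eq_one (pow_eq_one h 6 (by rw [show (6 : ℕ) = 2 * 3 from rfl, pow_mul, h2, one_pow]) ?_)
    have e3 := end_three (opOf h.right)
    have e1 := end_three (1 : Module.End F (Fin N → M2))
    simp only [Finset.sum_range_succ, Finset.sum_range_zero, zero_add, pow_zero, pow_one, h2,
      pow_succ (opOf h.right) 2, pow_succ (opOf h.right) 3, pow_succ (opOf h.right) 4, one_mul,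
      ← pow_two]
    rw [show (1 : Module.End F (Fin N → M2)) + opOf h.right + 1 + opOf h.right + 1 + opOf h.right =
      (1 + 1 + 1) + (opOf h.right + opOf h.right + opOf h.right) by abel, e1, e3, add_zero, LinearMap.zero_apply]
  have hsemi : ∀ k : ℕ, ¬ 4 ∣ k → ¬ 3 ∣ k → (A ^ 2) ^ k = 1 → ∀ M : ℕ, opOf h.right ^ M = 1 →
      orderOf h ∣ 6 ∨ orderOf h ∣ M := by
    intro k hk4 hk3 hB M hM
    by_cases h2 : opOf h.right ^ 2 = 1
    · exact Or.inl (hinv h2)
    right
    refine orderOf_dvd_of_pow_eq_one (pow_eq_one h M hM ?_)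
    set w := (∑ i ∈ Finset.range M, opOf h.right ^ i) (Multiplicative.toAdd h.left)
    have hw : opOf h.right w = w := by
      have := mul_geom_sum (opOf h.right) M
      rw [hM, sub_self, sub_mul, one_mul, sub_eq_zero] at this
      exact LinearMap.congr_fun this _
    by_contra hw0
    obtain ⟨i, hi⟩ := Function.ne_iff.mp hw0
    refine h2 ?_
    have hsq : opOf h.right ^ 2 = rep (1, A ^ 2) := by
      rw [hT, ← map_pow, Prod.pow_mk, Int.units_sq]
    rw [hsq]
    refine sq_trivial (A ^ 2) hB hk4 hk3 hi ?_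
    have hww : (opOf h.right ^ 2) w = w := by rw [pow_two, Module.End.mul_apply, hw, hw]
    have := congrFun hww i
    rwa [hsq, rep_apply, show sgn (1 : ℤˣ) = (1 : F) by simp [sgn], one_smul] at this
  -- the unipotent case
  have hunip : ∀ U : S2, ((U : M2) - 1) * ((U : M2) - 1) = 0 → opOf h.right = rep (e, U) →
      orderOf h ∣ 6 ∨ orderOf h ∣ 9 := by
    intro U hU hTU
    rcases this with hc | hN
    swap
    · subst hN
      exact Or.inl (hinv (LinearMap.ext fun v => funext fun i => i.elim0))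
    have hn := unip_nil (N := N) U hU
    rcases Int.units_eq_one_or e with rfl | rfl
    · right
      have h3 := geom_cube hn
      rw [← hTU] at h3
      refine orderOf_dvd_of_pow_eq_one (pow_eq_one h 9 (by rw [show (9 : ℕ) = 3 * 3 from rfl, pow_mul, h3, one_pow]) ?_)
      have : ∑ i ∈ Finset.range 9, opOf h.right ^ i = (∑ i ∈ Finset.range 3, opOf h.right ^ i) +
          (∑ i ∈ Finset.range 3, opOf h.right ^ i) + (∑ i ∈ Finset.range 3, opOf h.right ^ i) := by
        rw [show (9 : ℕ) = 3 + 3 + 3 from rfl, Finset.sum_range_add, Finset.sum_range_add]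
        simp only [pow_add, h3, one_mul]
      rw [this, end_three, LinearMap.zero_apply]
    · left
      set T' : Module.End F (Fin N → M2) := rep (1, U) with hT'
      have hneg : opOf h.right = -T' := by
        rw [hTU, hT']
        refine LinearMap.ext fun v => funext fun i => ?_
        simp [rep_apply, sgn]
      have h3 := geom_cube hn
      obtain ⟨g6, gs⟩ := geom_neg (R := Module.End F (Fin N → M2)) h3
      refine orderOf_dvd_of_pow_eq_one (pow_eq_one h 6 ?_ ?_)
      · rw [hneg]; exact g6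
      · rw [hneg]
        exact LinearMap.congr_fun gs _
  rcases trichotomy hF A with h1 | h1 | h1 | h1
  · have : opOf h.right ^ (q - 1) = 1 := by
      rw [hT, ← map_pow, Prod.pow_mk, h1, ← Nat.two_mul_div_two_of_even (n := q - 1) (by rw [Nat.even_iff]; omega),
        pow_mul, Int.units_sq, one_pow, ← Prod.one_eq_mk, map_one]
    rcases hsemi ((q - 1) / 2) (by omega) (by omega)
      (by rw [← pow_mul, show 2 * ((q - 1) / 2) = q - 1 by omega, h1]) _ this with r | r
    · exact Or.inl r
    · exact Or.inr (Or.inr (Or.inl r))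
  · have hA2 : (A ^ 2) ^ ((q + 1) / 2) = 1 := by rw [← pow_mul, show 2 * ((q + 1) / 2) = q + 1 by omega, h1]
    have : opOf h.right ^ ((q + 1) / 2) = 1 := by
      have hA : A ^ ((q + 1) / 2) = 1 ∨ A ^ ((q + 1) / 2) = Classical.SL2Two.negOne :=
        (Classical.SL2Two.sq_eq_one_iff two_ne _).mp (by rw [← pow_add, ← h1]; congr 1; omega)
      rw [hT, ← map_pow, Prod.pow_mk, show e ^ ((q + 1) / 2) = 1 by
        rw [show (q + 1) / 2 = 2 * ((q + 1) / 4) by omega, pow_mul, Int.units_sq, one_pow]]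
      rcases hA with hA | hA
      · rw [hA, ← Prod.one_eq_mk, map_one]
      · rw [hA, rep_neg (1 : ℤˣ) (A := (1 : S2)) (B := Classical.SL2Two.negOne)
          (by rw [Classical.SL2Two.coe_negOne, Matrix.SpecialLinearGroup.coe_one]), ← Prod.one_eq_mk, map_one]
    rcases hsemi ((q + 1) / 2) (by omega) (by omega) hA2 _ this with r | r
    · exact Or.inl r
    · exact Or.inr (Or.inr (Or.inr r))
  · rcases hunip A h1 hT with r | r
    · exact Or.inl r
    · exact Or.inr (Or.inl r)
  · have hn : ((Classical.SL2Two.negOne * A : S2) : M2) = -(A : M2) := by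
      rw [Matrix.SpecialLinearGroup.coe_mul, Classical.SL2Two.coe_negOne, neg_one_mul]
    rcases hunip (Classical.SL2Two.negOne * A)
      (by rw [hn, show -(A : M2) - 1 = -((A : M2) + 1) by abel, neg_mul_neg, h1])
      (hT.trans (rep_neg e hn).symm) with r | r
    · exact Or.inl r
    · exact Or.inr (Or.inl r)

/-- A group element from an operator and a vector. -/
def el (e : ℤˣ) (A : S2) (v : Fin N → M2) : Grp F N :=
  ⟨Multiplicative.ofAdd v, ⟨(rep : ℤˣ × S2 →* Module.End F (Fin N → M2)).toHomUnits (e, A), ⟨(e, A), rfl⟩⟩⟩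

omit [Fintype F] in
theorem opOf_el (e : ℤˣ) (A : S2) (v : Fin N → M2) : opOf (el e A v).right = rep (e, A) := rfl

omit [Fintype F] in
theorem op_pow_of_pow (h : Grp F N) {k : ℕ} (hk : h ^ k = 1) :
    opOf h.right ^ k = 1 ∧ (∑ i ∈ Finset.range k, opOf h.right ^ i) (Multiplicative.toAdd h.left) = 0 := by
  obtain ⟨e1, e2⟩ := pow_spec h k
  rw [hk] at e1 e2
  exact ⟨(congrArg (fun g : Act F N => ((g.1 : (Module.End F (Fin N → M2))ˣ) : Module.End F (Fin N → M2)))
    (e1.symm.trans SemidirectProduct.one_right)), e2.symm.trans rfl⟩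

/-- A unipotent matrix. -/
def uni : S2 := ⟨!![1, 1; 0, 1], by simp [Matrix.det_fin_two]⟩

omit [Fintype F] in
theorem uni_nil : (((uni : S2) : M2) - 1) * (((uni : S2) : M2) - 1) = 0 := by
  show (!![1, 1; 0, 1] - 1 : M2) * (!![1, 1; 0, 1] - 1) = 0
  ext i j
  fin_cases i <;> fin_cases j <;> simp [Matrix.mul_apply, Fin.sum_univ_two]

omit [Fintype F] in
/-- A matrix acting trivially is a scalar of square one. -/
theorem ker_rep (hN : 0 < N) {e : ℤˣ} {A : S2} (h : (rep (e, A) : Module.End F (Fin N → M2)) = 1) :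
    A * A = 1 := by
  have hX : ∀ X : M2, (sgn e : F) • ((A : M2) * X * tw (A : M2)) = X := fun X =>
    congrFun (LinearMap.congr_fun h fun _ => X) ⟨0, hN⟩
  have h1 := hX 1
  rw [Matrix.mul_one] at h1
  have hcomm : ∀ X : M2, (A : M2) * X = X * (A : M2) := by
    intro X
    have hr : ((sgn e : F) • tw (A : M2)) = ((A⁻¹ : S2) : M2) := by
      calc (sgn e : F) • tw (A : M2) = ((A⁻¹ : S2) : M2) * ((sgn e : F) • ((A : M2) * tw (A : M2))) := by
            rw [Matrix.mul_smul, ← Matrix.mul_assoc, inv_mul', Matrix.one_mul]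
        _ = _ := by rw [h1, Matrix.mul_one]
    have := hX X
    rw [← Matrix.mul_smul, hr] at this
    calc (A : M2) * X = (A : M2) * X * (((A⁻¹ : S2) : M2) * (A : M2)) := by rw [inv_mul', Matrix.mul_one]
      _ = X * (A : M2) := by rw [← Matrix.mul_assoc, this]
  have a1 := congrFun (congrFun (hcomm !![0, 1; 0, 0]) 0) 1
  have a2 := congrFun (congrFun (hcomm !![0, 1; 0, 0]) 1) 1
  have a3 := congrFun (congrFun (hcomm !![0, 0; 1, 0]) 0) 0
  simp [Matrix.mul_apply, Fin.sum_univ_two] at a1 a2 a3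
  have hb : (A : M2) = (A : M2) 0 0 • 1 := by
    ext i j
    fin_cases i <;> fin_cases j <;> simp [a1, a2, a3]
  refine Subtype.ext ?_
  rw [Matrix.SpecialLinearGroup.coe_mul, Matrix.SpecialLinearGroup.coe_one, hb, Matrix.smul_mul, Matrix.one_mul,
    smul_smul, scalar_sq hb, one_smul]

theorem exists_order_succ (h4 : Fintype.card F % 4 = 3) : ∃ A : S2, orderOf A = Fintype.card F + 1 := by
  classical
  haveI : Fact (Nat.Prime 3) := ⟨Nat.prime_three⟩
  set C := Subgroup.centralizer ({Classical.SL2Two.g0} : Set S2)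
  have hcard : Nat.card ↥C = Fintype.card F + 1 := (Classical.SL2Two.card_centralizer_g0 two_ne).2 h4
  have h3 : Fintype.card F % 3 = 0 := by
    obtain ⟨n, -, hn⟩ := FiniteField.card F 3
    rw [hn, Nat.pow_mod]; simp [(PNat.pos n).ne']
  have hns : ¬ ∃ a : F, ((Classical.SL2Two.g0 : S2) : M2) = a • 1 := by
    rintro ⟨a, ha⟩
    have := congrFun (congrFun ha 1) 0
    simp [Classical.SL2Two.g0] at this
  haveI := Classical.SL2.isCyclic_of_central 3 C (by
    rw [hcard, Nat.coprime_comm, Nat.prime_three.coprime_iff_not_dvd]; omega) _ hns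
    fun x hx => (Subgroup.mem_centralizer_singleton_iff.mp hx).symm
  obtain ⟨g, hg⟩ := IsCyclic.exists_ofOrder_eq_natCard (α := ↥C)
  exact ⟨g, by rw [Subgroup.orderOf_coe, hg, hcard]⟩

theorem orders_ge {α : ℕ} (hN : 0 < N) (hα : Odd α) (h2 : 2 ≤ α) (hF : Fintype.card F = 3 ^ α) :
    (∀ n ∈ ({6, 9, Fintype.card F - 1, (Fintype.card F + 1) / 2} : Set ℕ), ∃ h : Grp F N, orderOf h = n) := by
  classical
  set q := Fintype.card F with hq
  obtain ⟨l, hl⟩ := hα
  have hq8 : q % 8 = 3 := by rw [hF, hl, pow_succ, pow_mul, Nat.mul_mod, Nat.pow_mod]; norm_num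
  have hq3 : q % 3 = 0 := by rw [hF, hl, pow_succ]; exact Nat.mul_mod_left _ _
  have hbig : 27 ≤ q := hF ▸ (show (3 : ℕ) ^ 3 ≤ 3 ^ α from Nat.pow_le_pow_right (by norm_num) (by omega))
  haveI : Nonempty (Fin N) := ⟨⟨0, hN⟩⟩
  haveI : CharP (Module.End F (Fin N → M2)) 3 :=
    charP_of_injective_algebraMap (algebraMap F (Module.End F (Fin N → M2))).injective 3
  haveI : Fact (Nat.Prime 3) := ⟨Nat.prime_three⟩
  haveI : Fact (Nat.Prime 2) := ⟨Nat.prime_two⟩
  have hU3 := geom_cube (unip_nil (N := N) (uni : S2) uni_nil)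
  have hU1 : (rep (1, uni) : Module.End F (Fin N → M2)) ≠ 1 := fun h => by
    have := congrFun (congrFun (congrArg (fun B : S2 => (B : M2)) (ker_rep hN h)) 0) 1
    simp only [Matrix.SpecialLinearGroup.coe_mul] at this
    simp [uni, Matrix.mul_apply, Fin.sum_univ_two] at this
    exact two_ne (F := F) (by linear_combination this)
  -- an element whose order is a multiple of a maximal one
  have key : ∀ (h : Grp F N) (n : ℕ), n ∣ orderOf h → 9 < n → (n = q - 1 ∨ n = (q + 1) / 2) → orderOf h = n := by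
    intro h n hn h9 hcase
    rcases orders_le ⟨l, hl⟩ hF h with r | r | r | r
    · have := Nat.le_of_dvd (by norm_num) (hn.trans r); omega
    · have := Nat.le_of_dvd (by norm_num) (hn.trans r); omega
    · rcases hcase with e | e
      · exact Nat.dvd_antisymm (e ▸ r) hn
      · have d1 := hn.trans r
        have d2 : n ∣ q + 1 := e ▸ Nat.div_dvd_of_dvd (show 2 ∣ q + 1 by omega)
        have d3 := Nat.dvd_sub d2 d1
        have := Nat.le_of_dvd (by omega) d3
        omega
    · rcases hcase with e | e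
      · have := Nat.le_of_dvd (by omega) (hn.trans r); omega
      · exact Nat.dvd_antisymm (e ▸ r) hn
  intro n hn
  simp only [Set.mem_insert_iff, Set.mem_singleton_iff] at hn
  rcases hn with rfl | rfl | rfl | rfl
  · refine ⟨el (-1) uni 0, ?_⟩
    have hcoe : (rep (-1, (uni : S2)) : Module.End F (Fin N → M2)) = -(rep (1, (uni : S2)) : Module.End F (Fin N → M2)) :=
      LinearMap.ext fun v => funext fun i => by simp [rep_apply, sgn]
    obtain ⟨g6, -⟩ := geom_neg hU3
    have h6 : el (-1) (uni : S2) (0 : Fin N → M2) ^ 6 = 1 :=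
      pow_eq_one _ 6 (by rw [opOf_el, hcoe]; exact g6) (map_zero _)
    have hd := orderOf_dvd_of_pow_eq_one h6
    have n2 : ¬ orderOf (el (-1) (uni : S2) (0 : Fin N → M2)) ∣ 2 := fun h => by
      have := (op_pow_of_pow _ (orderOf_dvd_iff_pow_eq_one.mp h)).1
      rw [opOf_el, ← map_pow, Prod.pow_mk, Int.units_sq] at this
      have h4 := ker_rep hN this
      have := congrFun (congrFun (congrArg (fun B : S2 => (B : M2)) h4) 0) 1
      simp only [sq, Matrix.SpecialLinearGroup.coe_mul] at this
      simp [uni, Matrix.mul_apply, Fin.sum_univ_two] at this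
      exact one_ne_zero (α := F) (by linear_combination this - three_eq_zero (F := F))
    have n3 : ¬ orderOf (el (-1) (uni : S2) (0 : Fin N → M2)) ∣ 3 := fun h => by
      have := (op_pow_of_pow _ (orderOf_dvd_iff_pow_eq_one.mp h)).1
      rw [opOf_el, hcoe] at this
      have e : -(1 : Module.End F (Fin N → M2)) = 1 :=
        (Eq.trans (Odd.neg_pow (show Odd 3 by decide) _) (congrArg Neg.neg hU3)).symm.trans this
      have := congrFun (congrFun (congrFun (LinearMap.congr_fun e fun _ => (1 : M2)) ⟨0, hN⟩) 0) 0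
      simp at this
      exact two_ne (F := F) (by linear_combination -this)
    have := Nat.le_of_dvd (by norm_num) hd
    interval_cases ho : orderOf (el (-1) (uni : S2) (0 : Fin N → M2)) <;> first | rfl | omega | norm_num at hd n2 n3
  · -- a vector outside the kernel of the norm
    set X : M2 := !![0, 0; 0, 1]
    refine ⟨el 1 uni (fun _ => X), ?_⟩
    refine orderOf_eq_prime_pow (p := 3) (n := 1) ?_ ?_
    · intro h
      obtain ⟨-, h2⟩ := op_pow_of_pow _ h
      rw [opOf_el, show (3 : ℕ) ^ 1 = 3 from rfl] at h2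
      have hT : ∀ Y : M2, (rep (1, (uni : S2)) : Module.End F (Fin N → M2)) (fun _ => Y) =
          fun _ => !![1, 1; 0, 1] * Y * !![1, 0; 1, 1] := fun Y => funext fun i => by
        have ht : tw ((uni : S2) : M2) = !![1, 0; 1, 1] := by
          ext a b; fin_cases a <;> fin_cases b <;> simp [tw, uni, frobenius_def]
        rw [rep_apply, ht]; simp [sgn, uni]
      have hv : Multiplicative.toAdd (el 1 (uni : S2) fun _ : Fin N => X).left = fun _ => X := rfl
      simp only [Finset.sum_range_succ, Finset.sum_range_zero, zero_add, pow_zero, pow_one, pow_two,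
        LinearMap.add_apply, Module.End.mul_apply, Module.End.one_apply, hv, hT] at h2
      have := congrFun (congrFun (congrFun h2 ⟨0, hN⟩) 0) 0
      simp only [Pi.add_apply, Matrix.add_apply, Pi.zero_apply, Matrix.zero_apply] at this
      simp [X, Matrix.mul_apply, Fin.sum_univ_two] at this
      exact two_ne (F := F) (by linear_combination this - three_eq_zero (F := F))
    · refine pow_eq_one _ 9 (by rw [opOf_el, show (9 : ℕ) = 3 * 3 from rfl, pow_mul, hU3, one_pow]) ?_
      have : ∑ i ∈ Finset.range 9, (rep (1, uni) : Module.End F (Fin N → M2)) ^ i =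
          (∑ i ∈ Finset.range 3, rep (1, uni) ^ i) + (∑ i ∈ Finset.range 3, rep (1, uni) ^ i) +
            (∑ i ∈ Finset.range 3, rep (1, uni) ^ i) := by
        rw [show (9 : ℕ) = 3 + 3 + 3 from rfl, Finset.sum_range_add, Finset.sum_range_add]
        simp only [pow_add, hU3, one_mul]
      rw [opOf_el, this, end_three, LinearMap.zero_apply]
  · obtain ⟨c, hc⟩ := IsCyclic.exists_ofOrder_eq_natCard (α := Fˣ)
    rw [Nat.card_units, Nat.card_eq_fintype_card, ← hq] at hc
    set D : S2 := ⟨!![(c : F), 0; 0, (↑c⁻¹ : F)], by simp [Matrix.det_fin_two]⟩ with hD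
    refine ⟨el (-1) D 0, key _ _ ?_ (by omega) (Or.inl rfl)⟩
    set o := orderOf (el (-1) D (0 : Fin N → M2))
    have hE : ∀ k : ℕ, ((rep (-1, D) : Module.End F (Fin N → M2)) ^ k) (fun _ => !![1, 0; 0, 0]) =
        fun _ => ((-(c : F) ^ 4) ^ k) • !![1, 0; 0, 0] := by
      intro k
      induction k with
      | zero => simp
      | succ k ih =>
        rw [pow_succ, Module.End.mul_apply]
        have : (rep (-1, D) : Module.End F (Fin N → M2)) (fun _ => !![1, 0; 0, 0]) =
            (-(c : F) ^ 4) • (fun _ => !![1, 0; 0, 0]) := by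
          funext i
          rw [rep_apply, Pi.smul_apply]
          ext a b
          fin_cases a <;> fin_cases b <;>
            simp [D, sgn, tw, Matrix.mul_apply, Matrix.vecMul, dotProduct, Fin.sum_univ_two, frobenius_def]
          ring
        rw [this, map_smul, ih]
        funext i
        rw [Pi.smul_apply, smul_smul, ← pow_succ']
    have hp := (op_pow_of_pow _ (pow_orderOf_eq_one (el (-1) D (0 : Fin N → M2)))).1
    have h1 := congrFun (congrFun (congrFun (hE o) ⟨0, hN⟩) 0) 0
    rw [show (rep (-1, D) : Module.End F (Fin N → M2)) ^ o = 1 from hp] at h1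
    simp at h1
    have heven : Even o := by
      by_contra ho
      rw [Nat.not_even_iff_odd] at ho
      rw [ho.neg_pow, ← pow_mul] at h1
      have h2 : ((c : F) ^ (4 * o)) ^ ((q - 1) / 2) = (-1) ^ ((q - 1) / 2) := by
        rw [show (c : F) ^ (4 * o) = -1 by linear_combination h1]
      have hodd : Odd ((q - 1) / 2) := by rw [Nat.odd_iff]; omega
      rw [hodd.neg_one_pow, ← pow_mul, show 4 * o * ((q - 1) / 2) = (q - 1) * (2 * o) by
        rw [show q - 1 = 2 * ((q - 1) / 2) by omega]; rw [Nat.mul_div_cancel_left _ two_pos]; ring,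
        pow_mul, ← Units.val_pow_eq_pow_val, ← hc, pow_orderOf_eq_one, Units.val_one, one_pow] at h2
      exact two_ne (F := F) (by linear_combination h2)
    rw [heven.neg_pow, ← pow_mul] at h1
    have h4 : q - 1 ∣ 4 * o := by
      rw [← hc, orderOf_dvd_iff_pow_eq_one]
      exact Units.ext (by rw [Units.val_pow_eq_pow_val, Units.val_one]; linear_combination -h1)
    obtain ⟨j, hj⟩ := heven
    have hq2 : q - 1 = 2 * ((q - 1) / 2) := by omega
    rw [hq2, show 4 * o = 2 * (4 * j) by omega] at h4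
    have h5 := Nat.dvd_of_mul_dvd_mul_left two_pos h4
    have h6 : (q - 1) / 2 ∣ j := by
      refine Nat.Coprime.dvd_of_dvd_mul_left ?_ h5
      rw [show (4 : ℕ) = 2 ^ 2 from rfl]
      exact Nat.Coprime.pow_right 2 (Nat.coprime_comm.mp (Nat.prime_two.coprime_iff_not_dvd.mpr (by omega)))
    obtain ⟨i, hi⟩ := h6
    exact ⟨i, by rw [hq2]; rw [show o = 2 * j by omega, hi]; ring⟩
  · obtain ⟨A, hA⟩ := exists_order_succ (F := F) (by omega)
    refine ⟨el 1 A 0, key _ _ ?_ (by omega) (Or.inr rfl)⟩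
    have hp := (op_pow_of_pow _ (pow_orderOf_eq_one (el 1 A (0 : Fin N → M2)))).1
    rw [opOf_el, ← map_pow, Prod.pow_mk, one_pow] at hp
    have h2 := ker_rep hN hp
    rw [← pow_add, ← orderOf_dvd_iff_pow_eq_one, hA, ← two_mul, show q + 1 = 2 * ((q + 1) / 2) by omega] at h2
    exact Nat.dvd_of_mul_dvd_mul_left two_pos h2

end Cfsg.Agent.TruncRee

namespace Cfsg.Agent.TruncRee

variable {F : Type} [Field F] [CharP F 3] [Fintype F] {N : ℕ}

theorem finite_grp : Finite (Grp F N) := by
  haveI : Finite (Module.End F (Fin N → Matrix (Fin 2) (Fin 2) F)) :=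
    Finite.of_injective (fun T => (T : (Fin N → Matrix (Fin 2) (Fin 2) F) → _)) DFunLike.coe_injective
  haveI : Finite (Multiplicative (Fin N → Matrix (Fin 2) (Fin 2) F)) := Finite.of_equiv _ Multiplicative.ofAdd
  exact Finite.of_equiv _ SemidirectProduct.equivProd.symm

theorem range_orders {α : ℕ} (hN : 0 < N) (hα : Odd α) (h2 : 2 ≤ α) (hF : Fintype.card F = 3 ^ α) (d : ℕ) :
    (∃ h : Grp F N, orderOf h = d) ↔
      (d ∣ 6 ∨ d ∣ 9 ∨ d ∣ Fintype.card F - 1 ∨ d ∣ (Fintype.card F + 1) / 2) := by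
  refine ⟨fun ⟨h, e⟩ => e ▸ orders_le hα hF h, fun hd => ?_⟩
  haveI : Finite (Grp F N) := finite_grp
  have hdown : ∀ n, n ∈ ({6, 9, Fintype.card F - 1, (Fintype.card F + 1) / 2} : Set ℕ) → d ∣ n →
      ∃ h : Grp F N, orderOf h = d := by
    intro n hn hdn
    obtain ⟨x, rfl⟩ := orders_ge hN hα h2 hF n hn
    exact ⟨_, orderOf_pow_orderOf_div (orderOf_pos x).ne' hdn⟩
  rcases hd with h | h | h | h <;> refine hdown _ ?_ h <;> simp

theorem normal_three (hN : 0 < N) :
    ∃ P : Subgroup (Grp F N), P.Normal ∧ P ≠ ⊥ ∧ IsPGroup 3 ↥P := by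
  refine ⟨(SemidirectProduct.inl : _ →* Grp F N).range, ?_, ?_, ?_⟩
  · rw [SemidirectProduct.range_inl_eq_ker_rightHom]; exact MonoidHom.normal_ker _
  · intro h
    have h1 : SemidirectProduct.inl (φ := phi F N) (Multiplicative.ofAdd fun _ => (1 : Matrix (Fin 2) (Fin 2) F)) = 1 :=
      Subgroup.mem_bot.mp (h ▸ ⟨_, rfl⟩)
    rw [← map_one (SemidirectProduct.inl (φ := phi F N)), SemidirectProduct.inl_inj] at h1
    have := congrFun (congrFun (congrFun (congrArg Multiplicative.toAdd h1) ⟨0, hN⟩) 0) 0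
    simp at this
  · rintro ⟨x, v, rfl⟩
    refine ⟨1, Subtype.ext ?_⟩
    rw [SubmonoidClass.coe_pow, pow_one, ← map_pow, OneMemClass.coe_one, ← map_one (SemidirectProduct.inl (φ := phi F N))]
    congr 1
    refine Multiplicative.toAdd.injective ?_
    rw [toAdd_pow, toAdd_one, ← Nat.cast_smul_eq_nsmul F, Nat.cast_ofNat, three_eq_zero, zero_smul]

theorem card_gt : N < Nat.card (Grp F N) := by
  haveI : Finite (Grp F N) := finite_grp
  refine lt_of_lt_of_le ?_ (Nat.card_le_card_of_injective
    (fun s : Fin N → Bool => (SemidirectProduct.inl (φ := phi F N)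
      (Multiplicative.ofAdd fun i => if s i then (1 : Matrix (Fin 2) (Fin 2) F) else 0) : Grp F N)) ?_)
  · simp [Nat.card_fun, Nat.lt_two_pow_self]
  · intro s t h
    funext i
    have := congrFun (congrFun (congrFun (congrArg Multiplicative.toAdd (SemidirectProduct.inl_injective h)) i) 0) 0
    cases hs : s i <;> cases ht : t i <;> simp [hs, ht] at this ⊢

/-- A finite group has a copy in the lowest universe. -/
theorem exists_small {H0 : Type*} [Group H0] [Finite H0] :
    ∃ (H : Type) (_ : Group H) (_ : Fintype H), Fintype.card H = Nat.card H0 ∧ Nonempty (H ≃* H0) := by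
  letI : Fintype H0 := Fintype.ofFinite H0
  let e := Fintype.equivFin H0
  letI := e.symm.group
  exact ⟨Fin (Fintype.card H0), inferInstance, inferInstance, by simp, ⟨e.symm.mulEquiv⟩⟩

/-- Replacing one factor of a triple product. -/
theorem range_triple {R X H : Type*} [Group R] [Group X] [Group H] (e : H ≃* R × R × X) (six four : ℕ → Prop)
    (hR : ∀ d, (∃ g : R, orderOf g = d) ↔ six d) (hX : ∀ d, (∃ g : X, orderOf g = d) ↔ four d)
    (h46 : ∀ {d}, four d → six d)
    (main : ∀ x y z, six x → six y → six z →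
      ∃ x' y' z', six x' ∧ six y' ∧ four z' ∧ x'.lcm (y'.lcm z') = x.lcm (y.lcm z)) :
    Set.range (orderOf : H → ℕ) = Set.range (orderOf : R × R × R → ℕ) := by
  ext d
  simp only [Set.mem_range]
  constructor
  · rintro ⟨h, rfl⟩
    obtain ⟨g, hg⟩ := (hR _).mpr (h46 ((hX _).mp ⟨(e h).2.2, rfl⟩))
    exact ⟨((e h).1, (e h).2.1, g), by rw [← e.orderOf_eq h, Prod.orderOf, Prod.orderOf, Prod.orderOf, Prod.orderOf, hg]⟩
  · rintro ⟨⟨r1, r2, r3⟩, rfl⟩
    obtain ⟨x', y', z', hx, hy, hz, he⟩ := main _ _ _ ((hR _).mp ⟨r1, rfl⟩) ((hR _).mp ⟨r2, rfl⟩) ((hR _).mp ⟨r3, rfl⟩)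
    obtain ⟨g1, hg1⟩ := (hR _).mpr hx
    obtain ⟨g2, hg2⟩ := (hR _).mpr hy
    obtain ⟨g3, hg3⟩ := (hX _).mpr hz
    refine ⟨e.symm (g1, g2, g3), ?_⟩
    rw [e.symm.orderOf_eq, Prod.orderOf, Prod.orderOf, Prod.orderOf, Prod.orderOf, hg1, hg2, hg3, he]

end Cfsg.Agent.TruncRee
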